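import Cfsg.Agent.Lib.Lead.Fi24Out.Base0
import Cfsg.Agent.Lib.Helper6.Fi24Simple
import Cfsg.Agent.Lib.Helper6.OutGeneric

/-! # The outer automorphism group of Fi₂₄′: the image of the commutator subgroup in the permutation group on the rows (generated) -/

set_option autoImplicit false
set_option maxRecDepth 100000

namespace Cfsg.Agent.Fi24Out

open Cfsg.Agent.PF Cfsg.Agent.Lib.Helper6 Cfsg.Agent.Lib.Helper6.TC
open Cfsg.Agent.PL (Acts evalF)

open Cfsg Cfsg.Spor

/-- the action on the rows -/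
noncomputable abbrev ρ : Fi24 →* Equiv.Perm (Fin 306936) := Fi24TC.data.cert.ρ

/-- the image of the commutator subgroup -/
noncomputable abbrev P' : Subgroup (Equiv.Perm (Fin 306936)) := (commutator Fi24).map ρ

/-- the generator `i` -/
noncomputable abbrev gI (i : ℕ) : Fi24 := PresentedGroup.of (Fi24TC.data.gen i)

theorem acts_gen {i : ℕ} (hi : i < 12) : Acts (ρ (gI i)) (fgen i) := by
  intro q hq
  have h1 : ρ (gI i) = Fi24TC.data.T.perm Fi24TC.data.chk_tab i :=
    Simp.ρ_of_gen Fi24TC.data (by rw [← Fi24TC.data.hTg]; exact hi)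
  rw [h1]
  exact Fi24TC.data.T.perm_apply Fi24TC.data.chk_tab hi ⟨q, hq⟩

theorem sgn_gI (i : ℕ) : Fi24Simple.sgn (gI i) = -1 := PresentedGroup.toGroup.of _

theorem gI_zero : gI 0 = Fi24H.lG := rfl

theorem mul_mem_commutator (i : ℕ) : gI 0 * gI i ∈ commutator Fi24 := by
  rcases Fi24Simple.mem_or_mul_mem (commutator Fi24) Fi24Simple.commutator_normal Fi24Simple.commutator_ne_bot
    (gI 0 * gI i) with h | h
  · exact h
  · exfalso
    have h1 := Abelianization.commutator_subset_ker Fi24Simple.sgn h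
    rw [MonoidHom.mem_ker, map_mul, map_mul, sgn_gI, sgn_gI, Fi24Simple.sgn_lG] at h1
    revert h1
    decide

theorem rep_fa {i : ℕ} (hi : i < 12) : Rep P' (fa i) :=
  ⟨ρ (gI 0 * gI i), Subgroup.mem_map_of_mem ρ (mul_mem_commutator i), by
    rw [map_mul]
    exact (acts_gen (i := 0) (by norm_num)).mul (acts_gen hi)⟩

/-- the isomorphism of the commutator subgroup onto its image -/
noncomputable def iso : ↥(commutator Fi24) ≃* ↥P' := (commutator Fi24).equivMapOfInjective ρ Fi24H.ρ_inj

theorem iso_coe (g : ↥(commutator Fi24)) : ((iso g : ↥P') : Equiv.Perm (Fin 306936)) = ρ g.1 := rfl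

theorem card_P' : Nat.card ↥P' = 1255205709190661721292800 := by
  rw [← Fi24Simple.card_commutator]
  exact (Nat.card_congr iso.toEquiv).symm

/-- conjugation by the generator `l`, on the image of the commutator subgroup -/
noncomputable def σ : MulAut ↥P' :=
  haveI := Fi24Simple.commutator_normal
  MulAut.congr iso (MulAut.conjNormal (H := commutator Fi24) (gI 0))

theorem σ_coe (g : ↥P') : ((σ g : ↥P') : Equiv.Perm (Fin 306936)) = ρ (gI 0) * g.1 * ρ (gI 0) := by
  haveI := Fi24Simple.commutator_normal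
  have h1 : ρ (gI 0) * ρ (gI 0) = 1 := by
    rw [← map_mul, gI_zero, Fi24H.lG_mul_self, map_one]
  have h2 : (ρ (gI 0))⁻¹ = ρ (gI 0) := inv_eq_of_mul_eq_one_left h1
  have h3 : ρ (iso.symm g).1 = g.1 := by
    rw [← iso_coe, MulEquiv.apply_symm_apply]
  show ρ ((MulAut.conjNormal (H := commutator Fi24) (gI 0) (iso.symm g) : ↥(commutator Fi24)) : Fi24) = _
  rw [MulAut.conjNormal_apply, map_mul, map_mul, map_inv, h2, h3]

end Cfsg.Agent.Fi24Out
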