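import Cfsg.Agent.Lib.Lead.PF.Tab2
import Cfsg.Agent.Lib.Helper6.Fi24TCData

/-! # The outer automorphism group of Fi₂₄′: the columns of the coset table (generated) -/

set_option autoImplicit false
set_option maxRecDepth 100000

namespace Cfsg.Agent.Fi24Out

open Cfsg.Agent.PF Cfsg.Agent.Lib.Helper6 Cfsg.Agent.Lib.Helper6.TC
open Cfsg.Agent.PL (Acts evalF)

/-- the map of the generator `i` -/
noncomputable def fgen (i : ℕ) : ℕ → ℕ := fun a => Fi24TC.tab.nxt a i

/-- the map of the product of the generators `0` and `i` -/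
noncomputable def fa (i : ℕ) : ℕ → ℕ := fun a => fgen 0 (fgen i a)

end Cfsg.Agent.Fi24Out
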