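import Cfsg.Agent.Lib.Lead.Fi24Out.D11

/-! # The outer automorphism group of Fi₂₄′: the check of the table number 11, slices (generated) -/

set_option autoImplicit false
set_option Elab.async false
set_option maxRecDepth 100000

namespace Cfsg.Agent.Fi24Out

open Cfsg.Agent.PF Cfsg.Agent.Lib.Helper6 Cfsg.Agent.Lib.Helper6.TC
open Cfsg.Agent.PL (Acts evalF)

theorem eq11_20 : allR 219240 10962 (fun q => (fun q => Nat.beq (f11 q) (wordR W11 q)) q) = true := by decide +kernel

theorem eq11_21 : allR 230202 10962 (fun q => (fun q => Nat.beq (f11 q) (wordR W11 q)) q) = true := by decide +kernel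

theorem eq11_22 : allR 241164 10962 (fun q => (fun q => Nat.beq (f11 q) (wordR W11 q)) q) = true := by decide +kernel

theorem eq11_23 : allR 252126 10962 (fun q => (fun q => Nat.beq (f11 q) (wordR W11 q)) q) = true := by decide +kernel

theorem eq11_24 : allR 263088 10962 (fun q => (fun q => Nat.beq (f11 q) (wordR W11 q)) q) = true := by decide +kernel

theorem eq11_25 : allR 274050 10962 (fun q => (fun q => Nat.beq (f11 q) (wordR W11 q)) q) = true := by decide +kernel

theorem eq11_26 : allR 285012 10962 (fun q => (fun q => Nat.beq (f11 q) (wordR W11 q)) q) = true := by decide +kernel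

theorem eq11_27 : allR 295974 10962 (fun q => (fun q => Nat.beq (f11 q) (wordR W11 q)) q) = true := by decide +kernel


end Cfsg.Agent.Fi24Out
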