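import Cfsg.Agent.Lib.Lead.Fi24Out.C11_0
import Cfsg.Agent.Lib.Lead.Fi24Out.C11_1
import Cfsg.Agent.Lib.Lead.Fi24Out.Base0

/-! # The outer automorphism group of Fi₂₄′: the check of the table number 11 (generated) -/

set_option autoImplicit false
set_option maxRecDepth 100000

namespace Cfsg.Agent.Fi24Out

open Cfsg.Agent.PF Cfsg.Agent.Lib.Helper6 Cfsg.Agent.Lib.Helper6.TC
open Cfsg.Agent.PL (Acts evalF)

theorem eq11_all : ∀ q < 306936, (fun q => Nat.beq (f11 q) (wordR W11 q)) q = true :=
  forall_lt_of_chunks (f := fun q => (fun q => Nat.beq (f11 q) (wordR W11 q)) q) [(0, 10962), (10962, 10962), (21924, 10962), (32886, 10962), (43848, 10962), (54810, 10962), (65772, 10962), (76734, 10962), (87696, 10962), (98658, 10962), (109620, 10962), (120582, 10962), (131544, 10962), (142506, 10962), (153468, 10962), (164430, 10962), (175392, 10962), (186354, 10962), (197316, 10962), (208278, 10962), (219240, 10962), (230202, 10962), (241164, 10962), (252126, 10962), (263088, 10962), (274050, 10962), (285012, 10962), (295974, 10962)] (by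 decide)
    (all_cons eq11_0 (all_cons eq11_1 (all_cons eq11_2 (all_cons eq11_3 (all_cons eq11_4 (all_cons eq11_5 (all_cons eq11_6 (all_cons eq11_7 (all_cons eq11_8 (all_cons eq11_9 (all_cons eq11_10 (all_cons eq11_11 (all_cons eq11_12 (all_cons eq11_13 (all_cons eq11_14 (all_cons eq11_15 (all_cons eq11_16 (all_cons eq11_17 (all_cons eq11_18 (all_cons eq11_19 (all_cons eq11_20 (all_cons eq11_21 (all_cons eq11_22 (all_cons eq11_23 (all_cons eq11_24 (all_cons eq11_25 (all_cons eq11_26 (all_cons eq11_27 all_nil))))))))))))))))))))))))))))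

/-- the table agrees with the word -/
theorem eq11 : ∀ q < 306936, f11 q = wordR W11 q :=
  fun q hq => Nat.eq_of_beq_eq_true (eq11_all q hq)

end Cfsg.Agent.Fi24Out
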