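import Cfsg.Agent.Lib.Lead.Fi24Out.D12

/-! # The outer automorphism group of Fi₂₄′: the check of the table number 12, slices (generated) -/

set_option autoImplicit false
set_option Elab.async false
set_option maxRecDepth 100000

namespace Cfsg.Agent.Fi24Out

open Cfsg.Agent.PF Cfsg.Agent.Lib.Helper6 Cfsg.Agent.Lib.Helper6.TC
open Cfsg.Agent.PL (Acts evalF)

theorem eq12_20 : allR 198040 9902 (fun q => (fun q => Nat.beq (f12 q) (wordR W12 q)) q) = true := by decide +kernel

theorem eq12_21 : allR 207942 9902 (fun q => (fun q => Nat.beq (f12 q) (wordR W12 q)) q) = true := by decide +kernel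

theorem eq12_22 : allR 217844 9902 (fun q => (fun q => Nat.beq (f12 q) (wordR W12 q)) q) = true := by decide +kernel

theorem eq12_23 : allR 227746 9902 (fun q => (fun q => Nat.beq (f12 q) (wordR W12 q)) q) = true := by decide +kernel

theorem eq12_24 : allR 237648 9902 (fun q => (fun q => Nat.beq (f12 q) (wordR W12 q)) q) = true := by decide +kernel

theorem eq12_25 : allR 247550 9902 (fun q => (fun q => Nat.beq (f12 q) (wordR W12 q)) q) = true := by decide +kernel

theorem eq12_26 : allR 257452 9902 (fun q => (fun q => Nat.beq (f12 q) (wordR W12 q)) q) = true := by decide +kernel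

theorem eq12_27 : allR 267354 9902 (fun q => (fun q => Nat.beq (f12 q) (wordR W12 q)) q) = true := by decide +kernel

theorem eq12_28 : allR 277256 9902 (fun q => (fun q => Nat.beq (f12 q) (wordR W12 q)) q) = true := by decide +kernel

theorem eq12_29 : allR 287158 9902 (fun q => (fun q => Nat.beq (f12 q) (wordR W12 q)) q) = true := by decide +kernel

theorem eq12_30 : allR 297060 9876 (fun q => (fun q => Nat.beq (f12 q) (wordR W12 q)) q) = true := by decide +kernel


end Cfsg.Agent.Fi24Out
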