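import Cfsg.Agent.Lib.Lead.Fi24Out.C12_0
import Cfsg.Agent.Lib.Lead.Fi24Out.C12_1
import Cfsg.Agent.Lib.Lead.Fi24Out.Base0

/-! # The outer automorphism group of Fi₂₄′: the check of the table number 12 (generated) -/

set_option autoImplicit false
set_option maxRecDepth 100000

namespace Cfsg.Agent.Fi24Out

open Cfsg.Agent.PF Cfsg.Agent.Lib.Helper6 Cfsg.Agent.Lib.Helper6.TC
open Cfsg.Agent.PL (Acts evalF)

theorem eq12_all : ∀ q < 306936, (fun q => Nat.beq (f12 q) (wordR W12 q)) q = true :=
  forall_lt_of_chunks (f := fun q => (fun q => Nat.beq (f12 q) (wordR W12 q)) q) [(0, 9902), (9902, 9902), (19804, 9902), (29706, 9902), (39608, 9902), (49510, 9902), (59412, 9902), (69314, 9902), (79216, 9902), (89118, 9902), (99020, 9902), (108922, 9902), (118824, 9902), (128726, 9902), (138628, 9902), (148530, 9902), (158432, 9902), (168334, 9902), (178236, 9902), (188138, 9902), (198040, 9902), (207942, 9902), (217844, 9902), (227746, 9902), (237648, 9902), (247550, 9902), (257452, 9902), (267354, 9902), (277256, 9902), (287158,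 9902), (297060, 9876)] (by decide)
    (all_cons eq12_0 (all_cons eq12_1 (all_cons eq12_2 (all_cons eq12_3 (all_cons eq12_4 (all_cons eq12_5 (all_cons eq12_6 (all_cons eq12_7 (all_cons eq12_8 (all_cons eq12_9 (all_cons eq12_10 (all_cons eq12_11 (all_cons eq12_12 (all_cons eq12_13 (all_cons eq12_14 (all_cons eq12_15 (all_cons eq12_16 (all_cons eq12_17 (all_cons eq12_18 (all_cons eq12_19 (all_cons eq12_20 (all_cons eq12_21 (all_cons eq12_22 (all_cons eq12_23 (all_cons eq12_24 (all_cons eq12_25 (all_cons eq12_26 (all_cons eq12_27 (all_cons eq12_28 (all_cons eq12_29 (all_cons eq12_30 all_nil)))))))))))))))))))))))))))))))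

/-- the table agrees with the word -/
theorem eq12 : ∀ q < 306936, f12 q = wordR W12 q :=
  fun q hq => Nat.eq_of_beq_eq_true (eq12_all q hq)

end Cfsg.Agent.Fi24Out
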