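import Cfsg.Agent.Lib.Lead.Fi24Out.D12

/-! # The outer automorphism group of Fi₂₄′: the check of the table number 12, slices (generated) -/

set_option autoImplicit false
set_option Elab.async false
set_option maxRecDepth 100000

namespace Cfsg.Agent.Fi24Out

open Cfsg.Agent.PF Cfsg.Agent.Lib.Helper6 Cfsg.Agent.Lib.Helper6.TC
open Cfsg.Agent.PL (Acts evalF)

theorem eq12_0 : allR 0 9902 (fun q => (fun q => Nat.beq (f12 q) (wordR W12 q)) q) = true := by decide +kernel

theorem eq12_1 : allR 9902 9902 (fun q => (fun q => Nat.beq (f12 q) (wordR W12 q)) q) = true := by decide +kernel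

theorem eq12_2 : allR 19804 9902 (fun q => (fun q => Nat.beq (f12 q) (wordR W12 q)) q) = true := by decide +kernel

theorem eq12_3 : allR 29706 9902 (fun q => (fun q => Nat.beq (f12 q) (wordR W12 q)) q) = true := by decide +kernel

theorem eq12_4 : allR 39608 9902 (fun q => (fun q => Nat.beq (f12 q) (wordR W12 q)) q) = true := by decide +kernel

theorem eq12_5 : allR 49510 9902 (fun q => (fun q => Nat.beq (f12 q) (wordR W12 q)) q) = true := by decide +kernel

theorem eq12_6 : allR 59412 9902 (fun q => (fun q => Nat.beq (f12 q) (wordR W12 q)) q) = true := by decide +kernel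

theorem eq12_7 : allR 69314 9902 (fun q => (fun q => Nat.beq (f12 q) (wordR W12 q)) q) = true := by decide +kernel

theorem eq12_8 : allR 79216 9902 (fun q => (fun q => Nat.beq (f12 q) (wordR W12 q)) q) = true := by decide +kernel

theorem eq12_9 : allR 89118 9902 (fun q => (fun q => Nat.beq (f12 q) (wordR W12 q)) q) = true := by decide +kernel

theorem eq12_10 : allR 99020 9902 (fun q => (fun q => Nat.beq (f12 q) (wordR W12 q)) q) = true := by decide +kernel

theorem eq12_11 : allR 108922 9902 (fun q => (fun q => Nat.beq (f12 q) (wordR W12 q)) q) = true := by decide +kernel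

theorem eq12_12 : allR 118824 9902 (fun q => (fun q => Nat.beq (f12 q) (wordR W12 q)) q) = true := by decide +kernel

theorem eq12_13 : allR 128726 9902 (fun q => (fun q => Nat.beq (f12 q) (wordR W12 q)) q) = true := by decide +kernel

theorem eq12_14 : allR 138628 9902 (fun q => (fun q => Nat.beq (f12 q) (wordR W12 q)) q) = true := by decide +kernel

theorem eq12_15 : allR 148530 9902 (fun q => (fun q => Nat.beq (f12 q) (wordR W12 q)) q) = true := by decide +kernel

theorem eq12_16 : allR 158432 9902 (fun q => (fun q => Nat.beq (f12 q) (wordR W12 q)) q) = true := by decide +kernel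

theorem eq12_17 : allR 168334 9902 (fun q => (fun q => Nat.beq (f12 q) (wordR W12 q)) q) = true := by decide +kernel

theorem eq12_18 : allR 178236 9902 (fun q => (fun q => Nat.beq (f12 q) (wordR W12 q)) q) = true := by decide +kernel

theorem eq12_19 : allR 188138 9902 (fun q => (fun q => Nat.beq (f12 q) (wordR W12 q)) q) = true := by decide +kernel


end Cfsg.Agent.Fi24Out
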