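import Cfsg.Agent.Lib.Lead.Fi24Out.D14

/-! # The outer automorphism group of Fi₂₄′: the check of the table number 14, slices (generated) -/

set_option autoImplicit false
set_option Elab.async false
set_option maxRecDepth 100000

namespace Cfsg.Agent.Fi24Out

open Cfsg.Agent.PF Cfsg.Agent.Lib.Helper6 Cfsg.Agent.Lib.Helper6.TC
open Cfsg.Agent.PL (Acts evalF)

theorem eq14_20 : allR 109620 5481 (fun q => (fun q => Nat.beq (f14 q) (wordR W14 q)) q) = true := by decide +kernel

theorem eq14_21 : allR 115101 5481 (fun q => (fun q => Nat.beq (f14 q) (wordR W14 q)) q) = true := by decide +kernel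

theorem eq14_22 : allR 120582 5481 (fun q => (fun q => Nat.beq (f14 q) (wordR W14 q)) q) = true := by decide +kernel

theorem eq14_23 : allR 126063 5481 (fun q => (fun q => Nat.beq (f14 q) (wordR W14 q)) q) = true := by decide +kernel

theorem eq14_24 : allR 131544 5481 (fun q => (fun q => Nat.beq (f14 q) (wordR W14 q)) q) = true := by decide +kernel

theorem eq14_25 : allR 137025 5481 (fun q => (fun q => Nat.beq (f14 q) (wordR W14 q)) q) = true := by decide +kernel

theorem eq14_26 : allR 142506 5481 (fun q => (fun q => Nat.beq (f14 q) (wordR W14 q)) q) = true := by decide +kernel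

theorem eq14_27 : allR 147987 5481 (fun q => (fun q => Nat.beq (f14 q) (wordR W14 q)) q) = true := by decide +kernel

theorem eq14_28 : allR 153468 5481 (fun q => (fun q => Nat.beq (f14 q) (wordR W14 q)) q) = true := by decide +kernel

theorem eq14_29 : allR 158949 5481 (fun q => (fun q => Nat.beq (f14 q) (wordR W14 q)) q) = true := by decide +kernel

theorem eq14_30 : allR 164430 5481 (fun q => (fun q => Nat.beq (f14 q) (wordR W14 q)) q) = true := by decide +kernel

theorem eq14_31 : allR 169911 5481 (fun q => (fun q => Nat.beq (f14 q) (wordR W14 q)) q) = true := by decide +kernel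

theorem eq14_32 : allR 175392 5481 (fun q => (fun q => Nat.beq (f14 q) (wordR W14 q)) q) = true := by decide +kernel

theorem eq14_33 : allR 180873 5481 (fun q => (fun q => Nat.beq (f14 q) (wordR W14 q)) q) = true := by decide +kernel

theorem eq14_34 : allR 186354 5481 (fun q => (fun q => Nat.beq (f14 q) (wordR W14 q)) q) = true := by decide +kernel

theorem eq14_35 : allR 191835 5481 (fun q => (fun q => Nat.beq (f14 q) (wordR W14 q)) q) = true := by decide +kernel

theorem eq14_36 : allR 197316 5481 (fun q => (fun q => Nat.beq (f14 q) (wordR W14 q)) q) = true := by decide +kernel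

theorem eq14_37 : allR 202797 5481 (fun q => (fun q => Nat.beq (f14 q) (wordR W14 q)) q) = true := by decide +kernel

theorem eq14_38 : allR 208278 5481 (fun q => (fun q => Nat.beq (f14 q) (wordR W14 q)) q) = true := by decide +kernel

theorem eq14_39 : allR 213759 5481 (fun q => (fun q => Nat.beq (f14 q) (wordR W14 q)) q) = true := by decide +kernel


end Cfsg.Agent.Fi24Out
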