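import Cfsg.Agent.Lib.Lead.Fi24Out.D14

/-! # The outer automorphism group of Fi₂₄′: the check of the table number 14, slices (generated) -/

set_option autoImplicit false
set_option Elab.async false
set_option maxRecDepth 100000

namespace Cfsg.Agent.Fi24Out

open Cfsg.Agent.PF Cfsg.Agent.Lib.Helper6 Cfsg.Agent.Lib.Helper6.TC
open Cfsg.Agent.PL (Acts evalF)

theorem eq14_40 : allR 219240 5481 (fun q => (fun q => Nat.beq (f14 q) (wordR W14 q)) q) = true := by decide +kernel

theorem eq14_41 : allR 224721 5481 (fun q => (fun q => Nat.beq (f14 q) (wordR W14 q)) q) = true := by decide +kernel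

theorem eq14_42 : allR 230202 5481 (fun q => (fun q => Nat.beq (f14 q) (wordR W14 q)) q) = true := by decide +kernel

theorem eq14_43 : allR 235683 5481 (fun q => (fun q => Nat.beq (f14 q) (wordR W14 q)) q) = true := by decide +kernel

theorem eq14_44 : allR 241164 5481 (fun q => (fun q => Nat.beq (f14 q) (wordR W14 q)) q) = true := by decide +kernel

theorem eq14_45 : allR 246645 5481 (fun q => (fun q => Nat.beq (f14 q) (wordR W14 q)) q) = true := by decide +kernel

theorem eq14_46 : allR 252126 5481 (fun q => (fun q => Nat.beq (f14 q) (wordR W14 q)) q) = true := by decide +kernel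

theorem eq14_47 : allR 257607 5481 (fun q => (fun q => Nat.beq (f14 q) (wordR W14 q)) q) = true := by decide +kernel

theorem eq14_48 : allR 263088 5481 (fun q => (fun q => Nat.beq (f14 q) (wordR W14 q)) q) = true := by decide +kernel

theorem eq14_49 : allR 268569 5481 (fun q => (fun q => Nat.beq (f14 q) (wordR W14 q)) q) = true := by decide +kernel

theorem eq14_50 : allR 274050 5481 (fun q => (fun q => Nat.beq (f14 q) (wordR W14 q)) q) = true := by decide +kernel

theorem eq14_51 : allR 279531 5481 (fun q => (fun q => Nat.beq (f14 q) (wordR W14 q)) q) = true := by decide +kernel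

theorem eq14_52 : allR 285012 5481 (fun q => (fun q => Nat.beq (f14 q) (wordR W14 q)) q) = true := by decide +kernel

theorem eq14_53 : allR 290493 5481 (fun q => (fun q => Nat.beq (f14 q) (wordR W14 q)) q) = true := by decide +kernel

theorem eq14_54 : allR 295974 5481 (fun q => (fun q => Nat.beq (f14 q) (wordR W14 q)) q) = true := by decide +kernel

theorem eq14_55 : allR 301455 5481 (fun q => (fun q => Nat.beq (f14 q) (wordR W14 q)) q) = true := by decide +kernel


end Cfsg.Agent.Fi24Out
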