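import Cfsg.Agent.Lib.Lead.Fi24Out.C14_0
import Cfsg.Agent.Lib.Lead.Fi24Out.C14_1
import Cfsg.Agent.Lib.Lead.Fi24Out.C14_2
import Cfsg.Agent.Lib.Lead.Fi24Out.Base0

/-! # The outer automorphism group of Fi₂₄′: the check of the table number 14 (generated) -/

set_option autoImplicit false
set_option maxRecDepth 100000

namespace Cfsg.Agent.Fi24Out

open Cfsg.Agent.PF Cfsg.Agent.Lib.Helper6 Cfsg.Agent.Lib.Helper6.TC
open Cfsg.Agent.PL (Acts evalF)

theorem eq14_all : ∀ q < 306936, (fun q => Nat.beq (f14 q) (wordR W14 q)) q = true :=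
  forall_lt_of_chunks (f := fun q => (fun q => Nat.beq (f14 q) (wordR W14 q)) q) [(0, 5481), (5481, 5481), (10962, 5481), (16443, 5481), (21924, 5481), (27405, 5481), (32886, 5481), (38367, 5481), (43848, 5481), (49329, 5481), (54810, 5481), (60291, 5481), (65772, 5481), (71253, 5481), (76734, 5481), (82215, 5481), (87696, 5481), (93177, 5481), (98658, 5481), (104139, 5481), (109620, 5481), (115101, 5481), (120582, 5481), (126063, 5481), (131544, 5481), (137025, 5481), (142506, 5481), (147987, 5481), (153468, 5481), (158949, 5481), (164430, 5481), (169911, 5481), (175392, 5481), (180873, 5481), (186354, 5481), (191835, 5481), (197316, 5481), (202797, 5481), (208278, 5481), (213759, 5481), (219240, 5481), (224721, 5481), (230202, 5481), (235683, 5481), (241164, 5481), (246645, 5481), (252126, 5481), (257607, 5481), (263088, 5481), (268569, 5481), (274050, 5481), (279531, 5481), (285012, 5481), (290493, 5481), (295974, 5481), (301455, 5481)] (by decide)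
    (all_cons eq14_0 (all_cons eq14_1 (all_cons eq14_2 (all_cons eq14_3 (all_cons eq14_4 (all_cons eq14_5 (all_cons eq14_6 (all_cons eq14_7 (all_cons eq14_8 (all_cons eq14_9 (all_cons eq14_10 (all_cons eq14_11 (all_cons eq14_12 (all_cons eq14_13 (all_cons eq14_14 (all_cons eq14_15 (all_cons eq14_16 (all_cons eq14_17 (all_cons eq14_18 (all_cons eq14_19 (all_cons eq14_20 (all_cons eq14_21 (all_cons eq14_22 (all_cons eq14_23 (all_cons eq14_24 (all_cons eq14_25 (all_cons eq14_26 (all_cons eq14_27 (all_cons eq14_28 (all_cons eq14_29 (all_cons eq14_30 (all_cons eq14_31 (all_cons eq14_32 (all_cons eq14_33 (all_cons eq14_34 (all_cons eq14_35 (all_cons eq14_36 (all_cons eq14_37 (all_cons eq14_38 (all_cons eq14_39 (all_cons eq14_40 (all_cons eq14_41 (all_cons eq14_42 (all_cons eq14_43 (all_cons eq14_44 (all_cons eq14_45 (all_cons eq14_46 (all_cons eq14_47 (all_cons eq14_48 (all_cons eq14_49 (all_cons eq14_50 (all_cons eq14_51 (all_cons eq14_52 (all_cons eq14_53 (all_cons eq14_54 (all_cons eq14_55 all_nil))))))))))))))))))))))))))))))))))))))))))))))))))))))))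

/-- the table agrees with the word -/
theorem eq14 : ∀ q < 306936, f14 q = wordR W14 q :=
  fun q hq => Nat.eq_of_beq_eq_true (eq14_all q hq)

end Cfsg.Agent.Fi24Out
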