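import Cfsg.Agent.Lib.Lead.Fi24Out.D15

/-! # The outer automorphism group of Fi₂₄′: the check of the table number 15, slices (generated) -/

set_option autoImplicit false
set_option Elab.async false
set_option maxRecDepth 100000

namespace Cfsg.Agent.Fi24Out

open Cfsg.Agent.PF Cfsg.Agent.Lib.Helper6 Cfsg.Agent.Lib.Helper6.TC
open Cfsg.Agent.PL (Acts evalF)

theorem eq15_0 : allR 0 5792 (fun q => (fun q => Nat.beq (f15 q) (wordR W15 q)) q) = true := by decide +kernel

theorem eq15_1 : allR 5792 5792 (fun q => (fun q => Nat.beq (f15 q) (wordR W15 q)) q) = true := by decide +kernel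

theorem eq15_2 : allR 11584 5792 (fun q => (fun q => Nat.beq (f15 q) (wordR W15 q)) q) = true := by decide +kernel

theorem eq15_3 : allR 17376 5792 (fun q => (fun q => Nat.beq (f15 q) (wordR W15 q)) q) = true := by decide +kernel

theorem eq15_4 : allR 23168 5792 (fun q => (fun q => Nat.beq (f15 q) (wordR W15 q)) q) = true := by decide +kernel

theorem eq15_5 : allR 28960 5792 (fun q => (fun q => Nat.beq (f15 q) (wordR W15 q)) q) = true := by decide +kernel

theorem eq15_6 : allR 34752 5792 (fun q => (fun q => Nat.beq (f15 q) (wordR W15 q)) q) = true := by decide +kernel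

theorem eq15_7 : allR 40544 5792 (fun q => (fun q => Nat.beq (f15 q) (wordR W15 q)) q) = true := by decide +kernel

theorem eq15_8 : allR 46336 5792 (fun q => (fun q => Nat.beq (f15 q) (wordR W15 q)) q) = true := by decide +kernel

theorem eq15_9 : allR 52128 5792 (fun q => (fun q => Nat.beq (f15 q) (wordR W15 q)) q) = true := by decide +kernel

theorem eq15_10 : allR 57920 5792 (fun q => (fun q => Nat.beq (f15 q) (wordR W15 q)) q) = true := by decide +kernel

theorem eq15_11 : allR 63712 5792 (fun q => (fun q => Nat.beq (f15 q) (wordR W15 q)) q) = true := by decide +kernel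

theorem eq15_12 : allR 69504 5792 (fun q => (fun q => Nat.beq (f15 q) (wordR W15 q)) q) = true := by decide +kernel

theorem eq15_13 : allR 75296 5792 (fun q => (fun q => Nat.beq (f15 q) (wordR W15 q)) q) = true := by decide +kernel

theorem eq15_14 : allR 81088 5792 (fun q => (fun q => Nat.beq (f15 q) (wordR W15 q)) q) = true := by decide +kernel

theorem eq15_15 : allR 86880 5792 (fun q => (fun q => Nat.beq (f15 q) (wordR W15 q)) q) = true := by decide +kernel

theorem eq15_16 : allR 92672 5792 (fun q => (fun q => Nat.beq (f15 q) (wordR W15 q)) q) = true := by decide +kernel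

theorem eq15_17 : allR 98464 5792 (fun q => (fun q => Nat.beq (f15 q) (wordR W15 q)) q) = true := by decide +kernel

theorem eq15_18 : allR 104256 5792 (fun q => (fun q => Nat.beq (f15 q) (wordR W15 q)) q) = true := by decide +kernel

theorem eq15_19 : allR 110048 5792 (fun q => (fun q => Nat.beq (f15 q) (wordR W15 q)) q) = true := by decide +kernel


end Cfsg.Agent.Fi24Out
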