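import Cfsg.Agent.Lib.Lead.Fi24Out.D16

/-! # The outer automorphism group of Fi₂₄′: the check of the table number 16, slices (generated) -/

set_option autoImplicit false
set_option Elab.async false
set_option maxRecDepth 100000

namespace Cfsg.Agent.Fi24Out

open Cfsg.Agent.PF Cfsg.Agent.Lib.Helper6 Cfsg.Agent.Lib.Helper6.TC
open Cfsg.Agent.PL (Acts evalF)

theorem eq16_20 : allR 109620 5481 (fun q => (fun q => Nat.beq (f16 q) (wordR W16 q)) q) = true := by decide +kernel

theorem eq16_21 : allR 115101 5481 (fun q => (fun q => Nat.beq (f16 q) (wordR W16 q)) q) = true := by decide +kernel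

theorem eq16_22 : allR 120582 5481 (fun q => (fun q => Nat.beq (f16 q) (wordR W16 q)) q) = true := by decide +kernel

theorem eq16_23 : allR 126063 5481 (fun q => (fun q => Nat.beq (f16 q) (wordR W16 q)) q) = true := by decide +kernel

theorem eq16_24 : allR 131544 5481 (fun q => (fun q => Nat.beq (f16 q) (wordR W16 q)) q) = true := by decide +kernel

theorem eq16_25 : allR 137025 5481 (fun q => (fun q => Nat.beq (f16 q) (wordR W16 q)) q) = true := by decide +kernel

theorem eq16_26 : allR 142506 5481 (fun q => (fun q => Nat.beq (f16 q) (wordR W16 q)) q) = true := by decide +kernel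

theorem eq16_27 : allR 147987 5481 (fun q => (fun q => Nat.beq (f16 q) (wordR W16 q)) q) = true := by decide +kernel

theorem eq16_28 : allR 153468 5481 (fun q => (fun q => Nat.beq (f16 q) (wordR W16 q)) q) = true := by decide +kernel

theorem eq16_29 : allR 158949 5481 (fun q => (fun q => Nat.beq (f16 q) (wordR W16 q)) q) = true := by decide +kernel

theorem eq16_30 : allR 164430 5481 (fun q => (fun q => Nat.beq (f16 q) (wordR W16 q)) q) = true := by decide +kernel

theorem eq16_31 : allR 169911 5481 (fun q => (fun q => Nat.beq (f16 q) (wordR W16 q)) q) = true := by decide +kernel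

theorem eq16_32 : allR 175392 5481 (fun q => (fun q => Nat.beq (f16 q) (wordR W16 q)) q) = true := by decide +kernel

theorem eq16_33 : allR 180873 5481 (fun q => (fun q => Nat.beq (f16 q) (wordR W16 q)) q) = true := by decide +kernel

theorem eq16_34 : allR 186354 5481 (fun q => (fun q => Nat.beq (f16 q) (wordR W16 q)) q) = true := by decide +kernel

theorem eq16_35 : allR 191835 5481 (fun q => (fun q => Nat.beq (f16 q) (wordR W16 q)) q) = true := by decide +kernel

theorem eq16_36 : allR 197316 5481 (fun q => (fun q => Nat.beq (f16 q) (wordR W16 q)) q) = true := by decide +kernel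

theorem eq16_37 : allR 202797 5481 (fun q => (fun q => Nat.beq (f16 q) (wordR W16 q)) q) = true := by decide +kernel

theorem eq16_38 : allR 208278 5481 (fun q => (fun q => Nat.beq (f16 q) (wordR W16 q)) q) = true := by decide +kernel

theorem eq16_39 : allR 213759 5481 (fun q => (fun q => Nat.beq (f16 q) (wordR W16 q)) q) = true := by decide +kernel


end Cfsg.Agent.Fi24Out
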