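import Cfsg.Agent.Lib.Lead.Fi24Out.D16

/-! # The outer automorphism group of Fi₂₄′: the check of the table number 16, slices (generated) -/

set_option autoImplicit false
set_option Elab.async false
set_option maxRecDepth 100000

namespace Cfsg.Agent.Fi24Out

open Cfsg.Agent.PF Cfsg.Agent.Lib.Helper6 Cfsg.Agent.Lib.Helper6.TC
open Cfsg.Agent.PL (Acts evalF)

theorem eq16_0 : allR 0 5481 (fun q => (fun q => Nat.beq (f16 q) (wordR W16 q)) q) = true := by decide +kernel

theorem eq16_1 : allR 5481 5481 (fun q => (fun q => Nat.beq (f16 q) (wordR W16 q)) q) = true := by decide +kernel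

theorem eq16_2 : allR 10962 5481 (fun q => (fun q => Nat.beq (f16 q) (wordR W16 q)) q) = true := by decide +kernel

theorem eq16_3 : allR 16443 5481 (fun q => (fun q => Nat.beq (f16 q) (wordR W16 q)) q) = true := by decide +kernel

theorem eq16_4 : allR 21924 5481 (fun q => (fun q => Nat.beq (f16 q) (wordR W16 q)) q) = true := by decide +kernel

theorem eq16_5 : allR 27405 5481 (fun q => (fun q => Nat.beq (f16 q) (wordR W16 q)) q) = true := by decide +kernel

theorem eq16_6 : allR 32886 5481 (fun q => (fun q => Nat.beq (f16 q) (wordR W16 q)) q) = true := by decide +kernel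

theorem eq16_7 : allR 38367 5481 (fun q => (fun q => Nat.beq (f16 q) (wordR W16 q)) q) = true := by decide +kernel

theorem eq16_8 : allR 43848 5481 (fun q => (fun q => Nat.beq (f16 q) (wordR W16 q)) q) = true := by decide +kernel

theorem eq16_9 : allR 49329 5481 (fun q => (fun q => Nat.beq (f16 q) (wordR W16 q)) q) = true := by decide +kernel

theorem eq16_10 : allR 54810 5481 (fun q => (fun q => Nat.beq (f16 q) (wordR W16 q)) q) = true := by decide +kernel

theorem eq16_11 : allR 60291 5481 (fun q => (fun q => Nat.beq (f16 q) (wordR W16 q)) q) = true := by decide +kernel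

theorem eq16_12 : allR 65772 5481 (fun q => (fun q => Nat.beq (f16 q) (wordR W16 q)) q) = true := by decide +kernel

theorem eq16_13 : allR 71253 5481 (fun q => (fun q => Nat.beq (f16 q) (wordR W16 q)) q) = true := by decide +kernel

theorem eq16_14 : allR 76734 5481 (fun q => (fun q => Nat.beq (f16 q) (wordR W16 q)) q) = true := by decide +kernel

theorem eq16_15 : allR 82215 5481 (fun q => (fun q => Nat.beq (f16 q) (wordR W16 q)) q) = true := by decide +kernel

theorem eq16_16 : allR 87696 5481 (fun q => (fun q => Nat.beq (f16 q) (wordR W16 q)) q) = true := by decide +kernel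

theorem eq16_17 : allR 93177 5481 (fun q => (fun q => Nat.beq (f16 q) (wordR W16 q)) q) = true := by decide +kernel

theorem eq16_18 : allR 98658 5481 (fun q => (fun q => Nat.beq (f16 q) (wordR W16 q)) q) = true := by decide +kernel

theorem eq16_19 : allR 104139 5481 (fun q => (fun q => Nat.beq (f16 q) (wordR W16 q)) q) = true := by decide +kernel


end Cfsg.Agent.Fi24Out
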