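import Cfsg.Agent.Lib.Lead.Fi24Out.D17

/-! # The outer automorphism group of Fi₂₄′: the check of the table number 17, slices (generated) -/

set_option autoImplicit false
set_option Elab.async false
set_option maxRecDepth 100000

namespace Cfsg.Agent.Fi24Out

open Cfsg.Agent.PF Cfsg.Agent.Lib.Helper6 Cfsg.Agent.Lib.Helper6.TC
open Cfsg.Agent.PL (Acts evalF)

theorem eq17_0 : allR 0 10962 (fun q => (fun q => Nat.beq (f17 q) (wordR W17 q)) q) = true := by decide +kernel

theorem eq17_1 : allR 10962 10962 (fun q => (fun q => Nat.beq (f17 q) (wordR W17 q)) q) = true := by decide +kernel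

theorem eq17_2 : allR 21924 10962 (fun q => (fun q => Nat.beq (f17 q) (wordR W17 q)) q) = true := by decide +kernel

theorem eq17_3 : allR 32886 10962 (fun q => (fun q => Nat.beq (f17 q) (wordR W17 q)) q) = true := by decide +kernel

theorem eq17_4 : allR 43848 10962 (fun q => (fun q => Nat.beq (f17 q) (wordR W17 q)) q) = true := by decide +kernel

theorem eq17_5 : allR 54810 10962 (fun q => (fun q => Nat.beq (f17 q) (wordR W17 q)) q) = true := by decide +kernel

theorem eq17_6 : allR 65772 10962 (fun q => (fun q => Nat.beq (f17 q) (wordR W17 q)) q) = true := by decide +kernel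

theorem eq17_7 : allR 76734 10962 (fun q => (fun q => Nat.beq (f17 q) (wordR W17 q)) q) = true := by decide +kernel

theorem eq17_8 : allR 87696 10962 (fun q => (fun q => Nat.beq (f17 q) (wordR W17 q)) q) = true := by decide +kernel

theorem eq17_9 : allR 98658 10962 (fun q => (fun q => Nat.beq (f17 q) (wordR W17 q)) q) = true := by decide +kernel

theorem eq17_10 : allR 109620 10962 (fun q => (fun q => Nat.beq (f17 q) (wordR W17 q)) q) = true := by decide +kernel

theorem eq17_11 : allR 120582 10962 (fun q => (fun q => Nat.beq (f17 q) (wordR W17 q)) q) = true := by decide +kernel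

theorem eq17_12 : allR 131544 10962 (fun q => (fun q => Nat.beq (f17 q) (wordR W17 q)) q) = true := by decide +kernel

theorem eq17_13 : allR 142506 10962 (fun q => (fun q => Nat.beq (f17 q) (wordR W17 q)) q) = true := by decide +kernel

theorem eq17_14 : allR 153468 10962 (fun q => (fun q => Nat.beq (f17 q) (wordR W17 q)) q) = true := by decide +kernel

theorem eq17_15 : allR 164430 10962 (fun q => (fun q => Nat.beq (f17 q) (wordR W17 q)) q) = true := by decide +kernel

theorem eq17_16 : allR 175392 10962 (fun q => (fun q => Nat.beq (f17 q) (wordR W17 q)) q) = true := by decide +kernel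

theorem eq17_17 : allR 186354 10962 (fun q => (fun q => Nat.beq (f17 q) (wordR W17 q)) q) = true := by decide +kernel

theorem eq17_18 : allR 197316 10962 (fun q => (fun q => Nat.beq (f17 q) (wordR W17 q)) q) = true := by decide +kernel

theorem eq17_19 : allR 208278 10962 (fun q => (fun q => Nat.beq (f17 q) (wordR W17 q)) q) = true := by decide +kernel


end Cfsg.Agent.Fi24Out
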