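import Cfsg.Agent.Lib.Lead.Fi24Out.D18

/-! # The outer automorphism group of Fi₂₄′: the check of the table number 18, slices (generated) -/

set_option autoImplicit false
set_option Elab.async false
set_option maxRecDepth 100000

namespace Cfsg.Agent.Fi24Out

open Cfsg.Agent.PF Cfsg.Agent.Lib.Helper6 Cfsg.Agent.Lib.Helper6.TC
open Cfsg.Agent.PL (Acts evalF)

theorem eq18_20 : allR 122780 6139 (fun q => (fun q => Nat.beq (f18 q) (wordR W18 q)) q) = true := by decide +kernel

theorem eq18_21 : allR 128919 6139 (fun q => (fun q => Nat.beq (f18 q) (wordR W18 q)) q) = true := by decide +kernel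

theorem eq18_22 : allR 135058 6139 (fun q => (fun q => Nat.beq (f18 q) (wordR W18 q)) q) = true := by decide +kernel

theorem eq18_23 : allR 141197 6139 (fun q => (fun q => Nat.beq (f18 q) (wordR W18 q)) q) = true := by decide +kernel

theorem eq18_24 : allR 147336 6139 (fun q => (fun q => Nat.beq (f18 q) (wordR W18 q)) q) = true := by decide +kernel

theorem eq18_25 : allR 153475 6139 (fun q => (fun q => Nat.beq (f18 q) (wordR W18 q)) q) = true := by decide +kernel

theorem eq18_26 : allR 159614 6139 (fun q => (fun q => Nat.beq (f18 q) (wordR W18 q)) q) = true := by decide +kernel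

theorem eq18_27 : allR 165753 6139 (fun q => (fun q => Nat.beq (f18 q) (wordR W18 q)) q) = true := by decide +kernel

theorem eq18_28 : allR 171892 6139 (fun q => (fun q => Nat.beq (f18 q) (wordR W18 q)) q) = true := by decide +kernel

theorem eq18_29 : allR 178031 6139 (fun q => (fun q => Nat.beq (f18 q) (wordR W18 q)) q) = true := by decide +kernel

theorem eq18_30 : allR 184170 6139 (fun q => (fun q => Nat.beq (f18 q) (wordR W18 q)) q) = true := by decide +kernel

theorem eq18_31 : allR 190309 6139 (fun q => (fun q => Nat.beq (f18 q) (wordR W18 q)) q) = true := by decide +kernel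

theorem eq18_32 : allR 196448 6139 (fun q => (fun q => Nat.beq (f18 q) (wordR W18 q)) q) = true := by decide +kernel

theorem eq18_33 : allR 202587 6139 (fun q => (fun q => Nat.beq (f18 q) (wordR W18 q)) q) = true := by decide +kernel

theorem eq18_34 : allR 208726 6139 (fun q => (fun q => Nat.beq (f18 q) (wordR W18 q)) q) = true := by decide +kernel

theorem eq18_35 : allR 214865 6139 (fun q => (fun q => Nat.beq (f18 q) (wordR W18 q)) q) = true := by decide +kernel

theorem eq18_36 : allR 221004 6139 (fun q => (fun q => Nat.beq (f18 q) (wordR W18 q)) q) = true := by decide +kernel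

theorem eq18_37 : allR 227143 6139 (fun q => (fun q => Nat.beq (f18 q) (wordR W18 q)) q) = true := by decide +kernel

theorem eq18_38 : allR 233282 6139 (fun q => (fun q => Nat.beq (f18 q) (wordR W18 q)) q) = true := by decide +kernel

theorem eq18_39 : allR 239421 6139 (fun q => (fun q => Nat.beq (f18 q) (wordR W18 q)) q) = true := by decide +kernel


end Cfsg.Agent.Fi24Out
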