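import Cfsg.Agent.Lib.Lead.Fi24Out.C18_0
import Cfsg.Agent.Lib.Lead.Fi24Out.C18_1
import Cfsg.Agent.Lib.Lead.Fi24Out.C18_2
import Cfsg.Agent.Lib.Lead.Fi24Out.Base0

/-! # The outer automorphism group of Fi₂₄′: the check of the table number 18 (generated) -/

set_option autoImplicit false
set_option maxRecDepth 100000

namespace Cfsg.Agent.Fi24Out

open Cfsg.Agent.PF Cfsg.Agent.Lib.Helper6 Cfsg.Agent.Lib.Helper6.TC
open Cfsg.Agent.PL (Acts evalF)

theorem eq18_all : ∀ q < 306936, (fun q => Nat.beq (f18 q) (wordR W18 q)) q = true :=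
  forall_lt_of_chunks (f := fun q => (fun q => Nat.beq (f18 q) (wordR W18 q)) q) [(0, 6139), (6139, 6139), (12278, 6139), (18417, 6139), (24556, 6139), (30695, 6139), (36834, 6139), (42973, 6139), (49112, 6139), (55251, 6139), (61390, 6139), (67529, 6139), (73668, 6139), (79807, 6139), (85946, 6139), (92085, 6139), (98224, 6139), (104363, 6139), (110502, 6139), (116641, 6139), (122780, 6139), (128919, 6139), (135058, 6139), (141197, 6139), (147336, 6139), (153475, 6139), (159614, 6139), (165753, 6139), (171892, 6139), (178031, 6139), (184170, 6139), (190309, 6139), (196448, 6139), (202587, 6139), (208726, 6139), (214865, 6139), (221004, 6139), (227143, 6139), (233282, 6139), (239421, 6139), (245560, 6139), (251699, 6139), (257838, 6139), (263977, 6139), (270116, 6139), (276255, 6139), (282394, 6139), (288533, 6139), (294672, 6139), (300811, 6125)] (by decide)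
    (all_cons eq18_0 (all_cons eq18_1 (all_cons eq18_2 (all_cons eq18_3 (all_cons eq18_4 (all_cons eq18_5 (all_cons eq18_6 (all_cons eq18_7 (all_cons eq18_8 (all_cons eq18_9 (all_cons eq18_10 (all_cons eq18_11 (all_cons eq18_12 (all_cons eq18_13 (all_cons eq18_14 (all_cons eq18_15 (all_cons eq18_16 (all_cons eq18_17 (all_cons eq18_18 (all_cons eq18_19 (all_cons eq18_20 (all_cons eq18_21 (all_cons eq18_22 (all_cons eq18_23 (all_cons eq18_24 (all_cons eq18_25 (all_cons eq18_26 (all_cons eq18_27 (all_cons eq18_28 (all_cons eq18_29 (all_cons eq18_30 (all_cons eq18_31 (all_cons eq18_32 (all_cons eq18_33 (all_cons eq18_34 (all_cons eq18_35 (all_cons eq18_36 (all_cons eq18_37 (all_cons eq18_38 (all_cons eq18_39 (all_cons eq18_40 (all_cons eq18_41 (all_cons eq18_42 (all_cons eq18_43 (all_cons eq18_44 (all_cons eq18_45 (all_cons eq18_46 (all_cons eq18_47 (all_cons eq18_48 (all_cons eq18_49 all_nil))))))))))))))))))))))))))))))))))))))))))))))))))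

/-- the table agrees with the word -/
theorem eq18 : ∀ q < 306936, f18 q = wordR W18 q :=
  fun q hq => Nat.eq_of_beq_eq_true (eq18_all q hq)

end Cfsg.Agent.Fi24Out
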