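import Cfsg.Agent.Lib.Lead.Fi24Out.D18

/-! # The outer automorphism group of Fi₂₄′: the check of the table number 18, slices (generated) -/

set_option autoImplicit false
set_option Elab.async false
set_option maxRecDepth 100000

namespace Cfsg.Agent.Fi24Out

open Cfsg.Agent.PF Cfsg.Agent.Lib.Helper6 Cfsg.Agent.Lib.Helper6.TC
open Cfsg.Agent.PL (Acts evalF)

theorem eq18_0 : allR 0 6139 (fun q => (fun q => Nat.beq (f18 q) (wordR W18 q)) q) = true := by decide +kernel

theorem eq18_1 : allR 6139 6139 (fun q => (fun q => Nat.beq (f18 q) (wordR W18 q)) q) = true := by decide +kernel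

theorem eq18_2 : allR 12278 6139 (fun q => (fun q => Nat.beq (f18 q) (wordR W18 q)) q) = true := by decide +kernel

theorem eq18_3 : allR 18417 6139 (fun q => (fun q => Nat.beq (f18 q) (wordR W18 q)) q) = true := by decide +kernel

theorem eq18_4 : allR 24556 6139 (fun q => (fun q => Nat.beq (f18 q) (wordR W18 q)) q) = true := by decide +kernel

theorem eq18_5 : allR 30695 6139 (fun q => (fun q => Nat.beq (f18 q) (wordR W18 q)) q) = true := by decide +kernel

theorem eq18_6 : allR 36834 6139 (fun q => (fun q => Nat.beq (f18 q) (wordR W18 q)) q) = true := by decide +kernel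

theorem eq18_7 : allR 42973 6139 (fun q => (fun q => Nat.beq (f18 q) (wordR W18 q)) q) = true := by decide +kernel

theorem eq18_8 : allR 49112 6139 (fun q => (fun q => Nat.beq (f18 q) (wordR W18 q)) q) = true := by decide +kernel

theorem eq18_9 : allR 55251 6139 (fun q => (fun q => Nat.beq (f18 q) (wordR W18 q)) q) = true := by decide +kernel

theorem eq18_10 : allR 61390 6139 (fun q => (fun q => Nat.beq (f18 q) (wordR W18 q)) q) = true := by decide +kernel

theorem eq18_11 : allR 67529 6139 (fun q => (fun q => Nat.beq (f18 q) (wordR W18 q)) q) = true := by decide +kernel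

theorem eq18_12 : allR 73668 6139 (fun q => (fun q => Nat.beq (f18 q) (wordR W18 q)) q) = true := by decide +kernel

theorem eq18_13 : allR 79807 6139 (fun q => (fun q => Nat.beq (f18 q) (wordR W18 q)) q) = true := by decide +kernel

theorem eq18_14 : allR 85946 6139 (fun q => (fun q => Nat.beq (f18 q) (wordR W18 q)) q) = true := by decide +kernel

theorem eq18_15 : allR 92085 6139 (fun q => (fun q => Nat.beq (f18 q) (wordR W18 q)) q) = true := by decide +kernel

theorem eq18_16 : allR 98224 6139 (fun q => (fun q => Nat.beq (f18 q) (wordR W18 q)) q) = true := by decide +kernel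

theorem eq18_17 : allR 104363 6139 (fun q => (fun q => Nat.beq (f18 q) (wordR W18 q)) q) = true := by decide +kernel

theorem eq18_18 : allR 110502 6139 (fun q => (fun q => Nat.beq (f18 q) (wordR W18 q)) q) = true := by decide +kernel

theorem eq18_19 : allR 116641 6139 (fun q => (fun q => Nat.beq (f18 q) (wordR W18 q)) q) = true := by decide +kernel


end Cfsg.Agent.Fi24Out
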