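import Cfsg.Agent.Lib.Lead.Fi24Out.D19

/-! # The outer automorphism group of Fi₂₄′: the check of the table number 19, slices (generated) -/

set_option autoImplicit false
set_option Elab.async false
set_option maxRecDepth 100000

namespace Cfsg.Agent.Fi24Out

open Cfsg.Agent.PF Cfsg.Agent.Lib.Helper6 Cfsg.Agent.Lib.Helper6.TC
open Cfsg.Agent.PL (Acts evalF)

theorem eq19_20 : allR 115840 5792 (fun q => (fun q => Nat.beq (f19 q) (wordR W19 q)) q) = true := by decide +kernel

theorem eq19_21 : allR 121632 5792 (fun q => (fun q => Nat.beq (f19 q) (wordR W19 q)) q) = true := by decide +kernel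

theorem eq19_22 : allR 127424 5792 (fun q => (fun q => Nat.beq (f19 q) (wordR W19 q)) q) = true := by decide +kernel

theorem eq19_23 : allR 133216 5792 (fun q => (fun q => Nat.beq (f19 q) (wordR W19 q)) q) = true := by decide +kernel

theorem eq19_24 : allR 139008 5792 (fun q => (fun q => Nat.beq (f19 q) (wordR W19 q)) q) = true := by decide +kernel

theorem eq19_25 : allR 144800 5792 (fun q => (fun q => Nat.beq (f19 q) (wordR W19 q)) q) = true := by decide +kernel

theorem eq19_26 : allR 150592 5792 (fun q => (fun q => Nat.beq (f19 q) (wordR W19 q)) q) = true := by decide +kernel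

theorem eq19_27 : allR 156384 5792 (fun q => (fun q => Nat.beq (f19 q) (wordR W19 q)) q) = true := by decide +kernel

theorem eq19_28 : allR 162176 5792 (fun q => (fun q => Nat.beq (f19 q) (wordR W19 q)) q) = true := by decide +kernel

theorem eq19_29 : allR 167968 5792 (fun q => (fun q => Nat.beq (f19 q) (wordR W19 q)) q) = true := by decide +kernel

theorem eq19_30 : allR 173760 5792 (fun q => (fun q => Nat.beq (f19 q) (wordR W19 q)) q) = true := by decide +kernel

theorem eq19_31 : allR 179552 5792 (fun q => (fun q => Nat.beq (f19 q) (wordR W19 q)) q) = true := by decide +kernel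

theorem eq19_32 : allR 185344 5792 (fun q => (fun q => Nat.beq (f19 q) (wordR W19 q)) q) = true := by decide +kernel

theorem eq19_33 : allR 191136 5792 (fun q => (fun q => Nat.beq (f19 q) (wordR W19 q)) q) = true := by decide +kernel

theorem eq19_34 : allR 196928 5792 (fun q => (fun q => Nat.beq (f19 q) (wordR W19 q)) q) = true := by decide +kernel

theorem eq19_35 : allR 202720 5792 (fun q => (fun q => Nat.beq (f19 q) (wordR W19 q)) q) = true := by decide +kernel

theorem eq19_36 : allR 208512 5792 (fun q => (fun q => Nat.beq (f19 q) (wordR W19 q)) q) = true := by decide +kernel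

theorem eq19_37 : allR 214304 5792 (fun q => (fun q => Nat.beq (f19 q) (wordR W19 q)) q) = true := by decide +kernel

theorem eq19_38 : allR 220096 5792 (fun q => (fun q => Nat.beq (f19 q) (wordR W19 q)) q) = true := by decide +kernel

theorem eq19_39 : allR 225888 5792 (fun q => (fun q => Nat.beq (f19 q) (wordR W19 q)) q) = true := by decide +kernel


end Cfsg.Agent.Fi24Out
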