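import Cfsg.Agent.Lib.Lead.Fi24Out.D19

/-! # The outer automorphism group of Fi₂₄′: the check of the table number 19, slices (generated) -/

set_option autoImplicit false
set_option Elab.async false
set_option maxRecDepth 100000

namespace Cfsg.Agent.Fi24Out

open Cfsg.Agent.PF Cfsg.Agent.Lib.Helper6 Cfsg.Agent.Lib.Helper6.TC
open Cfsg.Agent.PL (Acts evalF)

theorem eq19_40 : allR 231680 5792 (fun q => (fun q => Nat.beq (f19 q) (wordR W19 q)) q) = true := by decide +kernel

theorem eq19_41 : allR 237472 5792 (fun q => (fun q => Nat.beq (f19 q) (wordR W19 q)) q) = true := by decide +kernel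

theorem eq19_42 : allR 243264 5792 (fun q => (fun q => Nat.beq (f19 q) (wordR W19 q)) q) = true := by decide +kernel

theorem eq19_43 : allR 249056 5792 (fun q => (fun q => Nat.beq (f19 q) (wordR W19 q)) q) = true := by decide +kernel

theorem eq19_44 : allR 254848 5792 (fun q => (fun q => Nat.beq (f19 q) (wordR W19 q)) q) = true := by decide +kernel

theorem eq19_45 : allR 260640 5792 (fun q => (fun q => Nat.beq (f19 q) (wordR W19 q)) q) = true := by decide +kernel

theorem eq19_46 : allR 266432 5792 (fun q => (fun q => Nat.beq (f19 q) (wordR W19 q)) q) = true := by decide +kernel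

theorem eq19_47 : allR 272224 5792 (fun q => (fun q => Nat.beq (f19 q) (wordR W19 q)) q) = true := by decide +kernel

theorem eq19_48 : allR 278016 5792 (fun q => (fun q => Nat.beq (f19 q) (wordR W19 q)) q) = true := by decide +kernel

theorem eq19_49 : allR 283808 5792 (fun q => (fun q => Nat.beq (f19 q) (wordR W19 q)) q) = true := by decide +kernel

theorem eq19_50 : allR 289600 5792 (fun q => (fun q => Nat.beq (f19 q) (wordR W19 q)) q) = true := by decide +kernel

theorem eq19_51 : allR 295392 5792 (fun q => (fun q => Nat.beq (f19 q) (wordR W19 q)) q) = true := by decide +kernel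

theorem eq19_52 : allR 301184 5752 (fun q => (fun q => Nat.beq (f19 q) (wordR W19 q)) q) = true := by decide +kernel


end Cfsg.Agent.Fi24Out
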