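import Cfsg.Agent.Lib.Lead.Fi24Out.C19_0
import Cfsg.Agent.Lib.Lead.Fi24Out.C19_1
import Cfsg.Agent.Lib.Lead.Fi24Out.C19_2
import Cfsg.Agent.Lib.Lead.Fi24Out.Base0

/-! # The outer automorphism group of Fi₂₄′: the check of the table number 19 (generated) -/

set_option autoImplicit false
set_option maxRecDepth 100000

namespace Cfsg.Agent.Fi24Out

open Cfsg.Agent.PF Cfsg.Agent.Lib.Helper6 Cfsg.Agent.Lib.Helper6.TC
open Cfsg.Agent.PL (Acts evalF)

theorem eq19_all : ∀ q < 306936, (fun q => Nat.beq (f19 q) (wordR W19 q)) q = true :=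
  forall_lt_of_chunks (f := fun q => (fun q => Nat.beq (f19 q) (wordR W19 q)) q) [(0, 5792), (5792, 5792), (11584, 5792), (17376, 5792), (23168, 5792), (28960, 5792), (34752, 5792), (40544, 5792), (46336, 5792), (52128, 5792), (57920, 5792), (63712, 5792), (69504, 5792), (75296, 5792), (81088, 5792), (86880, 5792), (92672, 5792), (98464, 5792), (104256, 5792), (110048, 5792), (115840, 5792), (121632, 5792), (127424, 5792), (133216, 5792), (139008, 5792), (144800, 5792), (150592, 5792), (156384, 5792), (162176, 5792), (167968, 5792), (173760, 5792), (179552, 5792), (185344, 5792), (191136, 5792), (196928, 5792), (202720, 5792), (208512, 5792), (214304, 5792), (220096, 5792), (225888, 5792), (231680, 5792), (237472, 5792), (243264, 5792), (249056, 5792), (254848, 5792), (260640, 5792), (266432, 5792), (272224, 5792), (278016, 5792), (283808, 5792), (289600, 5792), (295392, 5792), (301184, 5752)] (by decide)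
    (all_cons eq19_0 (all_cons eq19_1 (all_cons eq19_2 (all_cons eq19_3 (all_cons eq19_4 (all_cons eq19_5 (all_cons eq19_6 (all_cons eq19_7 (all_cons eq19_8 (all_cons eq19_9 (all_cons eq19_10 (all_cons eq19_11 (all_cons eq19_12 (all_cons eq19_13 (all_cons eq19_14 (all_cons eq19_15 (all_cons eq19_16 (all_cons eq19_17 (all_cons eq19_18 (all_cons eq19_19 (all_cons eq19_20 (all_cons eq19_21 (all_cons eq19_22 (all_cons eq19_23 (all_cons eq19_24 (all_cons eq19_25 (all_cons eq19_26 (all_cons eq19_27 (all_cons eq19_28 (all_cons eq19_29 (all_cons eq19_30 (all_cons eq19_31 (all_cons eq19_32 (all_cons eq19_33 (all_cons eq19_34 (all_cons eq19_35 (all_cons eq19_36 (all_cons eq19_37 (all_cons eq19_38 (all_cons eq19_39 (all_cons eq19_40 (all_cons eq19_41 (all_cons eq19_42 (all_cons eq19_43 (all_cons eq19_44 (all_cons eq19_45 (all_cons eq19_46 (all_cons eq19_47 (all_cons eq19_48 (all_cons eq19_49 (all_cons eq19_50 (all_cons eq19_51 (all_cons eq19_52 all_nil)))))))))))))))))))))))))))))))))))))))))))))))))))))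

/-- the table agrees with the word -/
theorem eq19 : ∀ q < 306936, f19 q = wordR W19 q :=
  fun q hq => Nat.eq_of_beq_eq_true (eq19_all q hq)

end Cfsg.Agent.Fi24Out
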