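import Cfsg.Agent.Lib.Lead.Fi24Out.D19

/-! # The outer automorphism group of Fi₂₄′: the check of the table number 19, slices (generated) -/

set_option autoImplicit false
set_option Elab.async false
set_option maxRecDepth 100000

namespace Cfsg.Agent.Fi24Out

open Cfsg.Agent.PF Cfsg.Agent.Lib.Helper6 Cfsg.Agent.Lib.Helper6.TC
open Cfsg.Agent.PL (Acts evalF)

theorem eq19_0 : allR 0 5792 (fun q => (fun q => Nat.beq (f19 q) (wordR W19 q)) q) = true := by decide +kernel

theorem eq19_1 : allR 5792 5792 (fun q => (fun q => Nat.beq (f19 q) (wordR W19 q)) q) = true := by decide +kernel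

theorem eq19_2 : allR 11584 5792 (fun q => (fun q => Nat.beq (f19 q) (wordR W19 q)) q) = true := by decide +kernel

theorem eq19_3 : allR 17376 5792 (fun q => (fun q => Nat.beq (f19 q) (wordR W19 q)) q) = true := by decide +kernel

theorem eq19_4 : allR 23168 5792 (fun q => (fun q => Nat.beq (f19 q) (wordR W19 q)) q) = true := by decide +kernel

theorem eq19_5 : allR 28960 5792 (fun q => (fun q => Nat.beq (f19 q) (wordR W19 q)) q) = true := by decide +kernel

theorem eq19_6 : allR 34752 5792 (fun q => (fun q => Nat.beq (f19 q) (wordR W19 q)) q) = true := by decide +kernel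

theorem eq19_7 : allR 40544 5792 (fun q => (fun q => Nat.beq (f19 q) (wordR W19 q)) q) = true := by decide +kernel

theorem eq19_8 : allR 46336 5792 (fun q => (fun q => Nat.beq (f19 q) (wordR W19 q)) q) = true := by decide +kernel

theorem eq19_9 : allR 52128 5792 (fun q => (fun q => Nat.beq (f19 q) (wordR W19 q)) q) = true := by decide +kernel

theorem eq19_10 : allR 57920 5792 (fun q => (fun q => Nat.beq (f19 q) (wordR W19 q)) q) = true := by decide +kernel

theorem eq19_11 : allR 63712 5792 (fun q => (fun q => Nat.beq (f19 q) (wordR W19 q)) q) = true := by decide +kernel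

theorem eq19_12 : allR 69504 5792 (fun q => (fun q => Nat.beq (f19 q) (wordR W19 q)) q) = true := by decide +kernel

theorem eq19_13 : allR 75296 5792 (fun q => (fun q => Nat.beq (f19 q) (wordR W19 q)) q) = true := by decide +kernel

theorem eq19_14 : allR 81088 5792 (fun q => (fun q => Nat.beq (f19 q) (wordR W19 q)) q) = true := by decide +kernel

theorem eq19_15 : allR 86880 5792 (fun q => (fun q => Nat.beq (f19 q) (wordR W19 q)) q) = true := by decide +kernel

theorem eq19_16 : allR 92672 5792 (fun q => (fun q => Nat.beq (f19 q) (wordR W19 q)) q) = true := by decide +kernel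

theorem eq19_17 : allR 98464 5792 (fun q => (fun q => Nat.beq (f19 q) (wordR W19 q)) q) = true := by decide +kernel

theorem eq19_18 : allR 104256 5792 (fun q => (fun q => Nat.beq (f19 q) (wordR W19 q)) q) = true := by decide +kernel

theorem eq19_19 : allR 110048 5792 (fun q => (fun q => Nat.beq (f19 q) (wordR W19 q)) q) = true := by decide +kernel


end Cfsg.Agent.Fi24Out
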