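import Cfsg.Agent.Lib.Lead.Fi24Out.D20

/-! # The outer automorphism group of Fi₂₄′: the check of the table number 20, slices (generated) -/

set_option autoImplicit false
set_option Elab.async false
set_option maxRecDepth 100000

namespace Cfsg.Agent.Fi24Out

open Cfsg.Agent.PF Cfsg.Agent.Lib.Helper6 Cfsg.Agent.Lib.Helper6.TC
open Cfsg.Agent.PL (Acts evalF)

theorem eq20_20 : allR 90280 4514 (fun q => (fun q => Nat.beq (f20 q) (wordR W20 q)) q) = true := by decide +kernel

theorem eq20_21 : allR 94794 4514 (fun q => (fun q => Nat.beq (f20 q) (wordR W20 q)) q) = true := by decide +kernel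

theorem eq20_22 : allR 99308 4514 (fun q => (fun q => Nat.beq (f20 q) (wordR W20 q)) q) = true := by decide +kernel

theorem eq20_23 : allR 103822 4514 (fun q => (fun q => Nat.beq (f20 q) (wordR W20 q)) q) = true := by decide +kernel

theorem eq20_24 : allR 108336 4514 (fun q => (fun q => Nat.beq (f20 q) (wordR W20 q)) q) = true := by decide +kernel

theorem eq20_25 : allR 112850 4514 (fun q => (fun q => Nat.beq (f20 q) (wordR W20 q)) q) = true := by decide +kernel

theorem eq20_26 : allR 117364 4514 (fun q => (fun q => Nat.beq (f20 q) (wordR W20 q)) q) = true := by decide +kernel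

theorem eq20_27 : allR 121878 4514 (fun q => (fun q => Nat.beq (f20 q) (wordR W20 q)) q) = true := by decide +kernel

theorem eq20_28 : allR 126392 4514 (fun q => (fun q => Nat.beq (f20 q) (wordR W20 q)) q) = true := by decide +kernel

theorem eq20_29 : allR 130906 4514 (fun q => (fun q => Nat.beq (f20 q) (wordR W20 q)) q) = true := by decide +kernel

theorem eq20_30 : allR 135420 4514 (fun q => (fun q => Nat.beq (f20 q) (wordR W20 q)) q) = true := by decide +kernel

theorem eq20_31 : allR 139934 4514 (fun q => (fun q => Nat.beq (f20 q) (wordR W20 q)) q) = true := by decide +kernel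

theorem eq20_32 : allR 144448 4514 (fun q => (fun q => Nat.beq (f20 q) (wordR W20 q)) q) = true := by decide +kernel

theorem eq20_33 : allR 148962 4514 (fun q => (fun q => Nat.beq (f20 q) (wordR W20 q)) q) = true := by decide +kernel

theorem eq20_34 : allR 153476 4514 (fun q => (fun q => Nat.beq (f20 q) (wordR W20 q)) q) = true := by decide +kernel

theorem eq20_35 : allR 157990 4514 (fun q => (fun q => Nat.beq (f20 q) (wordR W20 q)) q) = true := by decide +kernel

theorem eq20_36 : allR 162504 4514 (fun q => (fun q => Nat.beq (f20 q) (wordR W20 q)) q) = true := by decide +kernel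

theorem eq20_37 : allR 167018 4514 (fun q => (fun q => Nat.beq (f20 q) (wordR W20 q)) q) = true := by decide +kernel

theorem eq20_38 : allR 171532 4514 (fun q => (fun q => Nat.beq (f20 q) (wordR W20 q)) q) = true := by decide +kernel

theorem eq20_39 : allR 176046 4514 (fun q => (fun q => Nat.beq (f20 q) (wordR W20 q)) q) = true := by decide +kernel


end Cfsg.Agent.Fi24Out
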