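import Cfsg.Agent.Lib.Lead.Fi24Out.D20

/-! # The outer automorphism group of Fi₂₄′: the check of the table number 20, slices (generated) -/

set_option autoImplicit false
set_option Elab.async false
set_option maxRecDepth 100000

namespace Cfsg.Agent.Fi24Out

open Cfsg.Agent.PF Cfsg.Agent.Lib.Helper6 Cfsg.Agent.Lib.Helper6.TC
open Cfsg.Agent.PL (Acts evalF)

theorem eq20_40 : allR 180560 4514 (fun q => (fun q => Nat.beq (f20 q) (wordR W20 q)) q) = true := by decide +kernel

theorem eq20_41 : allR 185074 4514 (fun q => (fun q => Nat.beq (f20 q) (wordR W20 q)) q) = true := by decide +kernel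

theorem eq20_42 : allR 189588 4514 (fun q => (fun q => Nat.beq (f20 q) (wordR W20 q)) q) = true := by decide +kernel

theorem eq20_43 : allR 194102 4514 (fun q => (fun q => Nat.beq (f20 q) (wordR W20 q)) q) = true := by decide +kernel

theorem eq20_44 : allR 198616 4514 (fun q => (fun q => Nat.beq (f20 q) (wordR W20 q)) q) = true := by decide +kernel

theorem eq20_45 : allR 203130 4514 (fun q => (fun q => Nat.beq (f20 q) (wordR W20 q)) q) = true := by decide +kernel

theorem eq20_46 : allR 207644 4514 (fun q => (fun q => Nat.beq (f20 q) (wordR W20 q)) q) = true := by decide +kernel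

theorem eq20_47 : allR 212158 4514 (fun q => (fun q => Nat.beq (f20 q) (wordR W20 q)) q) = true := by decide +kernel

theorem eq20_48 : allR 216672 4514 (fun q => (fun q => Nat.beq (f20 q) (wordR W20 q)) q) = true := by decide +kernel

theorem eq20_49 : allR 221186 4514 (fun q => (fun q => Nat.beq (f20 q) (wordR W20 q)) q) = true := by decide +kernel

theorem eq20_50 : allR 225700 4514 (fun q => (fun q => Nat.beq (f20 q) (wordR W20 q)) q) = true := by decide +kernel

theorem eq20_51 : allR 230214 4514 (fun q => (fun q => Nat.beq (f20 q) (wordR W20 q)) q) = true := by decide +kernel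

theorem eq20_52 : allR 234728 4514 (fun q => (fun q => Nat.beq (f20 q) (wordR W20 q)) q) = true := by decide +kernel

theorem eq20_53 : allR 239242 4514 (fun q => (fun q => Nat.beq (f20 q) (wordR W20 q)) q) = true := by decide +kernel

theorem eq20_54 : allR 243756 4514 (fun q => (fun q => Nat.beq (f20 q) (wordR W20 q)) q) = true := by decide +kernel

theorem eq20_55 : allR 248270 4514 (fun q => (fun q => Nat.beq (f20 q) (wordR W20 q)) q) = true := by decide +kernel

theorem eq20_56 : allR 252784 4514 (fun q => (fun q => Nat.beq (f20 q) (wordR W20 q)) q) = true := by decide +kernel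

theorem eq20_57 : allR 257298 4514 (fun q => (fun q => Nat.beq (f20 q) (wordR W20 q)) q) = true := by decide +kernel

theorem eq20_58 : allR 261812 4514 (fun q => (fun q => Nat.beq (f20 q) (wordR W20 q)) q) = true := by decide +kernel

theorem eq20_59 : allR 266326 4514 (fun q => (fun q => Nat.beq (f20 q) (wordR W20 q)) q) = true := by decide +kernel


end Cfsg.Agent.Fi24Out
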