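import Cfsg.Agent.Lib.Lead.Fi24Out.C20_0
import Cfsg.Agent.Lib.Lead.Fi24Out.C20_1
import Cfsg.Agent.Lib.Lead.Fi24Out.C20_2
import Cfsg.Agent.Lib.Lead.Fi24Out.C20_3
import Cfsg.Agent.Lib.Lead.Fi24Out.Base0

/-! # The outer automorphism group of Fi₂₄′: the check of the table number 20 (generated) -/

set_option autoImplicit false
set_option maxRecDepth 100000

namespace Cfsg.Agent.Fi24Out

open Cfsg.Agent.PF Cfsg.Agent.Lib.Helper6 Cfsg.Agent.Lib.Helper6.TC
open Cfsg.Agent.PL (Acts evalF)

theorem eq20_all : ∀ q < 306936, (fun q => Nat.beq (f20 q) (wordR W20 q)) q = true :=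
  forall_lt_of_chunks (f := fun q => (fun q => Nat.beq (f20 q) (wordR W20 q)) q) [(0, 4514), (4514, 4514), (9028, 4514), (13542, 4514), (18056, 4514), (22570, 4514), (27084, 4514), (31598, 4514), (36112, 4514), (40626, 4514), (45140, 4514), (49654, 4514), (54168, 4514), (58682, 4514), (63196, 4514), (67710, 4514), (72224, 4514), (76738, 4514), (81252, 4514), (85766, 4514), (90280, 4514), (94794, 4514), (99308, 4514), (103822, 4514), (108336, 4514), (112850, 4514), (117364, 4514), (121878, 4514), (126392, 4514), (130906, 4514), (135420, 4514), (139934, 4514), (144448, 4514), (148962, 4514), (153476, 4514), (157990, 4514), (162504, 4514), (167018, 4514), (171532, 4514), (176046, 4514), (180560, 4514), (185074, 4514), (189588, 4514), (194102, 4514), (198616, 4514), (203130, 4514), (207644, 4514), (212158, 4514), (216672, 4514), (221186, 4514), (225700, 4514), (230214, 4514), (234728, 4514), (239242, 4514), (243756, 4514), (248270, 4514), (252784, 4514), (257298, 4514), (261812, 4514), (266326, 4514), (270840, 4514), (275354,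 4514), (279868, 4514), (284382, 4514), (288896, 4514), (293410, 4514), (297924, 4514), (302438, 4498)] (by decide)
    (all_cons eq20_0 (all_cons eq20_1 (all_cons eq20_2 (all_cons eq20_3 (all_cons eq20_4 (all_cons eq20_5 (all_cons eq20_6 (all_cons eq20_7 (all_cons eq20_8 (all_cons eq20_9 (all_cons eq20_10 (all_cons eq20_11 (all_cons eq20_12 (all_cons eq20_13 (all_cons eq20_14 (all_cons eq20_15 (all_cons eq20_16 (all_cons eq20_17 (all_cons eq20_18 (all_cons eq20_19 (all_cons eq20_20 (all_cons eq20_21 (all_cons eq20_22 (all_cons eq20_23 (all_cons eq20_24 (all_cons eq20_25 (all_cons eq20_26 (all_cons eq20_27 (all_cons eq20_28 (all_cons eq20_29 (all_cons eq20_30 (all_cons eq20_31 (all_cons eq20_32 (all_cons eq20_33 (all_cons eq20_34 (all_cons eq20_35 (all_cons eq20_36 (all_cons eq20_37 (all_cons eq20_38 (all_cons eq20_39 (all_cons eq20_40 (all_cons eq20_41 (all_cons eq20_42 (all_cons eq20_43 (all_cons eq20_44 (all_cons eq20_45 (all_cons eq20_46 (all_cons eq20_47 (all_cons eq20_48 (all_cons eq20_49 (all_cons eq20_50 (all_cons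 eq20_51 (all_cons eq20_52 (all_cons eq20_53 (all_cons eq20_54 (all_cons eq20_55 (all_cons eq20_56 (all_cons eq20_57 (all_cons eq20_58 (all_cons eq20_59 (all_cons eq20_60 (all_cons eq20_61 (all_cons eq20_62 (all_cons eq20_63 (all_cons eq20_64 (all_cons eq20_65 (all_cons eq20_66 (all_cons eq20_67 all_nil))))))))))))))))))))))))))))))))))))))))))))))))))))))))))))))))))))

/-- the table agrees with the word -/
theorem eq20 : ∀ q < 306936, f20 q = wordR W20 q :=
  fun q hq => Nat.eq_of_beq_eq_true (eq20_all q hq)

end Cfsg.Agent.Fi24Out
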