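import Cfsg.Agent.Lib.Lead.Fi24Out.D20

/-! # The outer automorphism group of Fi₂₄′: the check of the table number 20, slices (generated) -/

set_option autoImplicit false
set_option Elab.async false
set_option maxRecDepth 100000

namespace Cfsg.Agent.Fi24Out

open Cfsg.Agent.PF Cfsg.Agent.Lib.Helper6 Cfsg.Agent.Lib.Helper6.TC
open Cfsg.Agent.PL (Acts evalF)

theorem eq20_0 : allR 0 4514 (fun q => (fun q => Nat.beq (f20 q) (wordR W20 q)) q) = true := by decide +kernel

theorem eq20_1 : allR 4514 4514 (fun q => (fun q => Nat.beq (f20 q) (wordR W20 q)) q) = true := by decide +kernel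

theorem eq20_2 : allR 9028 4514 (fun q => (fun q => Nat.beq (f20 q) (wordR W20 q)) q) = true := by decide +kernel

theorem eq20_3 : allR 13542 4514 (fun q => (fun q => Nat.beq (f20 q) (wordR W20 q)) q) = true := by decide +kernel

theorem eq20_4 : allR 18056 4514 (fun q => (fun q => Nat.beq (f20 q) (wordR W20 q)) q) = true := by decide +kernel

theorem eq20_5 : allR 22570 4514 (fun q => (fun q => Nat.beq (f20 q) (wordR W20 q)) q) = true := by decide +kernel

theorem eq20_6 : allR 27084 4514 (fun q => (fun q => Nat.beq (f20 q) (wordR W20 q)) q) = true := by decide +kernel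

theorem eq20_7 : allR 31598 4514 (fun q => (fun q => Nat.beq (f20 q) (wordR W20 q)) q) = true := by decide +kernel

theorem eq20_8 : allR 36112 4514 (fun q => (fun q => Nat.beq (f20 q) (wordR W20 q)) q) = true := by decide +kernel

theorem eq20_9 : allR 40626 4514 (fun q => (fun q => Nat.beq (f20 q) (wordR W20 q)) q) = true := by decide +kernel

theorem eq20_10 : allR 45140 4514 (fun q => (fun q => Nat.beq (f20 q) (wordR W20 q)) q) = true := by decide +kernel

theorem eq20_11 : allR 49654 4514 (fun q => (fun q => Nat.beq (f20 q) (wordR W20 q)) q) = true := by decide +kernel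

theorem eq20_12 : allR 54168 4514 (fun q => (fun q => Nat.beq (f20 q) (wordR W20 q)) q) = true := by decide +kernel

theorem eq20_13 : allR 58682 4514 (fun q => (fun q => Nat.beq (f20 q) (wordR W20 q)) q) = true := by decide +kernel

theorem eq20_14 : allR 63196 4514 (fun q => (fun q => Nat.beq (f20 q) (wordR W20 q)) q) = true := by decide +kernel

theorem eq20_15 : allR 67710 4514 (fun q => (fun q => Nat.beq (f20 q) (wordR W20 q)) q) = true := by decide +kernel

theorem eq20_16 : allR 72224 4514 (fun q => (fun q => Nat.beq (f20 q) (wordR W20 q)) q) = true := by decide +kernel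

theorem eq20_17 : allR 76738 4514 (fun q => (fun q => Nat.beq (f20 q) (wordR W20 q)) q) = true := by decide +kernel

theorem eq20_18 : allR 81252 4514 (fun q => (fun q => Nat.beq (f20 q) (wordR W20 q)) q) = true := by decide +kernel

theorem eq20_19 : allR 85766 4514 (fun q => (fun q => Nat.beq (f20 q) (wordR W20 q)) q) = true := by decide +kernel


end Cfsg.Agent.Fi24Out
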