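import Cfsg.Agent.Lib.Lead.Fi24Out.D21

/-! # The outer automorphism group of Fi₂₄′: the check of the table number 21, slices (generated) -/

set_option autoImplicit false
set_option Elab.async false
set_option maxRecDepth 100000

namespace Cfsg.Agent.Fi24Out

open Cfsg.Agent.PF Cfsg.Agent.Lib.Helper6 Cfsg.Agent.Lib.Helper6.TC
open Cfsg.Agent.PL (Acts evalF)

theorem eq21_40 : allR 245560 6139 (fun q => (fun q => Nat.beq (f21 q) (wordR W21 q)) q) = true := by decide +kernel

theorem eq21_41 : allR 251699 6139 (fun q => (fun q => Nat.beq (f21 q) (wordR W21 q)) q) = true := by decide +kernel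

theorem eq21_42 : allR 257838 6139 (fun q => (fun q => Nat.beq (f21 q) (wordR W21 q)) q) = true := by decide +kernel

theorem eq21_43 : allR 263977 6139 (fun q => (fun q => Nat.beq (f21 q) (wordR W21 q)) q) = true := by decide +kernel

theorem eq21_44 : allR 270116 6139 (fun q => (fun q => Nat.beq (f21 q) (wordR W21 q)) q) = true := by decide +kernel

theorem eq21_45 : allR 276255 6139 (fun q => (fun q => Nat.beq (f21 q) (wordR W21 q)) q) = true := by decide +kernel

theorem eq21_46 : allR 282394 6139 (fun q => (fun q => Nat.beq (f21 q) (wordR W21 q)) q) = true := by decide +kernel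

theorem eq21_47 : allR 288533 6139 (fun q => (fun q => Nat.beq (f21 q) (wordR W21 q)) q) = true := by decide +kernel

theorem eq21_48 : allR 294672 6139 (fun q => (fun q => Nat.beq (f21 q) (wordR W21 q)) q) = true := by decide +kernel

theorem eq21_49 : allR 300811 6125 (fun q => (fun q => Nat.beq (f21 q) (wordR W21 q)) q) = true := by decide +kernel


end Cfsg.Agent.Fi24Out
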