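import Cfsg.Agent.Lib.Lead.Fi24Out.C21_0
import Cfsg.Agent.Lib.Lead.Fi24Out.C21_1
import Cfsg.Agent.Lib.Lead.Fi24Out.C21_2
import Cfsg.Agent.Lib.Lead.Fi24Out.Base0

/-! # The outer automorphism group of Fi₂₄′: the check of the table number 21 (generated) -/

set_option autoImplicit false
set_option maxRecDepth 100000

namespace Cfsg.Agent.Fi24Out

open Cfsg.Agent.PF Cfsg.Agent.Lib.Helper6 Cfsg.Agent.Lib.Helper6.TC
open Cfsg.Agent.PL (Acts evalF)

theorem eq21_all : ∀ q < 306936, (fun q => Nat.beq (f21 q) (wordR W21 q)) q = true :=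
  forall_lt_of_chunks (f := fun q => (fun q => Nat.beq (f21 q) (wordR W21 q)) q) [(0, 6139), (6139, 6139), (12278, 6139), (18417, 6139), (24556, 6139), (30695, 6139), (36834, 6139), (42973, 6139), (49112, 6139), (55251, 6139), (61390, 6139), (67529, 6139), (73668, 6139), (79807, 6139), (85946, 6139), (92085, 6139), (98224, 6139), (104363, 6139), (110502, 6139), (116641, 6139), (122780, 6139), (128919, 6139), (135058, 6139), (141197, 6139), (147336, 6139), (153475, 6139), (159614, 6139), (165753, 6139), (171892, 6139), (178031, 6139), (184170, 6139), (190309, 6139), (196448, 6139), (202587, 6139), (208726, 6139), (214865, 6139), (221004, 6139), (227143, 6139), (233282, 6139), (239421, 6139), (245560, 6139), (251699, 6139), (257838, 6139), (263977, 6139), (270116, 6139), (276255, 6139), (282394, 6139), (288533, 6139), (294672, 6139), (300811, 6125)] (by decide)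
    (all_cons eq21_0 (all_cons eq21_1 (all_cons eq21_2 (all_cons eq21_3 (all_cons eq21_4 (all_cons eq21_5 (all_cons eq21_6 (all_cons eq21_7 (all_cons eq21_8 (all_cons eq21_9 (all_cons eq21_10 (all_cons eq21_11 (all_cons eq21_12 (all_cons eq21_13 (all_cons eq21_14 (all_cons eq21_15 (all_cons eq21_16 (all_cons eq21_17 (all_cons eq21_18 (all_cons eq21_19 (all_cons eq21_20 (all_cons eq21_21 (all_cons eq21_22 (all_cons eq21_23 (all_cons eq21_24 (all_cons eq21_25 (all_cons eq21_26 (all_cons eq21_27 (all_cons eq21_28 (all_cons eq21_29 (all_cons eq21_30 (all_cons eq21_31 (all_cons eq21_32 (all_cons eq21_33 (all_cons eq21_34 (all_cons eq21_35 (all_cons eq21_36 (all_cons eq21_37 (all_cons eq21_38 (all_cons eq21_39 (all_cons eq21_40 (all_cons eq21_41 (all_cons eq21_42 (all_cons eq21_43 (all_cons eq21_44 (all_cons eq21_45 (all_cons eq21_46 (all_cons eq21_47 (all_cons eq21_48 (all_cons eq21_49 all_nil))))))))))))))))))))))))))))))))))))))))))))))))))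

/-- the table agrees with the word -/
theorem eq21 : ∀ q < 306936, f21 q = wordR W21 q :=
  fun q hq => Nat.eq_of_beq_eq_true (eq21_all q hq)

end Cfsg.Agent.Fi24Out
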