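import Cfsg.Agent.Lib.Lead.Fi24Out.D22

/-! # The outer automorphism group of Fi₂₄′: the check of the table number 22, slices (generated) -/

set_option autoImplicit false
set_option Elab.async false
set_option maxRecDepth 100000

namespace Cfsg.Agent.Fi24Out

open Cfsg.Agent.PF Cfsg.Agent.Lib.Helper6 Cfsg.Agent.Lib.Helper6.TC
open Cfsg.Agent.PL (Acts evalF)

theorem eq22_40 : allR 165920 4148 (fun q => (fun q => Nat.beq (f22 q) (wordR W22 q)) q) = true := by decide +kernel

theorem eq22_41 : allR 170068 4148 (fun q => (fun q => Nat.beq (f22 q) (wordR W22 q)) q) = true := by decide +kernel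

theorem eq22_42 : allR 174216 4148 (fun q => (fun q => Nat.beq (f22 q) (wordR W22 q)) q) = true := by decide +kernel

theorem eq22_43 : allR 178364 4148 (fun q => (fun q => Nat.beq (f22 q) (wordR W22 q)) q) = true := by decide +kernel

theorem eq22_44 : allR 182512 4148 (fun q => (fun q => Nat.beq (f22 q) (wordR W22 q)) q) = true := by decide +kernel

theorem eq22_45 : allR 186660 4148 (fun q => (fun q => Nat.beq (f22 q) (wordR W22 q)) q) = true := by decide +kernel

theorem eq22_46 : allR 190808 4148 (fun q => (fun q => Nat.beq (f22 q) (wordR W22 q)) q) = true := by decide +kernel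

theorem eq22_47 : allR 194956 4148 (fun q => (fun q => Nat.beq (f22 q) (wordR W22 q)) q) = true := by decide +kernel

theorem eq22_48 : allR 199104 4148 (fun q => (fun q => Nat.beq (f22 q) (wordR W22 q)) q) = true := by decide +kernel

theorem eq22_49 : allR 203252 4148 (fun q => (fun q => Nat.beq (f22 q) (wordR W22 q)) q) = true := by decide +kernel

theorem eq22_50 : allR 207400 4148 (fun q => (fun q => Nat.beq (f22 q) (wordR W22 q)) q) = true := by decide +kernel

theorem eq22_51 : allR 211548 4148 (fun q => (fun q => Nat.beq (f22 q) (wordR W22 q)) q) = true := by decide +kernel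

theorem eq22_52 : allR 215696 4148 (fun q => (fun q => Nat.beq (f22 q) (wordR W22 q)) q) = true := by decide +kernel

theorem eq22_53 : allR 219844 4148 (fun q => (fun q => Nat.beq (f22 q) (wordR W22 q)) q) = true := by decide +kernel

theorem eq22_54 : allR 223992 4148 (fun q => (fun q => Nat.beq (f22 q) (wordR W22 q)) q) = true := by decide +kernel

theorem eq22_55 : allR 228140 4148 (fun q => (fun q => Nat.beq (f22 q) (wordR W22 q)) q) = true := by decide +kernel

theorem eq22_56 : allR 232288 4148 (fun q => (fun q => Nat.beq (f22 q) (wordR W22 q)) q) = true := by decide +kernel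

theorem eq22_57 : allR 236436 4148 (fun q => (fun q => Nat.beq (f22 q) (wordR W22 q)) q) = true := by decide +kernel

theorem eq22_58 : allR 240584 4148 (fun q => (fun q => Nat.beq (f22 q) (wordR W22 q)) q) = true := by decide +kernel

theorem eq22_59 : allR 244732 4148 (fun q => (fun q => Nat.beq (f22 q) (wordR W22 q)) q) = true := by decide +kernel


end Cfsg.Agent.Fi24Out
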