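import Cfsg.Agent.Lib.Lead.Fi24Out.D22

/-! # The outer automorphism group of Fi₂₄′: the check of the table number 22, slices (generated) -/

set_option autoImplicit false
set_option Elab.async false
set_option maxRecDepth 100000

namespace Cfsg.Agent.Fi24Out

open Cfsg.Agent.PF Cfsg.Agent.Lib.Helper6 Cfsg.Agent.Lib.Helper6.TC
open Cfsg.Agent.PL (Acts evalF)

theorem eq22_60 : allR 248880 4148 (fun q => (fun q => Nat.beq (f22 q) (wordR W22 q)) q) = true := by decide +kernel

theorem eq22_61 : allR 253028 4148 (fun q => (fun q => Nat.beq (f22 q) (wordR W22 q)) q) = true := by decide +kernel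

theorem eq22_62 : allR 257176 4148 (fun q => (fun q => Nat.beq (f22 q) (wordR W22 q)) q) = true := by decide +kernel

theorem eq22_63 : allR 261324 4148 (fun q => (fun q => Nat.beq (f22 q) (wordR W22 q)) q) = true := by decide +kernel

theorem eq22_64 : allR 265472 4148 (fun q => (fun q => Nat.beq (f22 q) (wordR W22 q)) q) = true := by decide +kernel

theorem eq22_65 : allR 269620 4148 (fun q => (fun q => Nat.beq (f22 q) (wordR W22 q)) q) = true := by decide +kernel

theorem eq22_66 : allR 273768 4148 (fun q => (fun q => Nat.beq (f22 q) (wordR W22 q)) q) = true := by decide +kernel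

theorem eq22_67 : allR 277916 4148 (fun q => (fun q => Nat.beq (f22 q) (wordR W22 q)) q) = true := by decide +kernel

theorem eq22_68 : allR 282064 4148 (fun q => (fun q => Nat.beq (f22 q) (wordR W22 q)) q) = true := by decide +kernel

theorem eq22_69 : allR 286212 4148 (fun q => (fun q => Nat.beq (f22 q) (wordR W22 q)) q) = true := by decide +kernel

theorem eq22_70 : allR 290360 4148 (fun q => (fun q => Nat.beq (f22 q) (wordR W22 q)) q) = true := by decide +kernel

theorem eq22_71 : allR 294508 4148 (fun q => (fun q => Nat.beq (f22 q) (wordR W22 q)) q) = true := by decide +kernel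

theorem eq22_72 : allR 298656 4148 (fun q => (fun q => Nat.beq (f22 q) (wordR W22 q)) q) = true := by decide +kernel

theorem eq22_73 : allR 302804 4132 (fun q => (fun q => Nat.beq (f22 q) (wordR W22 q)) q) = true := by decide +kernel


end Cfsg.Agent.Fi24Out
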