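import Cfsg.Agent.Lib.Lead.Fi24Out.D23

/-! # The outer automorphism group of Fi₂₄′: the check of the table number 23, slices (generated) -/

set_option autoImplicit false
set_option Elab.async false
set_option maxRecDepth 100000

namespace Cfsg.Agent.Fi24Out

open Cfsg.Agent.PF Cfsg.Agent.Lib.Helper6 Cfsg.Agent.Lib.Helper6.TC
open Cfsg.Agent.PL (Acts evalF)

theorem eq23_20 : allR 99020 4951 (fun q => (fun q => Nat.beq (f23 q) (wordR W23 q)) q) = true := by decide +kernel

theorem eq23_21 : allR 103971 4951 (fun q => (fun q => Nat.beq (f23 q) (wordR W23 q)) q) = true := by decide +kernel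

theorem eq23_22 : allR 108922 4951 (fun q => (fun q => Nat.beq (f23 q) (wordR W23 q)) q) = true := by decide +kernel

theorem eq23_23 : allR 113873 4951 (fun q => (fun q => Nat.beq (f23 q) (wordR W23 q)) q) = true := by decide +kernel

theorem eq23_24 : allR 118824 4951 (fun q => (fun q => Nat.beq (f23 q) (wordR W23 q)) q) = true := by decide +kernel

theorem eq23_25 : allR 123775 4951 (fun q => (fun q => Nat.beq (f23 q) (wordR W23 q)) q) = true := by decide +kernel

theorem eq23_26 : allR 128726 4951 (fun q => (fun q => Nat.beq (f23 q) (wordR W23 q)) q) = true := by decide +kernel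

theorem eq23_27 : allR 133677 4951 (fun q => (fun q => Nat.beq (f23 q) (wordR W23 q)) q) = true := by decide +kernel

theorem eq23_28 : allR 138628 4951 (fun q => (fun q => Nat.beq (f23 q) (wordR W23 q)) q) = true := by decide +kernel

theorem eq23_29 : allR 143579 4951 (fun q => (fun q => Nat.beq (f23 q) (wordR W23 q)) q) = true := by decide +kernel

theorem eq23_30 : allR 148530 4951 (fun q => (fun q => Nat.beq (f23 q) (wordR W23 q)) q) = true := by decide +kernel

theorem eq23_31 : allR 153481 4951 (fun q => (fun q => Nat.beq (f23 q) (wordR W23 q)) q) = true := by decide +kernel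

theorem eq23_32 : allR 158432 4951 (fun q => (fun q => Nat.beq (f23 q) (wordR W23 q)) q) = true := by decide +kernel

theorem eq23_33 : allR 163383 4951 (fun q => (fun q => Nat.beq (f23 q) (wordR W23 q)) q) = true := by decide +kernel

theorem eq23_34 : allR 168334 4951 (fun q => (fun q => Nat.beq (f23 q) (wordR W23 q)) q) = true := by decide +kernel

theorem eq23_35 : allR 173285 4951 (fun q => (fun q => Nat.beq (f23 q) (wordR W23 q)) q) = true := by decide +kernel

theorem eq23_36 : allR 178236 4951 (fun q => (fun q => Nat.beq (f23 q) (wordR W23 q)) q) = true := by decide +kernel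

theorem eq23_37 : allR 183187 4951 (fun q => (fun q => Nat.beq (f23 q) (wordR W23 q)) q) = true := by decide +kernel

theorem eq23_38 : allR 188138 4951 (fun q => (fun q => Nat.beq (f23 q) (wordR W23 q)) q) = true := by decide +kernel

theorem eq23_39 : allR 193089 4951 (fun q => (fun q => Nat.beq (f23 q) (wordR W23 q)) q) = true := by decide +kernel


end Cfsg.Agent.Fi24Out
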