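import Cfsg.Agent.Lib.Lead.Fi24Out.D23

/-! # The outer automorphism group of Fi₂₄′: the check of the table number 23, slices (generated) -/

set_option autoImplicit false
set_option Elab.async false
set_option maxRecDepth 100000

namespace Cfsg.Agent.Fi24Out

open Cfsg.Agent.PF Cfsg.Agent.Lib.Helper6 Cfsg.Agent.Lib.Helper6.TC
open Cfsg.Agent.PL (Acts evalF)

theorem eq23_60 : allR 297060 4951 (fun q => (fun q => Nat.beq (f23 q) (wordR W23 q)) q) = true := by decide +kernel

theorem eq23_61 : allR 302011 4925 (fun q => (fun q => Nat.beq (f23 q) (wordR W23 q)) q) = true := by decide +kernel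


end Cfsg.Agent.Fi24Out
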