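import Cfsg.Agent.Lib.Lead.Fi24Out.C23_0
import Cfsg.Agent.Lib.Lead.Fi24Out.C23_1
import Cfsg.Agent.Lib.Lead.Fi24Out.C23_2
import Cfsg.Agent.Lib.Lead.Fi24Out.C23_3
import Cfsg.Agent.Lib.Lead.Fi24Out.Base0

/-! # The outer automorphism group of Fi₂₄′: the check of the table number 23 (generated) -/

set_option autoImplicit false
set_option maxRecDepth 100000

namespace Cfsg.Agent.Fi24Out

open Cfsg.Agent.PF Cfsg.Agent.Lib.Helper6 Cfsg.Agent.Lib.Helper6.TC
open Cfsg.Agent.PL (Acts evalF)

theorem eq23_all : ∀ q < 306936, (fun q => Nat.beq (f23 q) (wordR W23 q)) q = true :=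
  forall_lt_of_chunks (f := fun q => (fun q => Nat.beq (f23 q) (wordR W23 q)) q) [(0, 4951), (4951, 4951), (9902, 4951), (14853, 4951), (19804, 4951), (24755, 4951), (29706, 4951), (34657, 4951), (39608, 4951), (44559, 4951), (49510, 4951), (54461, 4951), (59412, 4951), (64363, 4951), (69314, 4951), (74265, 4951), (79216, 4951), (84167, 4951), (89118, 4951), (94069, 4951), (99020, 4951), (103971, 4951), (108922, 4951), (113873, 4951), (118824, 4951), (123775, 4951), (128726, 4951), (133677, 4951), (138628, 4951), (143579, 4951), (148530, 4951), (153481, 4951), (158432, 4951), (163383, 4951), (168334, 4951), (173285, 4951), (178236, 4951), (183187, 4951), (188138, 4951), (193089, 4951), (198040, 4951), (202991, 4951), (207942, 4951), (212893, 4951), (217844, 4951), (222795, 4951), (227746, 4951), (232697, 4951), (237648, 4951), (242599, 4951), (247550, 4951), (252501, 4951), (257452, 4951), (262403, 4951), (267354, 4951), (272305, 4951), (277256, 4951), (282207, 4951), (287158, 4951), (292109, 4951), (297060, 4951), (302011,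 4925)] (by decide)
    (all_cons eq23_0 (all_cons eq23_1 (all_cons eq23_2 (all_cons eq23_3 (all_cons eq23_4 (all_cons eq23_5 (all_cons eq23_6 (all_cons eq23_7 (all_cons eq23_8 (all_cons eq23_9 (all_cons eq23_10 (all_cons eq23_11 (all_cons eq23_12 (all_cons eq23_13 (all_cons eq23_14 (all_cons eq23_15 (all_cons eq23_16 (all_cons eq23_17 (all_cons eq23_18 (all_cons eq23_19 (all_cons eq23_20 (all_cons eq23_21 (all_cons eq23_22 (all_cons eq23_23 (all_cons eq23_24 (all_cons eq23_25 (all_cons eq23_26 (all_cons eq23_27 (all_cons eq23_28 (all_cons eq23_29 (all_cons eq23_30 (all_cons eq23_31 (all_cons eq23_32 (all_cons eq23_33 (all_cons eq23_34 (all_cons eq23_35 (all_cons eq23_36 (all_cons eq23_37 (all_cons eq23_38 (all_cons eq23_39 (all_cons eq23_40 (all_cons eq23_41 (all_cons eq23_42 (all_cons eq23_43 (all_cons eq23_44 (all_cons eq23_45 (all_cons eq23_46 (all_cons eq23_47 (all_cons eq23_48 (all_cons eq23_49 (all_cons eq23_50 (all_cons eq23_51 (all_cons eq23_52 (all_cons eq23_53 (all_cons eq23_54 (all_cons eq23_55 (all_cons eq23_56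 (all_cons eq23_57 (all_cons eq23_58 (all_cons eq23_59 (all_cons eq23_60 (all_cons eq23_61 all_nil))))))))))))))))))))))))))))))))))))))))))))))))))))))))))))))

/-- the table agrees with the word -/
theorem eq23 : ∀ q < 306936, f23 q = wordR W23 q :=
  fun q hq => Nat.eq_of_beq_eq_true (eq23_all q hq)

end Cfsg.Agent.Fi24Out
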