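import Cfsg.Agent.Lib.Lead.Fi24Out.D23

/-! # The outer automorphism group of Fi₂₄′: the check of the table number 23, slices (generated) -/

set_option autoImplicit false
set_option Elab.async false
set_option maxRecDepth 100000

namespace Cfsg.Agent.Fi24Out

open Cfsg.Agent.PF Cfsg.Agent.Lib.Helper6 Cfsg.Agent.Lib.Helper6.TC
open Cfsg.Agent.PL (Acts evalF)

theorem eq23_0 : allR 0 4951 (fun q => (fun q => Nat.beq (f23 q) (wordR W23 q)) q) = true := by decide +kernel

theorem eq23_1 : allR 4951 4951 (fun q => (fun q => Nat.beq (f23 q) (wordR W23 q)) q) = true := by decide +kernel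

theorem eq23_2 : allR 9902 4951 (fun q => (fun q => Nat.beq (f23 q) (wordR W23 q)) q) = true := by decide +kernel

theorem eq23_3 : allR 14853 4951 (fun q => (fun q => Nat.beq (f23 q) (wordR W23 q)) q) = true := by decide +kernel

theorem eq23_4 : allR 19804 4951 (fun q => (fun q => Nat.beq (f23 q) (wordR W23 q)) q) = true := by decide +kernel

theorem eq23_5 : allR 24755 4951 (fun q => (fun q => Nat.beq (f23 q) (wordR W23 q)) q) = true := by decide +kernel

theorem eq23_6 : allR 29706 4951 (fun q => (fun q => Nat.beq (f23 q) (wordR W23 q)) q) = true := by decide +kernel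

theorem eq23_7 : allR 34657 4951 (fun q => (fun q => Nat.beq (f23 q) (wordR W23 q)) q) = true := by decide +kernel

theorem eq23_8 : allR 39608 4951 (fun q => (fun q => Nat.beq (f23 q) (wordR W23 q)) q) = true := by decide +kernel

theorem eq23_9 : allR 44559 4951 (fun q => (fun q => Nat.beq (f23 q) (wordR W23 q)) q) = true := by decide +kernel

theorem eq23_10 : allR 49510 4951 (fun q => (fun q => Nat.beq (f23 q) (wordR W23 q)) q) = true := by decide +kernel

theorem eq23_11 : allR 54461 4951 (fun q => (fun q => Nat.beq (f23 q) (wordR W23 q)) q) = true := by decide +kernel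

theorem eq23_12 : allR 59412 4951 (fun q => (fun q => Nat.beq (f23 q) (wordR W23 q)) q) = true := by decide +kernel

theorem eq23_13 : allR 64363 4951 (fun q => (fun q => Nat.beq (f23 q) (wordR W23 q)) q) = true := by decide +kernel

theorem eq23_14 : allR 69314 4951 (fun q => (fun q => Nat.beq (f23 q) (wordR W23 q)) q) = true := by decide +kernel

theorem eq23_15 : allR 74265 4951 (fun q => (fun q => Nat.beq (f23 q) (wordR W23 q)) q) = true := by decide +kernel

theorem eq23_16 : allR 79216 4951 (fun q => (fun q => Nat.beq (f23 q) (wordR W23 q)) q) = true := by decide +kernel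

theorem eq23_17 : allR 84167 4951 (fun q => (fun q => Nat.beq (f23 q) (wordR W23 q)) q) = true := by decide +kernel

theorem eq23_18 : allR 89118 4951 (fun q => (fun q => Nat.beq (f23 q) (wordR W23 q)) q) = true := by decide +kernel

theorem eq23_19 : allR 94069 4951 (fun q => (fun q => Nat.beq (f23 q) (wordR W23 q)) q) = true := by decide +kernel


end Cfsg.Agent.Fi24Out
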