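import Cfsg.Agent.Lib.Lead.Fi24Out.C24_0
import Cfsg.Agent.Lib.Lead.Fi24Out.C24_1
import Cfsg.Agent.Lib.Lead.Fi24Out.C24_2
import Cfsg.Agent.Lib.Lead.Fi24Out.C24_3
import Cfsg.Agent.Lib.Lead.Fi24Out.C24_4
import Cfsg.Agent.Lib.Lead.Fi24Out.Base0

/-! # The outer automorphism group of Fi₂₄′: the check of the table number 24 (generated) -/

set_option autoImplicit false
set_option maxRecDepth 100000

namespace Cfsg.Agent.Fi24Out

open Cfsg.Agent.PF Cfsg.Agent.Lib.Helper6 Cfsg.Agent.Lib.Helper6.TC
open Cfsg.Agent.PL (Acts evalF)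

theorem eq24_all : ∀ q < 306936, (fun q => Nat.beq (f24 q) (wordR W24 q)) q = true :=
  forall_lt_of_chunks (f := fun q => (fun q => Nat.beq (f24 q) (wordR W24 q)) q) [(0, 3570), (3570, 3570), (7140, 3570), (10710, 3570), (14280, 3570), (17850, 3570), (21420, 3570), (24990, 3570), (28560, 3570), (32130, 3570), (35700, 3570), (39270, 3570), (42840, 3570), (46410, 3570), (49980, 3570), (53550, 3570), (57120, 3570), (60690, 3570), (64260, 3570), (67830, 3570), (71400, 3570), (74970, 3570), (78540, 3570), (82110, 3570), (85680, 3570), (89250, 3570), (92820, 3570), (96390, 3570), (99960, 3570), (103530, 3570), (107100, 3570), (110670, 3570), (114240, 3570), (117810, 3570), (121380, 3570), (124950, 3570), (128520, 3570), (132090, 3570), (135660, 3570), (139230, 3570), (142800, 3570), (146370, 3570), (149940, 3570), (153510, 3570), (157080, 3570), (160650, 3570), (164220, 3570), (167790, 3570), (171360, 3570), (174930, 3570), (178500, 3570), (182070, 3570), (185640, 3570), (189210, 3570), (192780, 3570), (196350, 3570), (199920,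 3570), (203490, 3570), (207060, 3570), (210630, 3570), (214200, 3570), (217770, 3570), (221340, 3570), (224910, 3570), (228480, 3570), (232050, 3570), (235620, 3570), (239190, 3570), (242760, 3570), (246330, 3570), (249900, 3570), (253470, 3570), (257040, 3570), (260610, 3570), (264180, 3570), (267750, 3570), (271320, 3570), (274890, 3570), (278460, 3570), (282030, 3570), (285600, 3570), (289170, 3570), (292740, 3570), (296310, 3570), (299880, 3570), (303450, 3486)] (by decide)
    (all_cons eq24_0 (all_cons eq24_1 (all_cons eq24_2 (all_cons eq24_3 (all_cons eq24_4 (all_cons eq24_5 (all_cons eq24_6 (all_cons eq24_7 (all_cons eq24_8 (all_cons eq24_9 (all_cons eq24_10 (all_cons eq24_11 (all_cons eq24_12 (all_cons eq24_13 (all_cons eq24_14 (all_cons eq24_15 (all_cons eq24_16 (all_cons eq24_17 (all_cons eq24_18 (all_cons eq24_19 (all_cons eq24_20 (all_cons eq24_21 (all_cons eq24_22 (all_cons eq24_23 (all_cons eq24_24 (all_cons eq24_25 (all_cons eq24_26 (all_cons eq24_27 (all_cons eq24_28 (all_cons eq24_29 (all_cons eq24_30 (all_cons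 eq24_31 (all_cons eq24_32 (all_cons eq24_33 (all_cons eq24_34 (all_cons eq24_35 (all_cons eq24_36 (all_cons eq24_37 (all_cons eq24_38 (all_cons eq24_39 (all_cons eq24_40 (all_cons eq24_41 (all_cons eq24_42 (all_cons eq24_43 (all_cons eq24_44 (all_cons eq24_45 (all_cons eq24_46 (all_cons eq24_47 (all_cons eq24_48 (all_cons eq24_49 (all_cons eq24_50 (all_cons eq24_51 (all_cons eq24_52 (all_cons eq24_53 (all_cons eq24_54 (all_cons eq24_55 (all_cons eq24_56 (all_cons eq24_57 (all_cons eq24_58 (all_cons eq24_59 (all_cons eq24_60 (all_cons eq24_61 (all_cons eq24_62 (all_cons eq24_63 (all_cons eq24_64 (all_cons eq24_65 (all_cons eq24_66 (all_cons eq24_67 (all_cons eq24_68 (all_cons eq24_69 (all_cons eq24_70 (all_cons eq24_71 (all_cons eq24_72 (all_cons eq24_73 (all_cons eq24_74 (all_cons eq24_75 (all_cons eq24_76 (all_cons eq24_77 (all_cons eq24_78 (all_cons eq24_79 (all_cons eq24_80 (all_cons eq24_81 (all_cons eq24_82 (all_cons eq24_83 (all_cons eq24_84 (all_cons eq24_85 all_nil))))))))))))))))))))))))))))))))))))))))))))))))))))))))))))))))))))))))))))))))))))))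

/-- the table agrees with the word -/
theorem eq24 : ∀ q < 306936, f24 q = wordR W24 q :=
  fun q hq => Nat.eq_of_beq_eq_true (eq24_all q hq)

end Cfsg.Agent.Fi24Out
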