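import Cfsg.Agent.Lib.Lead.Fi24Out.D24

/-! # The outer automorphism group of Fi₂₄′: the check of the table number 24, slices (generated) -/

set_option autoImplicit false
set_option Elab.async false
set_option maxRecDepth 100000

namespace Cfsg.Agent.Fi24Out

open Cfsg.Agent.PF Cfsg.Agent.Lib.Helper6 Cfsg.Agent.Lib.Helper6.TC
open Cfsg.Agent.PL (Acts evalF)

theorem eq24_0 : allR 0 3570 (fun q => (fun q => Nat.beq (f24 q) (wordR W24 q)) q) = true := by decide +kernel

theorem eq24_1 : allR 3570 3570 (fun q => (fun q => Nat.beq (f24 q) (wordR W24 q)) q) = true := by decide +kernel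

theorem eq24_2 : allR 7140 3570 (fun q => (fun q => Nat.beq (f24 q) (wordR W24 q)) q) = true := by decide +kernel

theorem eq24_3 : allR 10710 3570 (fun q => (fun q => Nat.beq (f24 q) (wordR W24 q)) q) = true := by decide +kernel

theorem eq24_4 : allR 14280 3570 (fun q => (fun q => Nat.beq (f24 q) (wordR W24 q)) q) = true := by decide +kernel

theorem eq24_5 : allR 17850 3570 (fun q => (fun q => Nat.beq (f24 q) (wordR W24 q)) q) = true := by decide +kernel

theorem eq24_6 : allR 21420 3570 (fun q => (fun q => Nat.beq (f24 q) (wordR W24 q)) q) = true := by decide +kernel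

theorem eq24_7 : allR 24990 3570 (fun q => (fun q => Nat.beq (f24 q) (wordR W24 q)) q) = true := by decide +kernel

theorem eq24_8 : allR 28560 3570 (fun q => (fun q => Nat.beq (f24 q) (wordR W24 q)) q) = true := by decide +kernel

theorem eq24_9 : allR 32130 3570 (fun q => (fun q => Nat.beq (f24 q) (wordR W24 q)) q) = true := by decide +kernel

theorem eq24_10 : allR 35700 3570 (fun q => (fun q => Nat.beq (f24 q) (wordR W24 q)) q) = true := by decide +kernel

theorem eq24_11 : allR 39270 3570 (fun q => (fun q => Nat.beq (f24 q) (wordR W24 q)) q) = true := by decide +kernel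

theorem eq24_12 : allR 42840 3570 (fun q => (fun q => Nat.beq (f24 q) (wordR W24 q)) q) = true := by decide +kernel

theorem eq24_13 : allR 46410 3570 (fun q => (fun q => Nat.beq (f24 q) (wordR W24 q)) q) = true := by decide +kernel

theorem eq24_14 : allR 49980 3570 (fun q => (fun q => Nat.beq (f24 q) (wordR W24 q)) q) = true := by decide +kernel

theorem eq24_15 : allR 53550 3570 (fun q => (fun q => Nat.beq (f24 q) (wordR W24 q)) q) = true := by decide +kernel

theorem eq24_16 : allR 57120 3570 (fun q => (fun q => Nat.beq (f24 q) (wordR W24 q)) q) = true := by decide +kernel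

theorem eq24_17 : allR 60690 3570 (fun q => (fun q => Nat.beq (f24 q) (wordR W24 q)) q) = true := by decide +kernel

theorem eq24_18 : allR 64260 3570 (fun q => (fun q => Nat.beq (f24 q) (wordR W24 q)) q) = true := by decide +kernel

theorem eq24_19 : allR 67830 3570 (fun q => (fun q => Nat.beq (f24 q) (wordR W24 q)) q) = true := by decide +kernel


end Cfsg.Agent.Fi24Out
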