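import Cfsg.Agent.Lib.Lead.Fi24Out.D25

/-! # The outer automorphism group of Fi₂₄′: the check of the table number 25, slices (generated) -/

set_option autoImplicit false
set_option Elab.async false
set_option maxRecDepth 100000

namespace Cfsg.Agent.Fi24Out

open Cfsg.Agent.PF Cfsg.Agent.Lib.Helper6 Cfsg.Agent.Lib.Helper6.TC
open Cfsg.Agent.PL (Acts evalF)

theorem eq25_60 : allR 221940 3699 (fun q => (fun q => Nat.beq (f25 q) (wordR W25 q)) q) = true := by decide +kernel

theorem eq25_61 : allR 225639 3699 (fun q => (fun q => Nat.beq (f25 q) (wordR W25 q)) q) = true := by decide +kernel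

theorem eq25_62 : allR 229338 3699 (fun q => (fun q => Nat.beq (f25 q) (wordR W25 q)) q) = true := by decide +kernel

theorem eq25_63 : allR 233037 3699 (fun q => (fun q => Nat.beq (f25 q) (wordR W25 q)) q) = true := by decide +kernel

theorem eq25_64 : allR 236736 3699 (fun q => (fun q => Nat.beq (f25 q) (wordR W25 q)) q) = true := by decide +kernel

theorem eq25_65 : allR 240435 3699 (fun q => (fun q => Nat.beq (f25 q) (wordR W25 q)) q) = true := by decide +kernel

theorem eq25_66 : allR 244134 3699 (fun q => (fun q => Nat.beq (f25 q) (wordR W25 q)) q) = true := by decide +kernel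

theorem eq25_67 : allR 247833 3699 (fun q => (fun q => Nat.beq (f25 q) (wordR W25 q)) q) = true := by decide +kernel

theorem eq25_68 : allR 251532 3699 (fun q => (fun q => Nat.beq (f25 q) (wordR W25 q)) q) = true := by decide +kernel

theorem eq25_69 : allR 255231 3699 (fun q => (fun q => Nat.beq (f25 q) (wordR W25 q)) q) = true := by decide +kernel

theorem eq25_70 : allR 258930 3699 (fun q => (fun q => Nat.beq (f25 q) (wordR W25 q)) q) = true := by decide +kernel

theorem eq25_71 : allR 262629 3699 (fun q => (fun q => Nat.beq (f25 q) (wordR W25 q)) q) = true := by decide +kernel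

theorem eq25_72 : allR 266328 3699 (fun q => (fun q => Nat.beq (f25 q) (wordR W25 q)) q) = true := by decide +kernel

theorem eq25_73 : allR 270027 3699 (fun q => (fun q => Nat.beq (f25 q) (wordR W25 q)) q) = true := by decide +kernel

theorem eq25_74 : allR 273726 3699 (fun q => (fun q => Nat.beq (f25 q) (wordR W25 q)) q) = true := by decide +kernel

theorem eq25_75 : allR 277425 3699 (fun q => (fun q => Nat.beq (f25 q) (wordR W25 q)) q) = true := by decide +kernel

theorem eq25_76 : allR 281124 3699 (fun q => (fun q => Nat.beq (f25 q) (wordR W25 q)) q) = true := by decide +kernel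

theorem eq25_77 : allR 284823 3699 (fun q => (fun q => Nat.beq (f25 q) (wordR W25 q)) q) = true := by decide +kernel

theorem eq25_78 : allR 288522 3699 (fun q => (fun q => Nat.beq (f25 q) (wordR W25 q)) q) = true := by decide +kernel

theorem eq25_79 : allR 292221 3699 (fun q => (fun q => Nat.beq (f25 q) (wordR W25 q)) q) = true := by decide +kernel


end Cfsg.Agent.Fi24Out
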