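import Cfsg.Agent.Lib.Lead.Fi24Out.D26

/-! # The outer automorphism group of Fi₂₄′: the check of the table number 26, slices (generated) -/

set_option autoImplicit false
set_option Elab.async false
set_option maxRecDepth 100000

namespace Cfsg.Agent.Fi24Out

open Cfsg.Agent.PF Cfsg.Agent.Lib.Helper6 Cfsg.Agent.Lib.Helper6.TC
open Cfsg.Agent.PL (Acts evalF)

theorem eq26_20 : allR 71400 3570 (fun q => (fun q => Nat.beq (f26 q) (wordR W26 q)) q) = true := by decide +kernel

theorem eq26_21 : allR 74970 3570 (fun q => (fun q => Nat.beq (f26 q) (wordR W26 q)) q) = true := by decide +kernel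

theorem eq26_22 : allR 78540 3570 (fun q => (fun q => Nat.beq (f26 q) (wordR W26 q)) q) = true := by decide +kernel

theorem eq26_23 : allR 82110 3570 (fun q => (fun q => Nat.beq (f26 q) (wordR W26 q)) q) = true := by decide +kernel

theorem eq26_24 : allR 85680 3570 (fun q => (fun q => Nat.beq (f26 q) (wordR W26 q)) q) = true := by decide +kernel

theorem eq26_25 : allR 89250 3570 (fun q => (fun q => Nat.beq (f26 q) (wordR W26 q)) q) = true := by decide +kernel

theorem eq26_26 : allR 92820 3570 (fun q => (fun q => Nat.beq (f26 q) (wordR W26 q)) q) = true := by decide +kernel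

theorem eq26_27 : allR 96390 3570 (fun q => (fun q => Nat.beq (f26 q) (wordR W26 q)) q) = true := by decide +kernel

theorem eq26_28 : allR 99960 3570 (fun q => (fun q => Nat.beq (f26 q) (wordR W26 q)) q) = true := by decide +kernel

theorem eq26_29 : allR 103530 3570 (fun q => (fun q => Nat.beq (f26 q) (wordR W26 q)) q) = true := by decide +kernel

theorem eq26_30 : allR 107100 3570 (fun q => (fun q => Nat.beq (f26 q) (wordR W26 q)) q) = true := by decide +kernel

theorem eq26_31 : allR 110670 3570 (fun q => (fun q => Nat.beq (f26 q) (wordR W26 q)) q) = true := by decide +kernel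

theorem eq26_32 : allR 114240 3570 (fun q => (fun q => Nat.beq (f26 q) (wordR W26 q)) q) = true := by decide +kernel

theorem eq26_33 : allR 117810 3570 (fun q => (fun q => Nat.beq (f26 q) (wordR W26 q)) q) = true := by decide +kernel

theorem eq26_34 : allR 121380 3570 (fun q => (fun q => Nat.beq (f26 q) (wordR W26 q)) q) = true := by decide +kernel

theorem eq26_35 : allR 124950 3570 (fun q => (fun q => Nat.beq (f26 q) (wordR W26 q)) q) = true := by decide +kernel

theorem eq26_36 : allR 128520 3570 (fun q => (fun q => Nat.beq (f26 q) (wordR W26 q)) q) = true := by decide +kernel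

theorem eq26_37 : allR 132090 3570 (fun q => (fun q => Nat.beq (f26 q) (wordR W26 q)) q) = true := by decide +kernel

theorem eq26_38 : allR 135660 3570 (fun q => (fun q => Nat.beq (f26 q) (wordR W26 q)) q) = true := by decide +kernel

theorem eq26_39 : allR 139230 3570 (fun q => (fun q => Nat.beq (f26 q) (wordR W26 q)) q) = true := by decide +kernel


end Cfsg.Agent.Fi24Out
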