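import Cfsg.Agent.Lib.Lead.Fi24Out.D26

/-! # The outer automorphism group of Fi₂₄′: the check of the table number 26, slices (generated) -/

set_option autoImplicit false
set_option Elab.async false
set_option maxRecDepth 100000

namespace Cfsg.Agent.Fi24Out

open Cfsg.Agent.PF Cfsg.Agent.Lib.Helper6 Cfsg.Agent.Lib.Helper6.TC
open Cfsg.Agent.PL (Acts evalF)

theorem eq26_40 : allR 142800 3570 (fun q => (fun q => Nat.beq (f26 q) (wordR W26 q)) q) = true := by decide +kernel

theorem eq26_41 : allR 146370 3570 (fun q => (fun q => Nat.beq (f26 q) (wordR W26 q)) q) = true := by decide +kernel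

theorem eq26_42 : allR 149940 3570 (fun q => (fun q => Nat.beq (f26 q) (wordR W26 q)) q) = true := by decide +kernel

theorem eq26_43 : allR 153510 3570 (fun q => (fun q => Nat.beq (f26 q) (wordR W26 q)) q) = true := by decide +kernel

theorem eq26_44 : allR 157080 3570 (fun q => (fun q => Nat.beq (f26 q) (wordR W26 q)) q) = true := by decide +kernel

theorem eq26_45 : allR 160650 3570 (fun q => (fun q => Nat.beq (f26 q) (wordR W26 q)) q) = true := by decide +kernel

theorem eq26_46 : allR 164220 3570 (fun q => (fun q => Nat.beq (f26 q) (wordR W26 q)) q) = true := by decide +kernel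

theorem eq26_47 : allR 167790 3570 (fun q => (fun q => Nat.beq (f26 q) (wordR W26 q)) q) = true := by decide +kernel

theorem eq26_48 : allR 171360 3570 (fun q => (fun q => Nat.beq (f26 q) (wordR W26 q)) q) = true := by decide +kernel

theorem eq26_49 : allR 174930 3570 (fun q => (fun q => Nat.beq (f26 q) (wordR W26 q)) q) = true := by decide +kernel

theorem eq26_50 : allR 178500 3570 (fun q => (fun q => Nat.beq (f26 q) (wordR W26 q)) q) = true := by decide +kernel

theorem eq26_51 : allR 182070 3570 (fun q => (fun q => Nat.beq (f26 q) (wordR W26 q)) q) = true := by decide +kernel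

theorem eq26_52 : allR 185640 3570 (fun q => (fun q => Nat.beq (f26 q) (wordR W26 q)) q) = true := by decide +kernel

theorem eq26_53 : allR 189210 3570 (fun q => (fun q => Nat.beq (f26 q) (wordR W26 q)) q) = true := by decide +kernel

theorem eq26_54 : allR 192780 3570 (fun q => (fun q => Nat.beq (f26 q) (wordR W26 q)) q) = true := by decide +kernel

theorem eq26_55 : allR 196350 3570 (fun q => (fun q => Nat.beq (f26 q) (wordR W26 q)) q) = true := by decide +kernel

theorem eq26_56 : allR 199920 3570 (fun q => (fun q => Nat.beq (f26 q) (wordR W26 q)) q) = true := by decide +kernel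

theorem eq26_57 : allR 203490 3570 (fun q => (fun q => Nat.beq (f26 q) (wordR W26 q)) q) = true := by decide +kernel

theorem eq26_58 : allR 207060 3570 (fun q => (fun q => Nat.beq (f26 q) (wordR W26 q)) q) = true := by decide +kernel

theorem eq26_59 : allR 210630 3570 (fun q => (fun q => Nat.beq (f26 q) (wordR W26 q)) q) = true := by decide +kernel


end Cfsg.Agent.Fi24Out
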