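import Cfsg.Agent.Lib.Lead.Fi24Out.D26

/-! # The outer automorphism group of Fi₂₄′: the check of the table number 26, slices (generated) -/

set_option autoImplicit false
set_option Elab.async false
set_option maxRecDepth 100000

namespace Cfsg.Agent.Fi24Out

open Cfsg.Agent.PF Cfsg.Agent.Lib.Helper6 Cfsg.Agent.Lib.Helper6.TC
open Cfsg.Agent.PL (Acts evalF)

theorem eq26_60 : allR 214200 3570 (fun q => (fun q => Nat.beq (f26 q) (wordR W26 q)) q) = true := by decide +kernel

theorem eq26_61 : allR 217770 3570 (fun q => (fun q => Nat.beq (f26 q) (wordR W26 q)) q) = true := by decide +kernel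

theorem eq26_62 : allR 221340 3570 (fun q => (fun q => Nat.beq (f26 q) (wordR W26 q)) q) = true := by decide +kernel

theorem eq26_63 : allR 224910 3570 (fun q => (fun q => Nat.beq (f26 q) (wordR W26 q)) q) = true := by decide +kernel

theorem eq26_64 : allR 228480 3570 (fun q => (fun q => Nat.beq (f26 q) (wordR W26 q)) q) = true := by decide +kernel

theorem eq26_65 : allR 232050 3570 (fun q => (fun q => Nat.beq (f26 q) (wordR W26 q)) q) = true := by decide +kernel

theorem eq26_66 : allR 235620 3570 (fun q => (fun q => Nat.beq (f26 q) (wordR W26 q)) q) = true := by decide +kernel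

theorem eq26_67 : allR 239190 3570 (fun q => (fun q => Nat.beq (f26 q) (wordR W26 q)) q) = true := by decide +kernel

theorem eq26_68 : allR 242760 3570 (fun q => (fun q => Nat.beq (f26 q) (wordR W26 q)) q) = true := by decide +kernel

theorem eq26_69 : allR 246330 3570 (fun q => (fun q => Nat.beq (f26 q) (wordR W26 q)) q) = true := by decide +kernel

theorem eq26_70 : allR 249900 3570 (fun q => (fun q => Nat.beq (f26 q) (wordR W26 q)) q) = true := by decide +kernel

theorem eq26_71 : allR 253470 3570 (fun q => (fun q => Nat.beq (f26 q) (wordR W26 q)) q) = true := by decide +kernel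

theorem eq26_72 : allR 257040 3570 (fun q => (fun q => Nat.beq (f26 q) (wordR W26 q)) q) = true := by decide +kernel

theorem eq26_73 : allR 260610 3570 (fun q => (fun q => Nat.beq (f26 q) (wordR W26 q)) q) = true := by decide +kernel

theorem eq26_74 : allR 264180 3570 (fun q => (fun q => Nat.beq (f26 q) (wordR W26 q)) q) = true := by decide +kernel

theorem eq26_75 : allR 267750 3570 (fun q => (fun q => Nat.beq (f26 q) (wordR W26 q)) q) = true := by decide +kernel

theorem eq26_76 : allR 271320 3570 (fun q => (fun q => Nat.beq (f26 q) (wordR W26 q)) q) = true := by decide +kernel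

theorem eq26_77 : allR 274890 3570 (fun q => (fun q => Nat.beq (f26 q) (wordR W26 q)) q) = true := by decide +kernel

theorem eq26_78 : allR 278460 3570 (fun q => (fun q => Nat.beq (f26 q) (wordR W26 q)) q) = true := by decide +kernel

theorem eq26_79 : allR 282030 3570 (fun q => (fun q => Nat.beq (f26 q) (wordR W26 q)) q) = true := by decide +kernel


end Cfsg.Agent.Fi24Out
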