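import Cfsg.Agent.Lib.Lead.Fi24Out.D27

/-! # The outer automorphism group of Fi₂₄′: the check of the table number 27, slices (generated) -/

set_option autoImplicit false
set_option Elab.async false
set_option maxRecDepth 100000

namespace Cfsg.Agent.Fi24Out

open Cfsg.Agent.PF Cfsg.Agent.Lib.Helper6 Cfsg.Agent.Lib.Helper6.TC
open Cfsg.Agent.PL (Acts evalF)

theorem eq27_0 : allR 0 3198 (fun q => (fun q => Nat.beq (f27 q) (wordR W27 q)) q) = true := by decide +kernel

theorem eq27_1 : allR 3198 3198 (fun q => (fun q => Nat.beq (f27 q) (wordR W27 q)) q) = true := by decide +kernel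

theorem eq27_2 : allR 6396 3198 (fun q => (fun q => Nat.beq (f27 q) (wordR W27 q)) q) = true := by decide +kernel

theorem eq27_3 : allR 9594 3198 (fun q => (fun q => Nat.beq (f27 q) (wordR W27 q)) q) = true := by decide +kernel

theorem eq27_4 : allR 12792 3198 (fun q => (fun q => Nat.beq (f27 q) (wordR W27 q)) q) = true := by decide +kernel

theorem eq27_5 : allR 15990 3198 (fun q => (fun q => Nat.beq (f27 q) (wordR W27 q)) q) = true := by decide +kernel

theorem eq27_6 : allR 19188 3198 (fun q => (fun q => Nat.beq (f27 q) (wordR W27 q)) q) = true := by decide +kernel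

theorem eq27_7 : allR 22386 3198 (fun q => (fun q => Nat.beq (f27 q) (wordR W27 q)) q) = true := by decide +kernel

theorem eq27_8 : allR 25584 3198 (fun q => (fun q => Nat.beq (f27 q) (wordR W27 q)) q) = true := by decide +kernel

theorem eq27_9 : allR 28782 3198 (fun q => (fun q => Nat.beq (f27 q) (wordR W27 q)) q) = true := by decide +kernel

theorem eq27_10 : allR 31980 3198 (fun q => (fun q => Nat.beq (f27 q) (wordR W27 q)) q) = true := by decide +kernel

theorem eq27_11 : allR 35178 3198 (fun q => (fun q => Nat.beq (f27 q) (wordR W27 q)) q) = true := by decide +kernel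

theorem eq27_12 : allR 38376 3198 (fun q => (fun q => Nat.beq (f27 q) (wordR W27 q)) q) = true := by decide +kernel

theorem eq27_13 : allR 41574 3198 (fun q => (fun q => Nat.beq (f27 q) (wordR W27 q)) q) = true := by decide +kernel

theorem eq27_14 : allR 44772 3198 (fun q => (fun q => Nat.beq (f27 q) (wordR W27 q)) q) = true := by decide +kernel

theorem eq27_15 : allR 47970 3198 (fun q => (fun q => Nat.beq (f27 q) (wordR W27 q)) q) = true := by decide +kernel

theorem eq27_16 : allR 51168 3198 (fun q => (fun q => Nat.beq (f27 q) (wordR W27 q)) q) = true := by decide +kernel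

theorem eq27_17 : allR 54366 3198 (fun q => (fun q => Nat.beq (f27 q) (wordR W27 q)) q) = true := by decide +kernel

theorem eq27_18 : allR 57564 3198 (fun q => (fun q => Nat.beq (f27 q) (wordR W27 q)) q) = true := by decide +kernel

theorem eq27_19 : allR 60762 3198 (fun q => (fun q => Nat.beq (f27 q) (wordR W27 q)) q) = true := by decide +kernel


end Cfsg.Agent.Fi24Out
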