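import Cfsg.Agent.Lib.Lead.Fi24Out.C28_0
import Cfsg.Agent.Lib.Lead.Fi24Out.C28_1
import Cfsg.Agent.Lib.Lead.Fi24Out.Base0

/-! # The outer automorphism group of Fi₂₄′: the check of the table number 28 (generated) -/

set_option autoImplicit false
set_option maxRecDepth 100000

namespace Cfsg.Agent.Fi24Out

open Cfsg.Agent.PF Cfsg.Agent.Lib.Helper6 Cfsg.Agent.Lib.Helper6.TC
open Cfsg.Agent.PL (Acts evalF)

theorem eq28_all : ∀ q < 306936, (fun q => Nat.beq (f28 q) (wordR W28 q)) q = true :=
  forall_lt_of_chunks (f := fun q => (fun q => Nat.beq (f28 q) (wordR W28 q)) q) [(0, 8296), (8296, 8296), (16592, 8296), (24888, 8296), (33184, 8296), (41480, 8296), (49776, 8296), (58072, 8296), (66368, 8296), (74664, 8296), (82960, 8296), (91256, 8296), (99552, 8296), (107848, 8296), (116144, 8296), (124440, 8296), (132736, 8296), (141032, 8296), (149328, 8296), (157624, 8296), (165920, 8296), (174216, 8296), (182512, 8296), (190808, 8296), (199104, 8296), (207400, 8296), (215696, 8296), (223992, 8296), (232288, 8296), (240584,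 8296), (248880, 8296), (257176, 8296), (265472, 8296), (273768, 8296), (282064, 8296), (290360, 8296), (298656, 8280)] (by decide)
    (all_cons eq28_0 (all_cons eq28_1 (all_cons eq28_2 (all_cons eq28_3 (all_cons eq28_4 (all_cons eq28_5 (all_cons eq28_6 (all_cons eq28_7 (all_cons eq28_8 (all_cons eq28_9 (all_cons eq28_10 (all_cons eq28_11 (all_cons eq28_12 (all_cons eq28_13 (all_cons eq28_14 (all_cons eq28_15 (all_cons eq28_16 (all_cons eq28_17 (all_cons eq28_18 (all_cons eq28_19 (all_cons eq28_20 (all_cons eq28_21 (all_cons eq28_22 (all_cons eq28_23 (all_cons eq28_24 (all_cons eq28_25 (all_cons eq28_26 (all_cons eq28_27 (all_cons eq28_28 (all_cons eq28_29 (all_cons eq28_30 (all_cons eq28_31 (all_cons eq28_32 (all_cons eq28_33 (all_cons eq28_34 (all_cons eq28_35 (all_cons eq28_36 all_nil)))))))))))))))))))))))))))))))))))))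

/-- the table agrees with the word -/
theorem eq28 : ∀ q < 306936, f28 q = wordR W28 q :=
  fun q hq => Nat.eq_of_beq_eq_true (eq28_all q hq)

end Cfsg.Agent.Fi24Out
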