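import Cfsg.Agent.Lib.Lead.Fi24Out.D29

/-! # The outer automorphism group of Fi₂₄′: the check of the table number 29, slices (generated) -/

set_option autoImplicit false
set_option Elab.async false
set_option maxRecDepth 100000

namespace Cfsg.Agent.Fi24Out

open Cfsg.Agent.PF Cfsg.Agent.Lib.Helper6 Cfsg.Agent.Lib.Helper6.TC
open Cfsg.Agent.PL (Acts evalF)

theorem eq29_20 : allR 279040 13952 (fun q => (fun q => Nat.beq (f29 q) (wordR W29 q)) q) = true := by decide +kernel

theorem eq29_21 : allR 292992 13944 (fun q => (fun q => Nat.beq (f29 q) (wordR W29 q)) q) = true := by decide +kernel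


end Cfsg.Agent.Fi24Out
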