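import Cfsg.Agent.Lib.Lead.Fi24Out.C29_0
import Cfsg.Agent.Lib.Lead.Fi24Out.C29_1
import Cfsg.Agent.Lib.Lead.Fi24Out.Base0

/-! # The outer automorphism group of Fi₂₄′: the check of the table number 29 (generated) -/

set_option autoImplicit false
set_option maxRecDepth 100000

namespace Cfsg.Agent.Fi24Out

open Cfsg.Agent.PF Cfsg.Agent.Lib.Helper6 Cfsg.Agent.Lib.Helper6.TC
open Cfsg.Agent.PL (Acts evalF)

theorem eq29_all : ∀ q < 306936, (fun q => Nat.beq (f29 q) (wordR W29 q)) q = true :=
  forall_lt_of_chunks (f := fun q => (fun q => Nat.beq (f29 q) (wordR W29 q)) q) [(0, 13952), (13952, 13952), (27904, 13952), (41856, 13952), (55808, 13952), (69760, 13952), (83712, 13952), (97664, 13952), (111616, 13952), (125568, 13952), (139520, 13952), (153472, 13952), (167424, 13952), (181376, 13952), (195328, 13952), (209280, 13952), (223232, 13952), (237184, 13952), (251136, 13952), (265088, 13952), (279040, 13952), (292992, 13944)] (by decide)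
    (all_cons eq29_0 (all_cons eq29_1 (all_cons eq29_2 (all_cons eq29_3 (all_cons eq29_4 (all_cons eq29_5 (all_cons eq29_6 (all_cons eq29_7 (all_cons eq29_8 (all_cons eq29_9 (all_cons eq29_10 (all_cons eq29_11 (all_cons eq29_12 (all_cons eq29_13 (all_cons eq29_14 (all_cons eq29_15 (all_cons eq29_16 (all_cons eq29_17 (all_cons eq29_18 (all_cons eq29_19 (all_cons eq29_20 (all_cons eq29_21 all_nil))))))))))))))))))))))

/-- the table agrees with the word -/
theorem eq29 : ∀ q < 306936, f29 q = wordR W29 q :=
  fun q hq => Nat.eq_of_beq_eq_true (eq29_all q hq)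

end Cfsg.Agent.Fi24Out
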