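import Cfsg.Agent.Lib.Lead.Fi24Out.D29

/-! # The outer automorphism group of Fi₂₄′: the check of the table number 29, slices (generated) -/

set_option autoImplicit false
set_option Elab.async false
set_option maxRecDepth 100000

namespace Cfsg.Agent.Fi24Out

open Cfsg.Agent.PF Cfsg.Agent.Lib.Helper6 Cfsg.Agent.Lib.Helper6.TC
open Cfsg.Agent.PL (Acts evalF)

theorem eq29_0 : allR 0 13952 (fun q => (fun q => Nat.beq (f29 q) (wordR W29 q)) q) = true := by decide +kernel

theorem eq29_1 : allR 13952 13952 (fun q => (fun q => Nat.beq (f29 q) (wordR W29 q)) q) = true := by decide +kernel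

theorem eq29_2 : allR 27904 13952 (fun q => (fun q => Nat.beq (f29 q) (wordR W29 q)) q) = true := by decide +kernel

theorem eq29_3 : allR 41856 13952 (fun q => (fun q => Nat.beq (f29 q) (wordR W29 q)) q) = true := by decide +kernel

theorem eq29_4 : allR 55808 13952 (fun q => (fun q => Nat.beq (f29 q) (wordR W29 q)) q) = true := by decide +kernel

theorem eq29_5 : allR 69760 13952 (fun q => (fun q => Nat.beq (f29 q) (wordR W29 q)) q) = true := by decide +kernel

theorem eq29_6 : allR 83712 13952 (fun q => (fun q => Nat.beq (f29 q) (wordR W29 q)) q) = true := by decide +kernel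

theorem eq29_7 : allR 97664 13952 (fun q => (fun q => Nat.beq (f29 q) (wordR W29 q)) q) = true := by decide +kernel

theorem eq29_8 : allR 111616 13952 (fun q => (fun q => Nat.beq (f29 q) (wordR W29 q)) q) = true := by decide +kernel

theorem eq29_9 : allR 125568 13952 (fun q => (fun q => Nat.beq (f29 q) (wordR W29 q)) q) = true := by decide +kernel

theorem eq29_10 : allR 139520 13952 (fun q => (fun q => Nat.beq (f29 q) (wordR W29 q)) q) = true := by decide +kernel

theorem eq29_11 : allR 153472 13952 (fun q => (fun q => Nat.beq (f29 q) (wordR W29 q)) q) = true := by decide +kernel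

theorem eq29_12 : allR 167424 13952 (fun q => (fun q => Nat.beq (f29 q) (wordR W29 q)) q) = true := by decide +kernel

theorem eq29_13 : allR 181376 13952 (fun q => (fun q => Nat.beq (f29 q) (wordR W29 q)) q) = true := by decide +kernel

theorem eq29_14 : allR 195328 13952 (fun q => (fun q => Nat.beq (f29 q) (wordR W29 q)) q) = true := by decide +kernel

theorem eq29_15 : allR 209280 13952 (fun q => (fun q => Nat.beq (f29 q) (wordR W29 q)) q) = true := by decide +kernel

theorem eq29_16 : allR 223232 13952 (fun q => (fun q => Nat.beq (f29 q) (wordR W29 q)) q) = true := by decide +kernel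

theorem eq29_17 : allR 237184 13952 (fun q => (fun q => Nat.beq (f29 q) (wordR W29 q)) q) = true := by decide +kernel

theorem eq29_18 : allR 251136 13952 (fun q => (fun q => Nat.beq (f29 q) (wordR W29 q)) q) = true := by decide +kernel

theorem eq29_19 : allR 265088 13952 (fun q => (fun q => Nat.beq (f29 q) (wordR W29 q)) q) = true := by decide +kernel


end Cfsg.Agent.Fi24Out
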