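import Cfsg.Agent.Lib.Lead.Fi24Out.D3

/-! # The outer automorphism group of Fi₂₄′: the check of the table number 3, slices (generated) -/

set_option autoImplicit false
set_option Elab.async false
set_option maxRecDepth 100000

namespace Cfsg.Agent.Fi24Out

open Cfsg.Agent.PF Cfsg.Agent.Lib.Helper6 Cfsg.Agent.Lib.Helper6.TC
open Cfsg.Agent.PL (Acts evalF)

theorem eq3_20 : allR 165920 8296 (fun q => (fun q => Nat.beq (f3 q) (fa 4 q)) q) = true := by decide +kernel

theorem eq3_21 : allR 174216 8296 (fun q => (fun q => Nat.beq (f3 q) (fa 4 q)) q) = true := by decide +kernel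

theorem eq3_22 : allR 182512 8296 (fun q => (fun q => Nat.beq (f3 q) (fa 4 q)) q) = true := by decide +kernel

theorem eq3_23 : allR 190808 8296 (fun q => (fun q => Nat.beq (f3 q) (fa 4 q)) q) = true := by decide +kernel

theorem eq3_24 : allR 199104 8296 (fun q => (fun q => Nat.beq (f3 q) (fa 4 q)) q) = true := by decide +kernel

theorem eq3_25 : allR 207400 8296 (fun q => (fun q => Nat.beq (f3 q) (fa 4 q)) q) = true := by decide +kernel

theorem eq3_26 : allR 215696 8296 (fun q => (fun q => Nat.beq (f3 q) (fa 4 q)) q) = true := by decide +kernel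

theorem eq3_27 : allR 223992 8296 (fun q => (fun q => Nat.beq (f3 q) (fa 4 q)) q) = true := by decide +kernel

theorem eq3_28 : allR 232288 8296 (fun q => (fun q => Nat.beq (f3 q) (fa 4 q)) q) = true := by decide +kernel

theorem eq3_29 : allR 240584 8296 (fun q => (fun q => Nat.beq (f3 q) (fa 4 q)) q) = true := by decide +kernel

theorem eq3_30 : allR 248880 8296 (fun q => (fun q => Nat.beq (f3 q) (fa 4 q)) q) = true := by decide +kernel

theorem eq3_31 : allR 257176 8296 (fun q => (fun q => Nat.beq (f3 q) (fa 4 q)) q) = true := by decide +kernel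

theorem eq3_32 : allR 265472 8296 (fun q => (fun q => Nat.beq (f3 q) (fa 4 q)) q) = true := by decide +kernel

theorem eq3_33 : allR 273768 8296 (fun q => (fun q => Nat.beq (f3 q) (fa 4 q)) q) = true := by decide +kernel

theorem eq3_34 : allR 282064 8296 (fun q => (fun q => Nat.beq (f3 q) (fa 4 q)) q) = true := by decide +kernel

theorem eq3_35 : allR 290360 8296 (fun q => (fun q => Nat.beq (f3 q) (fa 4 q)) q) = true := by decide +kernel

theorem eq3_36 : allR 298656 8280 (fun q => (fun q => Nat.beq (f3 q) (fa 4 q)) q) = true := by decide +kernel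


end Cfsg.Agent.Fi24Out
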