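import Cfsg.Agent.Lib.Lead.Fi24Out.C3_0
import Cfsg.Agent.Lib.Lead.Fi24Out.C3_1
import Cfsg.Agent.Lib.Lead.Fi24Out.Base0

/-! # The outer automorphism group of Fi₂₄′: the check of the table number 3 (generated) -/

set_option autoImplicit false
set_option maxRecDepth 100000

namespace Cfsg.Agent.Fi24Out

open Cfsg.Agent.PF Cfsg.Agent.Lib.Helper6 Cfsg.Agent.Lib.Helper6.TC
open Cfsg.Agent.PL (Acts evalF)

theorem eq3_all : ∀ q < 306936, (fun q => Nat.beq (f3 q) (fa 4 q)) q = true :=
  forall_lt_of_chunks (f := fun q => (fun q => Nat.beq (f3 q) (fa 4 q)) q) [(0, 8296), (8296, 8296), (16592, 8296), (24888, 8296), (33184, 8296), (41480, 8296), (49776, 8296), (58072, 8296), (66368, 8296), (74664, 8296), (82960, 8296), (91256, 8296), (99552, 8296), (107848, 8296), (116144, 8296), (124440, 8296), (132736, 8296), (141032, 8296), (149328, 8296), (157624, 8296), (165920, 8296), (174216, 8296), (182512, 8296), (190808, 8296), (199104, 8296), (207400, 8296), (215696, 8296), (223992, 8296), (232288, 8296), (240584,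 8296), (248880, 8296), (257176, 8296), (265472, 8296), (273768, 8296), (282064, 8296), (290360, 8296), (298656, 8280)] (by decide)
    (all_cons eq3_0 (all_cons eq3_1 (all_cons eq3_2 (all_cons eq3_3 (all_cons eq3_4 (all_cons eq3_5 (all_cons eq3_6 (all_cons eq3_7 (all_cons eq3_8 (all_cons eq3_9 (all_cons eq3_10 (all_cons eq3_11 (all_cons eq3_12 (all_cons eq3_13 (all_cons eq3_14 (all_cons eq3_15 (all_cons eq3_16 (all_cons eq3_17 (all_cons eq3_18 (all_cons eq3_19 (all_cons eq3_20 (all_cons eq3_21 (all_cons eq3_22 (all_cons eq3_23 (all_cons eq3_24 (all_cons eq3_25 (all_cons eq3_26 (all_cons eq3_27 (all_cons eq3_28 (all_cons eq3_29 (all_cons eq3_30 (all_cons eq3_31 (all_cons eq3_32 (all_cons eq3_33 (all_cons eq3_34 (all_cons eq3_35 (all_cons eq3_36 all_nil)))))))))))))))))))))))))))))))))))))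

/-- the table agrees with the columns of the coset table -/
theorem eq3 : ∀ q < 306936, f3 q = fa 4 q :=
  fun q hq => Nat.eq_of_beq_eq_true (eq3_all q hq)

end Cfsg.Agent.Fi24Out
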