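import Cfsg.Agent.Lib.Lead.Fi24Out.D30

/-! # The outer automorphism group of Fi₂₄′: the check of the table number 30, slices (generated) -/

set_option autoImplicit false
set_option Elab.async false
set_option maxRecDepth 100000

namespace Cfsg.Agent.Fi24Out

open Cfsg.Agent.PF Cfsg.Agent.Lib.Helper6 Cfsg.Agent.Lib.Helper6.TC
open Cfsg.Agent.PL (Acts evalF)

theorem eq30_20 : allR 66020 3301 (fun q => (fun q => Nat.beq (f30 q) (wordR W30 q)) q) = true := by decide +kernel

theorem eq30_21 : allR 69321 3301 (fun q => (fun q => Nat.beq (f30 q) (wordR W30 q)) q) = true := by decide +kernel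

theorem eq30_22 : allR 72622 3301 (fun q => (fun q => Nat.beq (f30 q) (wordR W30 q)) q) = true := by decide +kernel

theorem eq30_23 : allR 75923 3301 (fun q => (fun q => Nat.beq (f30 q) (wordR W30 q)) q) = true := by decide +kernel

theorem eq30_24 : allR 79224 3301 (fun q => (fun q => Nat.beq (f30 q) (wordR W30 q)) q) = true := by decide +kernel

theorem eq30_25 : allR 82525 3301 (fun q => (fun q => Nat.beq (f30 q) (wordR W30 q)) q) = true := by decide +kernel

theorem eq30_26 : allR 85826 3301 (fun q => (fun q => Nat.beq (f30 q) (wordR W30 q)) q) = true := by decide +kernel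

theorem eq30_27 : allR 89127 3301 (fun q => (fun q => Nat.beq (f30 q) (wordR W30 q)) q) = true := by decide +kernel

theorem eq30_28 : allR 92428 3301 (fun q => (fun q => Nat.beq (f30 q) (wordR W30 q)) q) = true := by decide +kernel

theorem eq30_29 : allR 95729 3301 (fun q => (fun q => Nat.beq (f30 q) (wordR W30 q)) q) = true := by decide +kernel

theorem eq30_30 : allR 99030 3301 (fun q => (fun q => Nat.beq (f30 q) (wordR W30 q)) q) = true := by decide +kernel

theorem eq30_31 : allR 102331 3301 (fun q => (fun q => Nat.beq (f30 q) (wordR W30 q)) q) = true := by decide +kernel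

theorem eq30_32 : allR 105632 3301 (fun q => (fun q => Nat.beq (f30 q) (wordR W30 q)) q) = true := by decide +kernel

theorem eq30_33 : allR 108933 3301 (fun q => (fun q => Nat.beq (f30 q) (wordR W30 q)) q) = true := by decide +kernel

theorem eq30_34 : allR 112234 3301 (fun q => (fun q => Nat.beq (f30 q) (wordR W30 q)) q) = true := by decide +kernel

theorem eq30_35 : allR 115535 3301 (fun q => (fun q => Nat.beq (f30 q) (wordR W30 q)) q) = true := by decide +kernel

theorem eq30_36 : allR 118836 3301 (fun q => (fun q => Nat.beq (f30 q) (wordR W30 q)) q) = true := by decide +kernel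

theorem eq30_37 : allR 122137 3301 (fun q => (fun q => Nat.beq (f30 q) (wordR W30 q)) q) = true := by decide +kernel

theorem eq30_38 : allR 125438 3301 (fun q => (fun q => Nat.beq (f30 q) (wordR W30 q)) q) = true := by decide +kernel

theorem eq30_39 : allR 128739 3301 (fun q => (fun q => Nat.beq (f30 q) (wordR W30 q)) q) = true := by decide +kernel


end Cfsg.Agent.Fi24Out
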