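import Cfsg.Agent.Lib.Lead.Fi24Out.D31

/-! # The outer automorphism group of Fi₂₄′: the check of the table number 31, slices (generated) -/

set_option autoImplicit false
set_option Elab.async false
set_option maxRecDepth 100000

namespace Cfsg.Agent.Fi24Out

open Cfsg.Agent.PF Cfsg.Agent.Lib.Helper6 Cfsg.Agent.Lib.Helper6.TC
open Cfsg.Agent.PL (Acts evalF)

theorem eq31_40 : allR 198040 4951 (fun q => (fun q => Nat.beq (f31 q) (wordR W31 q)) q) = true := by decide +kernel

theorem eq31_41 : allR 202991 4951 (fun q => (fun q => Nat.beq (f31 q) (wordR W31 q)) q) = true := by decide +kernel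

theorem eq31_42 : allR 207942 4951 (fun q => (fun q => Nat.beq (f31 q) (wordR W31 q)) q) = true := by decide +kernel

theorem eq31_43 : allR 212893 4951 (fun q => (fun q => Nat.beq (f31 q) (wordR W31 q)) q) = true := by decide +kernel

theorem eq31_44 : allR 217844 4951 (fun q => (fun q => Nat.beq (f31 q) (wordR W31 q)) q) = true := by decide +kernel

theorem eq31_45 : allR 222795 4951 (fun q => (fun q => Nat.beq (f31 q) (wordR W31 q)) q) = true := by decide +kernel

theorem eq31_46 : allR 227746 4951 (fun q => (fun q => Nat.beq (f31 q) (wordR W31 q)) q) = true := by decide +kernel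

theorem eq31_47 : allR 232697 4951 (fun q => (fun q => Nat.beq (f31 q) (wordR W31 q)) q) = true := by decide +kernel

theorem eq31_48 : allR 237648 4951 (fun q => (fun q => Nat.beq (f31 q) (wordR W31 q)) q) = true := by decide +kernel

theorem eq31_49 : allR 242599 4951 (fun q => (fun q => Nat.beq (f31 q) (wordR W31 q)) q) = true := by decide +kernel

theorem eq31_50 : allR 247550 4951 (fun q => (fun q => Nat.beq (f31 q) (wordR W31 q)) q) = true := by decide +kernel

theorem eq31_51 : allR 252501 4951 (fun q => (fun q => Nat.beq (f31 q) (wordR W31 q)) q) = true := by decide +kernel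

theorem eq31_52 : allR 257452 4951 (fun q => (fun q => Nat.beq (f31 q) (wordR W31 q)) q) = true := by decide +kernel

theorem eq31_53 : allR 262403 4951 (fun q => (fun q => Nat.beq (f31 q) (wordR W31 q)) q) = true := by decide +kernel

theorem eq31_54 : allR 267354 4951 (fun q => (fun q => Nat.beq (f31 q) (wordR W31 q)) q) = true := by decide +kernel

theorem eq31_55 : allR 272305 4951 (fun q => (fun q => Nat.beq (f31 q) (wordR W31 q)) q) = true := by decide +kernel

theorem eq31_56 : allR 277256 4951 (fun q => (fun q => Nat.beq (f31 q) (wordR W31 q)) q) = true := by decide +kernel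

theorem eq31_57 : allR 282207 4951 (fun q => (fun q => Nat.beq (f31 q) (wordR W31 q)) q) = true := by decide +kernel

theorem eq31_58 : allR 287158 4951 (fun q => (fun q => Nat.beq (f31 q) (wordR W31 q)) q) = true := by decide +kernel

theorem eq31_59 : allR 292109 4951 (fun q => (fun q => Nat.beq (f31 q) (wordR W31 q)) q) = true := by decide +kernel


end Cfsg.Agent.Fi24Out
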