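import Cfsg.Agent.Lib.Lead.Fi24Out.C31_0
import Cfsg.Agent.Lib.Lead.Fi24Out.C31_1
import Cfsg.Agent.Lib.Lead.Fi24Out.C31_2
import Cfsg.Agent.Lib.Lead.Fi24Out.C31_3
import Cfsg.Agent.Lib.Lead.Fi24Out.Base0

/-! # The outer automorphism group of Fi₂₄′: the check of the table number 31 (generated) -/

set_option autoImplicit false
set_option maxRecDepth 100000

namespace Cfsg.Agent.Fi24Out

open Cfsg.Agent.PF Cfsg.Agent.Lib.Helper6 Cfsg.Agent.Lib.Helper6.TC
open Cfsg.Agent.PL (Acts evalF)

theorem eq31_all : ∀ q < 306936, (fun q => Nat.beq (f31 q) (wordR W31 q)) q = true :=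
  forall_lt_of_chunks (f := fun q => (fun q => Nat.beq (f31 q) (wordR W31 q)) q) [(0, 4951), (4951, 4951), (9902, 4951), (14853, 4951), (19804, 4951), (24755, 4951), (29706, 4951), (34657, 4951), (39608, 4951), (44559, 4951), (49510, 4951), (54461, 4951), (59412, 4951), (64363, 4951), (69314, 4951), (74265, 4951), (79216, 4951), (84167, 4951), (89118, 4951), (94069, 4951), (99020, 4951), (103971, 4951), (108922, 4951), (113873, 4951), (118824, 4951), (123775, 4951), (128726, 4951), (133677, 4951), (138628, 4951), (143579, 4951), (148530, 4951), (153481, 4951), (158432, 4951), (163383, 4951), (168334, 4951), (173285, 4951), (178236, 4951), (183187, 4951), (188138, 4951), (193089, 4951), (198040, 4951), (202991, 4951), (207942, 4951), (212893, 4951), (217844, 4951), (222795, 4951), (227746, 4951), (232697, 4951), (237648, 4951), (242599, 4951), (247550, 4951), (252501, 4951), (257452, 4951), (262403, 4951), (267354, 4951), (272305, 4951), (277256, 4951), (282207, 4951), (287158, 4951), (292109, 4951), (297060, 4951), (302011,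 4925)] (by decide)
    (all_cons eq31_0 (all_cons eq31_1 (all_cons eq31_2 (all_cons eq31_3 (all_cons eq31_4 (all_cons eq31_5 (all_cons eq31_6 (all_cons eq31_7 (all_cons eq31_8 (all_cons eq31_9 (all_cons eq31_10 (all_cons eq31_11 (all_cons eq31_12 (all_cons eq31_13 (all_cons eq31_14 (all_cons eq31_15 (all_cons eq31_16 (all_cons eq31_17 (all_cons eq31_18 (all_cons eq31_19 (all_cons eq31_20 (all_cons eq31_21 (all_cons eq31_22 (all_cons eq31_23 (all_cons eq31_24 (all_cons eq31_25 (all_cons eq31_26 (all_cons eq31_27 (all_cons eq31_28 (all_cons eq31_29 (all_cons eq31_30 (all_cons eq31_31 (all_cons eq31_32 (all_cons eq31_33 (all_cons eq31_34 (all_cons eq31_35 (all_cons eq31_36 (all_cons eq31_37 (all_cons eq31_38 (all_cons eq31_39 (all_cons eq31_40 (all_cons eq31_41 (all_cons eq31_42 (all_cons eq31_43 (all_cons eq31_44 (all_cons eq31_45 (all_cons eq31_46 (all_cons eq31_47 (all_cons eq31_48 (all_cons eq31_49 (all_cons eq31_50 (all_cons eq31_51 (all_cons eq31_52 (all_cons eq31_53 (all_cons eq31_54 (all_cons eq31_55 (all_cons eq31_56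 (all_cons eq31_57 (all_cons eq31_58 (all_cons eq31_59 (all_cons eq31_60 (all_cons eq31_61 all_nil))))))))))))))))))))))))))))))))))))))))))))))))))))))))))))))

/-- the table agrees with the word -/
theorem eq31 : ∀ q < 306936, f31 q = wordR W31 q :=
  fun q hq => Nat.eq_of_beq_eq_true (eq31_all q hq)

end Cfsg.Agent.Fi24Out
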