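import Cfsg.Agent.Lib.Lead.Fi24Out.D32

/-! # The outer automorphism group of Fi₂₄′: the check of the table number 32, slices (generated) -/

set_option autoImplicit false
set_option Elab.async false
set_option maxRecDepth 100000

namespace Cfsg.Agent.Fi24Out

open Cfsg.Agent.PF Cfsg.Agent.Lib.Helper6 Cfsg.Agent.Lib.Helper6.TC
open Cfsg.Agent.PL (Acts evalF)

theorem eq32_20 : allR 56840 2842 (fun q => (fun q => Nat.beq (f32 q) (wordR W32 q)) q) = true := by decide +kernel

theorem eq32_21 : allR 59682 2842 (fun q => (fun q => Nat.beq (f32 q) (wordR W32 q)) q) = true := by decide +kernel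

theorem eq32_22 : allR 62524 2842 (fun q => (fun q => Nat.beq (f32 q) (wordR W32 q)) q) = true := by decide +kernel

theorem eq32_23 : allR 65366 2842 (fun q => (fun q => Nat.beq (f32 q) (wordR W32 q)) q) = true := by decide +kernel

theorem eq32_24 : allR 68208 2842 (fun q => (fun q => Nat.beq (f32 q) (wordR W32 q)) q) = true := by decide +kernel

theorem eq32_25 : allR 71050 2842 (fun q => (fun q => Nat.beq (f32 q) (wordR W32 q)) q) = true := by decide +kernel

theorem eq32_26 : allR 73892 2842 (fun q => (fun q => Nat.beq (f32 q) (wordR W32 q)) q) = true := by decide +kernel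

theorem eq32_27 : allR 76734 2842 (fun q => (fun q => Nat.beq (f32 q) (wordR W32 q)) q) = true := by decide +kernel

theorem eq32_28 : allR 79576 2842 (fun q => (fun q => Nat.beq (f32 q) (wordR W32 q)) q) = true := by decide +kernel

theorem eq32_29 : allR 82418 2842 (fun q => (fun q => Nat.beq (f32 q) (wordR W32 q)) q) = true := by decide +kernel

theorem eq32_30 : allR 85260 2842 (fun q => (fun q => Nat.beq (f32 q) (wordR W32 q)) q) = true := by decide +kernel

theorem eq32_31 : allR 88102 2842 (fun q => (fun q => Nat.beq (f32 q) (wordR W32 q)) q) = true := by decide +kernel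

theorem eq32_32 : allR 90944 2842 (fun q => (fun q => Nat.beq (f32 q) (wordR W32 q)) q) = true := by decide +kernel

theorem eq32_33 : allR 93786 2842 (fun q => (fun q => Nat.beq (f32 q) (wordR W32 q)) q) = true := by decide +kernel

theorem eq32_34 : allR 96628 2842 (fun q => (fun q => Nat.beq (f32 q) (wordR W32 q)) q) = true := by decide +kernel

theorem eq32_35 : allR 99470 2842 (fun q => (fun q => Nat.beq (f32 q) (wordR W32 q)) q) = true := by decide +kernel

theorem eq32_36 : allR 102312 2842 (fun q => (fun q => Nat.beq (f32 q) (wordR W32 q)) q) = true := by decide +kernel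

theorem eq32_37 : allR 105154 2842 (fun q => (fun q => Nat.beq (f32 q) (wordR W32 q)) q) = true := by decide +kernel

theorem eq32_38 : allR 107996 2842 (fun q => (fun q => Nat.beq (f32 q) (wordR W32 q)) q) = true := by decide +kernel

theorem eq32_39 : allR 110838 2842 (fun q => (fun q => Nat.beq (f32 q) (wordR W32 q)) q) = true := by decide +kernel


end Cfsg.Agent.Fi24Out
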