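import Cfsg.Agent.Lib.Lead.Fi24Out.D32

/-! # The outer automorphism group of Fi₂₄′: the check of the table number 32, slices (generated) -/

set_option autoImplicit false
set_option Elab.async false
set_option maxRecDepth 100000

namespace Cfsg.Agent.Fi24Out

open Cfsg.Agent.PF Cfsg.Agent.Lib.Helper6 Cfsg.Agent.Lib.Helper6.TC
open Cfsg.Agent.PL (Acts evalF)

theorem eq32_40 : allR 113680 2842 (fun q => (fun q => Nat.beq (f32 q) (wordR W32 q)) q) = true := by decide +kernel

theorem eq32_41 : allR 116522 2842 (fun q => (fun q => Nat.beq (f32 q) (wordR W32 q)) q) = true := by decide +kernel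

theorem eq32_42 : allR 119364 2842 (fun q => (fun q => Nat.beq (f32 q) (wordR W32 q)) q) = true := by decide +kernel

theorem eq32_43 : allR 122206 2842 (fun q => (fun q => Nat.beq (f32 q) (wordR W32 q)) q) = true := by decide +kernel

theorem eq32_44 : allR 125048 2842 (fun q => (fun q => Nat.beq (f32 q) (wordR W32 q)) q) = true := by decide +kernel

theorem eq32_45 : allR 127890 2842 (fun q => (fun q => Nat.beq (f32 q) (wordR W32 q)) q) = true := by decide +kernel

theorem eq32_46 : allR 130732 2842 (fun q => (fun q => Nat.beq (f32 q) (wordR W32 q)) q) = true := by decide +kernel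

theorem eq32_47 : allR 133574 2842 (fun q => (fun q => Nat.beq (f32 q) (wordR W32 q)) q) = true := by decide +kernel

theorem eq32_48 : allR 136416 2842 (fun q => (fun q => Nat.beq (f32 q) (wordR W32 q)) q) = true := by decide +kernel

theorem eq32_49 : allR 139258 2842 (fun q => (fun q => Nat.beq (f32 q) (wordR W32 q)) q) = true := by decide +kernel

theorem eq32_50 : allR 142100 2842 (fun q => (fun q => Nat.beq (f32 q) (wordR W32 q)) q) = true := by decide +kernel

theorem eq32_51 : allR 144942 2842 (fun q => (fun q => Nat.beq (f32 q) (wordR W32 q)) q) = true := by decide +kernel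

theorem eq32_52 : allR 147784 2842 (fun q => (fun q => Nat.beq (f32 q) (wordR W32 q)) q) = true := by decide +kernel

theorem eq32_53 : allR 150626 2842 (fun q => (fun q => Nat.beq (f32 q) (wordR W32 q)) q) = true := by decide +kernel

theorem eq32_54 : allR 153468 2842 (fun q => (fun q => Nat.beq (f32 q) (wordR W32 q)) q) = true := by decide +kernel

theorem eq32_55 : allR 156310 2842 (fun q => (fun q => Nat.beq (f32 q) (wordR W32 q)) q) = true := by decide +kernel

theorem eq32_56 : allR 159152 2842 (fun q => (fun q => Nat.beq (f32 q) (wordR W32 q)) q) = true := by decide +kernel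

theorem eq32_57 : allR 161994 2842 (fun q => (fun q => Nat.beq (f32 q) (wordR W32 q)) q) = true := by decide +kernel

theorem eq32_58 : allR 164836 2842 (fun q => (fun q => Nat.beq (f32 q) (wordR W32 q)) q) = true := by decide +kernel

theorem eq32_59 : allR 167678 2842 (fun q => (fun q => Nat.beq (f32 q) (wordR W32 q)) q) = true := by decide +kernel


end Cfsg.Agent.Fi24Out
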