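import Cfsg.Agent.Lib.Lead.Fi24Out.C32_0
import Cfsg.Agent.Lib.Lead.Fi24Out.C32_1
import Cfsg.Agent.Lib.Lead.Fi24Out.C32_2
import Cfsg.Agent.Lib.Lead.Fi24Out.C32_3
import Cfsg.Agent.Lib.Lead.Fi24Out.C32_4
import Cfsg.Agent.Lib.Lead.Fi24Out.C32_5
import Cfsg.Agent.Lib.Lead.Fi24Out.Base0

/-! # The outer automorphism group of Fi₂₄′: the check of the table number 32 (generated) -/

set_option autoImplicit false
set_option maxRecDepth 100000

namespace Cfsg.Agent.Fi24Out

open Cfsg.Agent.PF Cfsg.Agent.Lib.Helper6 Cfsg.Agent.Lib.Helper6.TC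
open Cfsg.Agent.PL (Acts evalF)

theorem eq32_all : ∀ q < 306936, (fun q => Nat.beq (f32 q) (wordR W32 q)) q = true :=
  forall_lt_of_chunks (f := fun q => (fun q => Nat.beq (f32 q) (wordR W32 q)) q) [(0, 2842), (2842, 2842), (5684, 2842), (8526, 2842), (11368, 2842), (14210, 2842), (17052, 2842), (19894, 2842), (22736, 2842), (25578, 2842), (28420, 2842), (31262, 2842), (34104, 2842), (36946, 2842), (39788, 2842), (42630, 2842), (45472, 2842), (48314, 2842), (51156, 2842), (53998, 2842), (56840, 2842), (59682, 2842), (62524, 2842), (65366, 2842), (68208, 2842), (71050, 2842), (73892, 2842), (76734, 2842), (79576, 2842), (82418, 2842), (85260, 2842), (88102, 2842), (90944, 2842), (93786, 2842), (96628, 2842), (99470, 2842), (102312, 2842), (105154, 2842), (107996, 2842), (110838, 2842), (113680, 2842), (116522, 2842), (119364, 2842), (122206, 2842), (125048, 2842), (127890, 2842), (130732, 2842), (133574, 2842), (136416, 2842), (139258, 2842), (142100, 2842), (144942, 2842), (147784, 2842), (150626, 2842), (153468, 2842), (156310,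 2842), (159152, 2842), (161994, 2842), (164836, 2842), (167678, 2842), (170520, 2842), (173362, 2842), (176204, 2842), (179046, 2842), (181888, 2842), (184730, 2842), (187572, 2842), (190414, 2842), (193256, 2842), (196098, 2842), (198940, 2842), (201782, 2842), (204624, 2842), (207466, 2842), (210308, 2842), (213150, 2842), (215992, 2842), (218834, 2842), (221676, 2842), (224518, 2842), (227360, 2842), (230202, 2842), (233044, 2842), (235886, 2842), (238728, 2842), (241570, 2842), (244412, 2842), (247254, 2842), (250096, 2842), (252938, 2842), (255780, 2842), (258622, 2842), (261464, 2842), (264306, 2842), (267148, 2842), (269990, 2842), (272832, 2842), (275674, 2842), (278516, 2842), (281358, 2842), (284200, 2842), (287042, 2842), (289884, 2842), (292726, 2842), (295568, 2842), (298410, 2842), (301252, 2842), (304094, 2842)] (by decide)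
    (all_cons eq32_0 (all_cons eq32_1 (all_cons eq32_2 (all_cons eq32_3 (all_cons eq32_4 (all_cons eq32_5 (all_cons eq32_6 (all_cons eq32_7 (all_cons eq32_8 (all_cons eq32_9 (all_cons eq32_10 (all_cons eq32_11 (all_cons eq32_12 (all_cons eq32_13 (all_cons eq32_14 (all_cons eq32_15 (all_cons eq32_16 (all_cons eq32_17 (all_cons eq32_18 (all_cons eq32_19 (all_cons eq32_20 (all_cons eq32_21 (all_cons eq32_22 (all_cons eq32_23 (all_cons eq32_24 (all_cons eq32_25 (all_cons eq32_26 (all_cons eq32_27 (all_cons eq32_28 (all_cons eq32_29 (all_cons eq32_30 (all_cons eq32_31 (all_cons eq32_32 (all_cons eq32_33 (all_cons eq32_34 (all_cons eq32_35 (all_cons eq32_36 (all_cons eq32_37 (all_cons eq32_38 (all_cons eq32_39 (all_cons eq32_40 (all_cons eq32_41 (all_cons eq32_42 (all_cons eq32_43 (all_cons eq32_44 (all_cons eq32_45 (all_cons eq32_46 (all_cons eq32_47 (all_cons eq32_48 (all_cons eq32_49 (all_cons eq32_50 (all_cons eq32_51 (all_cons eq32_52 (all_cons eq32_53 (all_cons eq32_54 (all_cons eq32_55 (all_cons eq32_56 (all_cons eq32_57 (all_cons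 eq32_58 (all_cons eq32_59 (all_cons eq32_60 (all_cons eq32_61 (all_cons eq32_62 (all_cons eq32_63 (all_cons eq32_64 (all_cons eq32_65 (all_cons eq32_66 (all_cons eq32_67 (all_cons eq32_68 (all_cons eq32_69 (all_cons eq32_70 (all_cons eq32_71 (all_cons eq32_72 (all_cons eq32_73 (all_cons eq32_74 (all_cons eq32_75 (all_cons eq32_76 (all_cons eq32_77 (all_cons eq32_78 (all_cons eq32_79 (all_cons eq32_80 (all_cons eq32_81 (all_cons eq32_82 (all_cons eq32_83 (all_cons eq32_84 (all_cons eq32_85 (all_cons eq32_86 (all_cons eq32_87 (all_cons eq32_88 (all_cons eq32_89 (all_cons eq32_90 (all_cons eq32_91 (all_cons eq32_92 (all_cons eq32_93 (all_cons eq32_94 (all_cons eq32_95 (all_cons eq32_96 (all_cons eq32_97 (all_cons eq32_98 (all_cons eq32_99 (all_cons eq32_100 (all_cons eq32_101 (all_cons eq32_102 (all_cons eq32_103 (all_cons eq32_104 (all_cons eq32_105 (all_cons eq32_106 (all_cons eq32_107 all_nil))))))))))))))))))))))))))))))))))))))))))))))))))))))))))))))))))))))))))))))))))))))))))))))))))))))))))))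

/-- the table agrees with the word -/
theorem eq32 : ∀ q < 306936, f32 q = wordR W32 q :=
  fun q hq => Nat.eq_of_beq_eq_true (eq32_all q hq)

end Cfsg.Agent.Fi24Out
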