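import Cfsg.Agent.Lib.Lead.Fi24Out.D32

/-! # The outer automorphism group of Fi₂₄′: the check of the table number 32, slices (generated) -/

set_option autoImplicit false
set_option Elab.async false
set_option maxRecDepth 100000

namespace Cfsg.Agent.Fi24Out

open Cfsg.Agent.PF Cfsg.Agent.Lib.Helper6 Cfsg.Agent.Lib.Helper6.TC
open Cfsg.Agent.PL (Acts evalF)

theorem eq32_0 : allR 0 2842 (fun q => (fun q => Nat.beq (f32 q) (wordR W32 q)) q) = true := by decide +kernel

theorem eq32_1 : allR 2842 2842 (fun q => (fun q => Nat.beq (f32 q) (wordR W32 q)) q) = true := by decide +kernel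

theorem eq32_2 : allR 5684 2842 (fun q => (fun q => Nat.beq (f32 q) (wordR W32 q)) q) = true := by decide +kernel

theorem eq32_3 : allR 8526 2842 (fun q => (fun q => Nat.beq (f32 q) (wordR W32 q)) q) = true := by decide +kernel

theorem eq32_4 : allR 11368 2842 (fun q => (fun q => Nat.beq (f32 q) (wordR W32 q)) q) = true := by decide +kernel

theorem eq32_5 : allR 14210 2842 (fun q => (fun q => Nat.beq (f32 q) (wordR W32 q)) q) = true := by decide +kernel

theorem eq32_6 : allR 17052 2842 (fun q => (fun q => Nat.beq (f32 q) (wordR W32 q)) q) = true := by decide +kernel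

theorem eq32_7 : allR 19894 2842 (fun q => (fun q => Nat.beq (f32 q) (wordR W32 q)) q) = true := by decide +kernel

theorem eq32_8 : allR 22736 2842 (fun q => (fun q => Nat.beq (f32 q) (wordR W32 q)) q) = true := by decide +kernel

theorem eq32_9 : allR 25578 2842 (fun q => (fun q => Nat.beq (f32 q) (wordR W32 q)) q) = true := by decide +kernel

theorem eq32_10 : allR 28420 2842 (fun q => (fun q => Nat.beq (f32 q) (wordR W32 q)) q) = true := by decide +kernel

theorem eq32_11 : allR 31262 2842 (fun q => (fun q => Nat.beq (f32 q) (wordR W32 q)) q) = true := by decide +kernel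

theorem eq32_12 : allR 34104 2842 (fun q => (fun q => Nat.beq (f32 q) (wordR W32 q)) q) = true := by decide +kernel

theorem eq32_13 : allR 36946 2842 (fun q => (fun q => Nat.beq (f32 q) (wordR W32 q)) q) = true := by decide +kernel

theorem eq32_14 : allR 39788 2842 (fun q => (fun q => Nat.beq (f32 q) (wordR W32 q)) q) = true := by decide +kernel

theorem eq32_15 : allR 42630 2842 (fun q => (fun q => Nat.beq (f32 q) (wordR W32 q)) q) = true := by decide +kernel

theorem eq32_16 : allR 45472 2842 (fun q => (fun q => Nat.beq (f32 q) (wordR W32 q)) q) = true := by decide +kernel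

theorem eq32_17 : allR 48314 2842 (fun q => (fun q => Nat.beq (f32 q) (wordR W32 q)) q) = true := by decide +kernel

theorem eq32_18 : allR 51156 2842 (fun q => (fun q => Nat.beq (f32 q) (wordR W32 q)) q) = true := by decide +kernel

theorem eq32_19 : allR 53998 2842 (fun q => (fun q => Nat.beq (f32 q) (wordR W32 q)) q) = true := by decide +kernel


end Cfsg.Agent.Fi24Out
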