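import Cfsg.Agent.Lib.Lead.Fi24Out.D33

/-! # The outer automorphism group of Fi₂₄′: the check of the table number 33, slices (generated) -/

set_option autoImplicit false
set_option Elab.async false
set_option maxRecDepth 100000

namespace Cfsg.Agent.Fi24Out

open Cfsg.Agent.PF Cfsg.Agent.Lib.Helper6 Cfsg.Agent.Lib.Helper6.TC
open Cfsg.Agent.PL (Acts evalF)

theorem eq33_20 : allR 73980 3699 (fun q => (fun q => Nat.beq (f33 q) (wordR W33 q)) q) = true := by decide +kernel

theorem eq33_21 : allR 77679 3699 (fun q => (fun q => Nat.beq (f33 q) (wordR W33 q)) q) = true := by decide +kernel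

theorem eq33_22 : allR 81378 3699 (fun q => (fun q => Nat.beq (f33 q) (wordR W33 q)) q) = true := by decide +kernel

theorem eq33_23 : allR 85077 3699 (fun q => (fun q => Nat.beq (f33 q) (wordR W33 q)) q) = true := by decide +kernel

theorem eq33_24 : allR 88776 3699 (fun q => (fun q => Nat.beq (f33 q) (wordR W33 q)) q) = true := by decide +kernel

theorem eq33_25 : allR 92475 3699 (fun q => (fun q => Nat.beq (f33 q) (wordR W33 q)) q) = true := by decide +kernel

theorem eq33_26 : allR 96174 3699 (fun q => (fun q => Nat.beq (f33 q) (wordR W33 q)) q) = true := by decide +kernel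

theorem eq33_27 : allR 99873 3699 (fun q => (fun q => Nat.beq (f33 q) (wordR W33 q)) q) = true := by decide +kernel

theorem eq33_28 : allR 103572 3699 (fun q => (fun q => Nat.beq (f33 q) (wordR W33 q)) q) = true := by decide +kernel

theorem eq33_29 : allR 107271 3699 (fun q => (fun q => Nat.beq (f33 q) (wordR W33 q)) q) = true := by decide +kernel

theorem eq33_30 : allR 110970 3699 (fun q => (fun q => Nat.beq (f33 q) (wordR W33 q)) q) = true := by decide +kernel

theorem eq33_31 : allR 114669 3699 (fun q => (fun q => Nat.beq (f33 q) (wordR W33 q)) q) = true := by decide +kernel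

theorem eq33_32 : allR 118368 3699 (fun q => (fun q => Nat.beq (f33 q) (wordR W33 q)) q) = true := by decide +kernel

theorem eq33_33 : allR 122067 3699 (fun q => (fun q => Nat.beq (f33 q) (wordR W33 q)) q) = true := by decide +kernel

theorem eq33_34 : allR 125766 3699 (fun q => (fun q => Nat.beq (f33 q) (wordR W33 q)) q) = true := by decide +kernel

theorem eq33_35 : allR 129465 3699 (fun q => (fun q => Nat.beq (f33 q) (wordR W33 q)) q) = true := by decide +kernel

theorem eq33_36 : allR 133164 3699 (fun q => (fun q => Nat.beq (f33 q) (wordR W33 q)) q) = true := by decide +kernel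

theorem eq33_37 : allR 136863 3699 (fun q => (fun q => Nat.beq (f33 q) (wordR W33 q)) q) = true := by decide +kernel

theorem eq33_38 : allR 140562 3699 (fun q => (fun q => Nat.beq (f33 q) (wordR W33 q)) q) = true := by decide +kernel

theorem eq33_39 : allR 144261 3699 (fun q => (fun q => Nat.beq (f33 q) (wordR W33 q)) q) = true := by decide +kernel


end Cfsg.Agent.Fi24Out
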