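import Cfsg.Agent.Lib.Lead.Fi24Out.D33

/-! # The outer automorphism group of Fi₂₄′: the check of the table number 33, slices (generated) -/

set_option autoImplicit false
set_option Elab.async false
set_option maxRecDepth 100000

namespace Cfsg.Agent.Fi24Out

open Cfsg.Agent.PF Cfsg.Agent.Lib.Helper6 Cfsg.Agent.Lib.Helper6.TC
open Cfsg.Agent.PL (Acts evalF)

theorem eq33_40 : allR 147960 3699 (fun q => (fun q => Nat.beq (f33 q) (wordR W33 q)) q) = true := by decide +kernel

theorem eq33_41 : allR 151659 3699 (fun q => (fun q => Nat.beq (f33 q) (wordR W33 q)) q) = true := by decide +kernel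

theorem eq33_42 : allR 155358 3699 (fun q => (fun q => Nat.beq (f33 q) (wordR W33 q)) q) = true := by decide +kernel

theorem eq33_43 : allR 159057 3699 (fun q => (fun q => Nat.beq (f33 q) (wordR W33 q)) q) = true := by decide +kernel

theorem eq33_44 : allR 162756 3699 (fun q => (fun q => Nat.beq (f33 q) (wordR W33 q)) q) = true := by decide +kernel

theorem eq33_45 : allR 166455 3699 (fun q => (fun q => Nat.beq (f33 q) (wordR W33 q)) q) = true := by decide +kernel

theorem eq33_46 : allR 170154 3699 (fun q => (fun q => Nat.beq (f33 q) (wordR W33 q)) q) = true := by decide +kernel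

theorem eq33_47 : allR 173853 3699 (fun q => (fun q => Nat.beq (f33 q) (wordR W33 q)) q) = true := by decide +kernel

theorem eq33_48 : allR 177552 3699 (fun q => (fun q => Nat.beq (f33 q) (wordR W33 q)) q) = true := by decide +kernel

theorem eq33_49 : allR 181251 3699 (fun q => (fun q => Nat.beq (f33 q) (wordR W33 q)) q) = true := by decide +kernel

theorem eq33_50 : allR 184950 3699 (fun q => (fun q => Nat.beq (f33 q) (wordR W33 q)) q) = true := by decide +kernel

theorem eq33_51 : allR 188649 3699 (fun q => (fun q => Nat.beq (f33 q) (wordR W33 q)) q) = true := by decide +kernel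

theorem eq33_52 : allR 192348 3699 (fun q => (fun q => Nat.beq (f33 q) (wordR W33 q)) q) = true := by decide +kernel

theorem eq33_53 : allR 196047 3699 (fun q => (fun q => Nat.beq (f33 q) (wordR W33 q)) q) = true := by decide +kernel

theorem eq33_54 : allR 199746 3699 (fun q => (fun q => Nat.beq (f33 q) (wordR W33 q)) q) = true := by decide +kernel

theorem eq33_55 : allR 203445 3699 (fun q => (fun q => Nat.beq (f33 q) (wordR W33 q)) q) = true := by decide +kernel

theorem eq33_56 : allR 207144 3699 (fun q => (fun q => Nat.beq (f33 q) (wordR W33 q)) q) = true := by decide +kernel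

theorem eq33_57 : allR 210843 3699 (fun q => (fun q => Nat.beq (f33 q) (wordR W33 q)) q) = true := by decide +kernel

theorem eq33_58 : allR 214542 3699 (fun q => (fun q => Nat.beq (f33 q) (wordR W33 q)) q) = true := by decide +kernel

theorem eq33_59 : allR 218241 3699 (fun q => (fun q => Nat.beq (f33 q) (wordR W33 q)) q) = true := by decide +kernel


end Cfsg.Agent.Fi24Out
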