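import Cfsg.Agent.Lib.Lead.Fi24Out.D33

/-! # The outer automorphism group of Fi₂₄′: the check of the table number 33, slices (generated) -/

set_option autoImplicit false
set_option Elab.async false
set_option maxRecDepth 100000

namespace Cfsg.Agent.Fi24Out

open Cfsg.Agent.PF Cfsg.Agent.Lib.Helper6 Cfsg.Agent.Lib.Helper6.TC
open Cfsg.Agent.PL (Acts evalF)

theorem eq33_80 : allR 295920 3699 (fun q => (fun q => Nat.beq (f33 q) (wordR W33 q)) q) = true := by decide +kernel

theorem eq33_81 : allR 299619 3699 (fun q => (fun q => Nat.beq (f33 q) (wordR W33 q)) q) = true := by decide +kernel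

theorem eq33_82 : allR 303318 3618 (fun q => (fun q => Nat.beq (f33 q) (wordR W33 q)) q) = true := by decide +kernel


end Cfsg.Agent.Fi24Out
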