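import Cfsg.Agent.Lib.Lead.Fi24Out.C33_0
import Cfsg.Agent.Lib.Lead.Fi24Out.C33_1
import Cfsg.Agent.Lib.Lead.Fi24Out.C33_2
import Cfsg.Agent.Lib.Lead.Fi24Out.C33_3
import Cfsg.Agent.Lib.Lead.Fi24Out.C33_4
import Cfsg.Agent.Lib.Lead.Fi24Out.Base0

/-! # The outer automorphism group of Fi₂₄′: the check of the table number 33 (generated) -/

set_option autoImplicit false
set_option maxRecDepth 100000

namespace Cfsg.Agent.Fi24Out

open Cfsg.Agent.PF Cfsg.Agent.Lib.Helper6 Cfsg.Agent.Lib.Helper6.TC
open Cfsg.Agent.PL (Acts evalF)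

theorem eq33_all : ∀ q < 306936, (fun q => Nat.beq (f33 q) (wordR W33 q)) q = true :=
  forall_lt_of_chunks (f := fun q => (fun q => Nat.beq (f33 q) (wordR W33 q)) q) [(0, 3699), (3699, 3699), (7398, 3699), (11097, 3699), (14796, 3699), (18495, 3699), (22194, 3699), (25893, 3699), (29592, 3699), (33291, 3699), (36990, 3699), (40689, 3699), (44388, 3699), (48087, 3699), (51786, 3699), (55485, 3699), (59184, 3699), (62883, 3699), (66582, 3699), (70281, 3699), (73980, 3699), (77679, 3699), (81378, 3699), (85077, 3699), (88776, 3699), (92475, 3699), (96174, 3699), (99873, 3699), (103572, 3699), (107271, 3699), (110970, 3699), (114669, 3699), (118368, 3699), (122067, 3699), (125766, 3699), (129465, 3699), (133164, 3699), (136863, 3699), (140562, 3699), (144261, 3699), (147960, 3699), (151659, 3699), (155358, 3699), (159057, 3699), (162756, 3699), (166455, 3699), (170154, 3699), (173853, 3699), (177552, 3699), (181251, 3699), (184950, 3699), (188649, 3699), (192348, 3699), (196047, 3699), (199746, 3699), (203445, 3699), (207144,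 3699), (210843, 3699), (214542, 3699), (218241, 3699), (221940, 3699), (225639, 3699), (229338, 3699), (233037, 3699), (236736, 3699), (240435, 3699), (244134, 3699), (247833, 3699), (251532, 3699), (255231, 3699), (258930, 3699), (262629, 3699), (266328, 3699), (270027, 3699), (273726, 3699), (277425, 3699), (281124, 3699), (284823, 3699), (288522, 3699), (292221, 3699), (295920, 3699), (299619, 3699), (303318, 3618)] (by decide)
    (all_cons eq33_0 (all_cons eq33_1 (all_cons eq33_2 (all_cons eq33_3 (all_cons eq33_4 (all_cons eq33_5 (all_cons eq33_6 (all_cons eq33_7 (all_cons eq33_8 (all_cons eq33_9 (all_cons eq33_10 (all_cons eq33_11 (all_cons eq33_12 (all_cons eq33_13 (all_cons eq33_14 (all_cons eq33_15 (all_cons eq33_16 (all_cons eq33_17 (all_cons eq33_18 (all_cons eq33_19 (all_cons eq33_20 (all_cons eq33_21 (all_cons eq33_22 (all_cons eq33_23 (all_cons eq33_24 (all_cons eq33_25 (all_cons eq33_26 (all_cons eq33_27 (all_cons eq33_28 (all_cons eq33_29 (all_cons eq33_30 (all_cons eq33_31 (all_cons eq33_32 (all_cons eq33_33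 (all_cons eq33_34 (all_cons eq33_35 (all_cons eq33_36 (all_cons eq33_37 (all_cons eq33_38 (all_cons eq33_39 (all_cons eq33_40 (all_cons eq33_41 (all_cons eq33_42 (all_cons eq33_43 (all_cons eq33_44 (all_cons eq33_45 (all_cons eq33_46 (all_cons eq33_47 (all_cons eq33_48 (all_cons eq33_49 (all_cons eq33_50 (all_cons eq33_51 (all_cons eq33_52 (all_cons eq33_53 (all_cons eq33_54 (all_cons eq33_55 (all_cons eq33_56 (all_cons eq33_57 (all_cons eq33_58 (all_cons eq33_59 (all_cons eq33_60 (all_cons eq33_61 (all_cons eq33_62 (all_cons eq33_63 (all_cons eq33_64 (all_cons eq33_65 (all_cons eq33_66 (all_cons eq33_67 (all_cons eq33_68 (all_cons eq33_69 (all_cons eq33_70 (all_cons eq33_71 (all_cons eq33_72 (all_cons eq33_73 (all_cons eq33_74 (all_cons eq33_75 (all_cons eq33_76 (all_cons eq33_77 (all_cons eq33_78 (all_cons eq33_79 (all_cons eq33_80 (all_cons eq33_81 (all_cons eq33_82 all_nil)))))))))))))))))))))))))))))))))))))))))))))))))))))))))))))))))))))))))))))))))))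

/-- the table agrees with the word -/
theorem eq33 : ∀ q < 306936, f33 q = wordR W33 q :=
  fun q hq => Nat.eq_of_beq_eq_true (eq33_all q hq)

end Cfsg.Agent.Fi24Out
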