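import Cfsg.Agent.Lib.Lead.Fi24Out.D33

/-! # The outer automorphism group of Fi₂₄′: the check of the table number 33, slices (generated) -/

set_option autoImplicit false
set_option Elab.async false
set_option maxRecDepth 100000

namespace Cfsg.Agent.Fi24Out

open Cfsg.Agent.PF Cfsg.Agent.Lib.Helper6 Cfsg.Agent.Lib.Helper6.TC
open Cfsg.Agent.PL (Acts evalF)

theorem eq33_0 : allR 0 3699 (fun q => (fun q => Nat.beq (f33 q) (wordR W33 q)) q) = true := by decide +kernel

theorem eq33_1 : allR 3699 3699 (fun q => (fun q => Nat.beq (f33 q) (wordR W33 q)) q) = true := by decide +kernel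

theorem eq33_2 : allR 7398 3699 (fun q => (fun q => Nat.beq (f33 q) (wordR W33 q)) q) = true := by decide +kernel

theorem eq33_3 : allR 11097 3699 (fun q => (fun q => Nat.beq (f33 q) (wordR W33 q)) q) = true := by decide +kernel

theorem eq33_4 : allR 14796 3699 (fun q => (fun q => Nat.beq (f33 q) (wordR W33 q)) q) = true := by decide +kernel

theorem eq33_5 : allR 18495 3699 (fun q => (fun q => Nat.beq (f33 q) (wordR W33 q)) q) = true := by decide +kernel

theorem eq33_6 : allR 22194 3699 (fun q => (fun q => Nat.beq (f33 q) (wordR W33 q)) q) = true := by decide +kernel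

theorem eq33_7 : allR 25893 3699 (fun q => (fun q => Nat.beq (f33 q) (wordR W33 q)) q) = true := by decide +kernel

theorem eq33_8 : allR 29592 3699 (fun q => (fun q => Nat.beq (f33 q) (wordR W33 q)) q) = true := by decide +kernel

theorem eq33_9 : allR 33291 3699 (fun q => (fun q => Nat.beq (f33 q) (wordR W33 q)) q) = true := by decide +kernel

theorem eq33_10 : allR 36990 3699 (fun q => (fun q => Nat.beq (f33 q) (wordR W33 q)) q) = true := by decide +kernel

theorem eq33_11 : allR 40689 3699 (fun q => (fun q => Nat.beq (f33 q) (wordR W33 q)) q) = true := by decide +kernel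

theorem eq33_12 : allR 44388 3699 (fun q => (fun q => Nat.beq (f33 q) (wordR W33 q)) q) = true := by decide +kernel

theorem eq33_13 : allR 48087 3699 (fun q => (fun q => Nat.beq (f33 q) (wordR W33 q)) q) = true := by decide +kernel

theorem eq33_14 : allR 51786 3699 (fun q => (fun q => Nat.beq (f33 q) (wordR W33 q)) q) = true := by decide +kernel

theorem eq33_15 : allR 55485 3699 (fun q => (fun q => Nat.beq (f33 q) (wordR W33 q)) q) = true := by decide +kernel

theorem eq33_16 : allR 59184 3699 (fun q => (fun q => Nat.beq (f33 q) (wordR W33 q)) q) = true := by decide +kernel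

theorem eq33_17 : allR 62883 3699 (fun q => (fun q => Nat.beq (f33 q) (wordR W33 q)) q) = true := by decide +kernel

theorem eq33_18 : allR 66582 3699 (fun q => (fun q => Nat.beq (f33 q) (wordR W33 q)) q) = true := by decide +kernel

theorem eq33_19 : allR 70281 3699 (fun q => (fun q => Nat.beq (f33 q) (wordR W33 q)) q) = true := by decide +kernel


end Cfsg.Agent.Fi24Out
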