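import Cfsg.Agent.Lib.Lead.Fi24Out.D34

/-! # The outer automorphism group of Fi₂₄′: the check of the table number 34, slices (generated) -/

set_option autoImplicit false
set_option Elab.async false
set_option maxRecDepth 100000

namespace Cfsg.Agent.Fi24Out

open Cfsg.Agent.PF Cfsg.Agent.Lib.Helper6 Cfsg.Agent.Lib.Helper6.TC
open Cfsg.Agent.PL (Acts evalF)

theorem eq34_20 : allR 63960 3198 (fun q => (fun q => Nat.beq (f34 q) (wordR W34 q)) q) = true := by decide +kernel

theorem eq34_21 : allR 67158 3198 (fun q => (fun q => Nat.beq (f34 q) (wordR W34 q)) q) = true := by decide +kernel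

theorem eq34_22 : allR 70356 3198 (fun q => (fun q => Nat.beq (f34 q) (wordR W34 q)) q) = true := by decide +kernel

theorem eq34_23 : allR 73554 3198 (fun q => (fun q => Nat.beq (f34 q) (wordR W34 q)) q) = true := by decide +kernel

theorem eq34_24 : allR 76752 3198 (fun q => (fun q => Nat.beq (f34 q) (wordR W34 q)) q) = true := by decide +kernel

theorem eq34_25 : allR 79950 3198 (fun q => (fun q => Nat.beq (f34 q) (wordR W34 q)) q) = true := by decide +kernel

theorem eq34_26 : allR 83148 3198 (fun q => (fun q => Nat.beq (f34 q) (wordR W34 q)) q) = true := by decide +kernel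

theorem eq34_27 : allR 86346 3198 (fun q => (fun q => Nat.beq (f34 q) (wordR W34 q)) q) = true := by decide +kernel

theorem eq34_28 : allR 89544 3198 (fun q => (fun q => Nat.beq (f34 q) (wordR W34 q)) q) = true := by decide +kernel

theorem eq34_29 : allR 92742 3198 (fun q => (fun q => Nat.beq (f34 q) (wordR W34 q)) q) = true := by decide +kernel

theorem eq34_30 : allR 95940 3198 (fun q => (fun q => Nat.beq (f34 q) (wordR W34 q)) q) = true := by decide +kernel

theorem eq34_31 : allR 99138 3198 (fun q => (fun q => Nat.beq (f34 q) (wordR W34 q)) q) = true := by decide +kernel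

theorem eq34_32 : allR 102336 3198 (fun q => (fun q => Nat.beq (f34 q) (wordR W34 q)) q) = true := by decide +kernel

theorem eq34_33 : allR 105534 3198 (fun q => (fun q => Nat.beq (f34 q) (wordR W34 q)) q) = true := by decide +kernel

theorem eq34_34 : allR 108732 3198 (fun q => (fun q => Nat.beq (f34 q) (wordR W34 q)) q) = true := by decide +kernel

theorem eq34_35 : allR 111930 3198 (fun q => (fun q => Nat.beq (f34 q) (wordR W34 q)) q) = true := by decide +kernel

theorem eq34_36 : allR 115128 3198 (fun q => (fun q => Nat.beq (f34 q) (wordR W34 q)) q) = true := by decide +kernel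

theorem eq34_37 : allR 118326 3198 (fun q => (fun q => Nat.beq (f34 q) (wordR W34 q)) q) = true := by decide +kernel

theorem eq34_38 : allR 121524 3198 (fun q => (fun q => Nat.beq (f34 q) (wordR W34 q)) q) = true := by decide +kernel

theorem eq34_39 : allR 124722 3198 (fun q => (fun q => Nat.beq (f34 q) (wordR W34 q)) q) = true := by decide +kernel


end Cfsg.Agent.Fi24Out
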