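import Cfsg.Agent.Lib.Lead.Fi24Out.D34

/-! # The outer automorphism group of Fi₂₄′: the check of the table number 34, slices (generated) -/

set_option autoImplicit false
set_option Elab.async false
set_option maxRecDepth 100000

namespace Cfsg.Agent.Fi24Out

open Cfsg.Agent.PF Cfsg.Agent.Lib.Helper6 Cfsg.Agent.Lib.Helper6.TC
open Cfsg.Agent.PL (Acts evalF)

theorem eq34_40 : allR 127920 3198 (fun q => (fun q => Nat.beq (f34 q) (wordR W34 q)) q) = true := by decide +kernel

theorem eq34_41 : allR 131118 3198 (fun q => (fun q => Nat.beq (f34 q) (wordR W34 q)) q) = true := by decide +kernel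

theorem eq34_42 : allR 134316 3198 (fun q => (fun q => Nat.beq (f34 q) (wordR W34 q)) q) = true := by decide +kernel

theorem eq34_43 : allR 137514 3198 (fun q => (fun q => Nat.beq (f34 q) (wordR W34 q)) q) = true := by decide +kernel

theorem eq34_44 : allR 140712 3198 (fun q => (fun q => Nat.beq (f34 q) (wordR W34 q)) q) = true := by decide +kernel

theorem eq34_45 : allR 143910 3198 (fun q => (fun q => Nat.beq (f34 q) (wordR W34 q)) q) = true := by decide +kernel

theorem eq34_46 : allR 147108 3198 (fun q => (fun q => Nat.beq (f34 q) (wordR W34 q)) q) = true := by decide +kernel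

theorem eq34_47 : allR 150306 3198 (fun q => (fun q => Nat.beq (f34 q) (wordR W34 q)) q) = true := by decide +kernel

theorem eq34_48 : allR 153504 3198 (fun q => (fun q => Nat.beq (f34 q) (wordR W34 q)) q) = true := by decide +kernel

theorem eq34_49 : allR 156702 3198 (fun q => (fun q => Nat.beq (f34 q) (wordR W34 q)) q) = true := by decide +kernel

theorem eq34_50 : allR 159900 3198 (fun q => (fun q => Nat.beq (f34 q) (wordR W34 q)) q) = true := by decide +kernel

theorem eq34_51 : allR 163098 3198 (fun q => (fun q => Nat.beq (f34 q) (wordR W34 q)) q) = true := by decide +kernel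

theorem eq34_52 : allR 166296 3198 (fun q => (fun q => Nat.beq (f34 q) (wordR W34 q)) q) = true := by decide +kernel

theorem eq34_53 : allR 169494 3198 (fun q => (fun q => Nat.beq (f34 q) (wordR W34 q)) q) = true := by decide +kernel

theorem eq34_54 : allR 172692 3198 (fun q => (fun q => Nat.beq (f34 q) (wordR W34 q)) q) = true := by decide +kernel

theorem eq34_55 : allR 175890 3198 (fun q => (fun q => Nat.beq (f34 q) (wordR W34 q)) q) = true := by decide +kernel

theorem eq34_56 : allR 179088 3198 (fun q => (fun q => Nat.beq (f34 q) (wordR W34 q)) q) = true := by decide +kernel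

theorem eq34_57 : allR 182286 3198 (fun q => (fun q => Nat.beq (f34 q) (wordR W34 q)) q) = true := by decide +kernel

theorem eq34_58 : allR 185484 3198 (fun q => (fun q => Nat.beq (f34 q) (wordR W34 q)) q) = true := by decide +kernel

theorem eq34_59 : allR 188682 3198 (fun q => (fun q => Nat.beq (f34 q) (wordR W34 q)) q) = true := by decide +kernel


end Cfsg.Agent.Fi24Out
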