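import Cfsg.Agent.Lib.Lead.Fi24Out.D34

/-! # The outer automorphism group of Fi₂₄′: the check of the table number 34, slices (generated) -/

set_option autoImplicit false
set_option Elab.async false
set_option maxRecDepth 100000

namespace Cfsg.Agent.Fi24Out

open Cfsg.Agent.PF Cfsg.Agent.Lib.Helper6 Cfsg.Agent.Lib.Helper6.TC
open Cfsg.Agent.PL (Acts evalF)

theorem eq34_60 : allR 191880 3198 (fun q => (fun q => Nat.beq (f34 q) (wordR W34 q)) q) = true := by decide +kernel

theorem eq34_61 : allR 195078 3198 (fun q => (fun q => Nat.beq (f34 q) (wordR W34 q)) q) = true := by decide +kernel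

theorem eq34_62 : allR 198276 3198 (fun q => (fun q => Nat.beq (f34 q) (wordR W34 q)) q) = true := by decide +kernel

theorem eq34_63 : allR 201474 3198 (fun q => (fun q => Nat.beq (f34 q) (wordR W34 q)) q) = true := by decide +kernel

theorem eq34_64 : allR 204672 3198 (fun q => (fun q => Nat.beq (f34 q) (wordR W34 q)) q) = true := by decide +kernel

theorem eq34_65 : allR 207870 3198 (fun q => (fun q => Nat.beq (f34 q) (wordR W34 q)) q) = true := by decide +kernel

theorem eq34_66 : allR 211068 3198 (fun q => (fun q => Nat.beq (f34 q) (wordR W34 q)) q) = true := by decide +kernel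

theorem eq34_67 : allR 214266 3198 (fun q => (fun q => Nat.beq (f34 q) (wordR W34 q)) q) = true := by decide +kernel

theorem eq34_68 : allR 217464 3198 (fun q => (fun q => Nat.beq (f34 q) (wordR W34 q)) q) = true := by decide +kernel

theorem eq34_69 : allR 220662 3198 (fun q => (fun q => Nat.beq (f34 q) (wordR W34 q)) q) = true := by decide +kernel

theorem eq34_70 : allR 223860 3198 (fun q => (fun q => Nat.beq (f34 q) (wordR W34 q)) q) = true := by decide +kernel

theorem eq34_71 : allR 227058 3198 (fun q => (fun q => Nat.beq (f34 q) (wordR W34 q)) q) = true := by decide +kernel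

theorem eq34_72 : allR 230256 3198 (fun q => (fun q => Nat.beq (f34 q) (wordR W34 q)) q) = true := by decide +kernel

theorem eq34_73 : allR 233454 3198 (fun q => (fun q => Nat.beq (f34 q) (wordR W34 q)) q) = true := by decide +kernel

theorem eq34_74 : allR 236652 3198 (fun q => (fun q => Nat.beq (f34 q) (wordR W34 q)) q) = true := by decide +kernel

theorem eq34_75 : allR 239850 3198 (fun q => (fun q => Nat.beq (f34 q) (wordR W34 q)) q) = true := by decide +kernel

theorem eq34_76 : allR 243048 3198 (fun q => (fun q => Nat.beq (f34 q) (wordR W34 q)) q) = true := by decide +kernel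

theorem eq34_77 : allR 246246 3198 (fun q => (fun q => Nat.beq (f34 q) (wordR W34 q)) q) = true := by decide +kernel

theorem eq34_78 : allR 249444 3198 (fun q => (fun q => Nat.beq (f34 q) (wordR W34 q)) q) = true := by decide +kernel

theorem eq34_79 : allR 252642 3198 (fun q => (fun q => Nat.beq (f34 q) (wordR W34 q)) q) = true := by decide +kernel


end Cfsg.Agent.Fi24Out
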