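import Cfsg.Agent.Lib.Lead.Fi24Out.D34

/-! # The outer automorphism group of Fi₂₄′: the check of the table number 34, slices (generated) -/

set_option autoImplicit false
set_option Elab.async false
set_option maxRecDepth 100000

namespace Cfsg.Agent.Fi24Out

open Cfsg.Agent.PF Cfsg.Agent.Lib.Helper6 Cfsg.Agent.Lib.Helper6.TC
open Cfsg.Agent.PL (Acts evalF)

theorem eq34_80 : allR 255840 3198 (fun q => (fun q => Nat.beq (f34 q) (wordR W34 q)) q) = true := by decide +kernel

theorem eq34_81 : allR 259038 3198 (fun q => (fun q => Nat.beq (f34 q) (wordR W34 q)) q) = true := by decide +kernel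

theorem eq34_82 : allR 262236 3198 (fun q => (fun q => Nat.beq (f34 q) (wordR W34 q)) q) = true := by decide +kernel

theorem eq34_83 : allR 265434 3198 (fun q => (fun q => Nat.beq (f34 q) (wordR W34 q)) q) = true := by decide +kernel

theorem eq34_84 : allR 268632 3198 (fun q => (fun q => Nat.beq (f34 q) (wordR W34 q)) q) = true := by decide +kernel

theorem eq34_85 : allR 271830 3198 (fun q => (fun q => Nat.beq (f34 q) (wordR W34 q)) q) = true := by decide +kernel

theorem eq34_86 : allR 275028 3198 (fun q => (fun q => Nat.beq (f34 q) (wordR W34 q)) q) = true := by decide +kernel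

theorem eq34_87 : allR 278226 3198 (fun q => (fun q => Nat.beq (f34 q) (wordR W34 q)) q) = true := by decide +kernel

theorem eq34_88 : allR 281424 3198 (fun q => (fun q => Nat.beq (f34 q) (wordR W34 q)) q) = true := by decide +kernel

theorem eq34_89 : allR 284622 3198 (fun q => (fun q => Nat.beq (f34 q) (wordR W34 q)) q) = true := by decide +kernel

theorem eq34_90 : allR 287820 3198 (fun q => (fun q => Nat.beq (f34 q) (wordR W34 q)) q) = true := by decide +kernel

theorem eq34_91 : allR 291018 3198 (fun q => (fun q => Nat.beq (f34 q) (wordR W34 q)) q) = true := by decide +kernel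

theorem eq34_92 : allR 294216 3198 (fun q => (fun q => Nat.beq (f34 q) (wordR W34 q)) q) = true := by decide +kernel

theorem eq34_93 : allR 297414 3198 (fun q => (fun q => Nat.beq (f34 q) (wordR W34 q)) q) = true := by decide +kernel

theorem eq34_94 : allR 300612 3198 (fun q => (fun q => Nat.beq (f34 q) (wordR W34 q)) q) = true := by decide +kernel

theorem eq34_95 : allR 303810 3126 (fun q => (fun q => Nat.beq (f34 q) (wordR W34 q)) q) = true := by decide +kernel


end Cfsg.Agent.Fi24Out
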