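import Cfsg.Agent.Lib.Lead.Fi24Out.C34_0
import Cfsg.Agent.Lib.Lead.Fi24Out.C34_1
import Cfsg.Agent.Lib.Lead.Fi24Out.C34_2
import Cfsg.Agent.Lib.Lead.Fi24Out.C34_3
import Cfsg.Agent.Lib.Lead.Fi24Out.C34_4
import Cfsg.Agent.Lib.Lead.Fi24Out.Base0

/-! # The outer automorphism group of Fi₂₄′: the check of the table number 34 (generated) -/

set_option autoImplicit false
set_option maxRecDepth 100000

namespace Cfsg.Agent.Fi24Out

open Cfsg.Agent.PF Cfsg.Agent.Lib.Helper6 Cfsg.Agent.Lib.Helper6.TC
open Cfsg.Agent.PL (Acts evalF)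

theorem eq34_all : ∀ q < 306936, (fun q => Nat.beq (f34 q) (wordR W34 q)) q = true :=
  forall_lt_of_chunks (f := fun q => (fun q => Nat.beq (f34 q) (wordR W34 q)) q) [(0, 3198), (3198, 3198), (6396, 3198), (9594, 3198), (12792, 3198), (15990, 3198), (19188, 3198), (22386, 3198), (25584, 3198), (28782, 3198), (31980, 3198), (35178, 3198), (38376, 3198), (41574, 3198), (44772, 3198), (47970, 3198), (51168, 3198), (54366, 3198), (57564, 3198), (60762, 3198), (63960, 3198), (67158, 3198), (70356, 3198), (73554, 3198), (76752, 3198), (79950, 3198), (83148, 3198), (86346, 3198), (89544, 3198), (92742, 3198), (95940, 3198), (99138, 3198), (102336, 3198), (105534, 3198), (108732, 3198), (111930, 3198), (115128, 3198), (118326, 3198), (121524, 3198), (124722, 3198), (127920, 3198), (131118, 3198), (134316, 3198), (137514, 3198), (140712, 3198), (143910, 3198), (147108, 3198), (150306, 3198), (153504, 3198), (156702, 3198), (159900, 3198), (163098, 3198), (166296, 3198), (169494, 3198), (172692, 3198), (175890, 3198), (179088, 3198),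 (182286, 3198), (185484, 3198), (188682, 3198), (191880, 3198), (195078, 3198), (198276, 3198), (201474, 3198), (204672, 3198), (207870, 3198), (211068, 3198), (214266, 3198), (217464, 3198), (220662, 3198), (223860, 3198), (227058, 3198), (230256, 3198), (233454, 3198), (236652, 3198), (239850, 3198), (243048, 3198), (246246, 3198), (249444, 3198), (252642, 3198), (255840, 3198), (259038, 3198), (262236, 3198), (265434, 3198), (268632, 3198), (271830, 3198), (275028, 3198), (278226, 3198), (281424, 3198), (284622, 3198), (287820, 3198), (291018, 3198), (294216, 3198), (297414, 3198), (300612, 3198), (303810, 3126)] (by decide)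
    (all_cons eq34_0 (all_cons eq34_1 (all_cons eq34_2 (all_cons eq34_3 (all_cons eq34_4 (all_cons eq34_5 (all_cons eq34_6 (all_cons eq34_7 (all_cons eq34_8 (all_cons eq34_9 (all_cons eq34_10 (all_cons eq34_11 (all_cons eq34_12 (all_cons eq34_13 (all_cons eq34_14 (all_cons eq34_15 (all_cons eq34_16 (all_cons eq34_17 (all_cons eq34_18 (all_cons eq34_19 (all_cons eq34_20 (all_cons eq34_21 (all_cons eq34_22 (all_cons eq34_23 (all_cons eq34_24 (all_cons eq34_25 (all_cons eq34_26 (all_cons eq34_27 (all_cons eq34_28 (all_cons eq34_29 (all_cons eq34_30 (all_cons eq34_31 (all_cons eq34_32 (all_cons eq34_33 (all_cons eq34_34 (all_cons eq34_35 (all_cons eq34_36 (all_cons eq34_37 (all_cons eq34_38 (all_cons eq34_39 (all_cons eq34_40 (all_cons eq34_41 (all_cons eq34_42 (all_cons eq34_43 (all_cons eq34_44 (all_cons eq34_45 (all_cons eq34_46 (all_cons eq34_47 (all_cons eq34_48 (all_cons eq34_49 (all_cons eq34_50 (all_cons eq34_51 (all_cons eq34_52 (all_cons eq34_53 (all_cons eq34_54 (all_cons eq34_55 (all_cons eq34_56 (all_cons eq34_57 (all_cons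 eq34_58 (all_cons eq34_59 (all_cons eq34_60 (all_cons eq34_61 (all_cons eq34_62 (all_cons eq34_63 (all_cons eq34_64 (all_cons eq34_65 (all_cons eq34_66 (all_cons eq34_67 (all_cons eq34_68 (all_cons eq34_69 (all_cons eq34_70 (all_cons eq34_71 (all_cons eq34_72 (all_cons eq34_73 (all_cons eq34_74 (all_cons eq34_75 (all_cons eq34_76 (all_cons eq34_77 (all_cons eq34_78 (all_cons eq34_79 (all_cons eq34_80 (all_cons eq34_81 (all_cons eq34_82 (all_cons eq34_83 (all_cons eq34_84 (all_cons eq34_85 (all_cons eq34_86 (all_cons eq34_87 (all_cons eq34_88 (all_cons eq34_89 (all_cons eq34_90 (all_cons eq34_91 (all_cons eq34_92 (all_cons eq34_93 (all_cons eq34_94 (all_cons eq34_95 all_nil))))))))))))))))))))))))))))))))))))))))))))))))))))))))))))))))))))))))))))))))))))))))))))))))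

/-- the table agrees with the word -/
theorem eq34 : ∀ q < 306936, f34 q = wordR W34 q :=
  fun q hq => Nat.eq_of_beq_eq_true (eq34_all q hq)

end Cfsg.Agent.Fi24Out
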