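import Cfsg.Agent.Lib.Lead.Fi24Out.D36

/-! # The outer automorphism group of Fi₂₄′: the check of the table number 36, slices (generated) -/

set_option autoImplicit false
set_option Elab.async false
set_option maxRecDepth 100000

namespace Cfsg.Agent.Fi24Out

open Cfsg.Agent.PF Cfsg.Agent.Lib.Helper6 Cfsg.Agent.Lib.Helper6.TC
open Cfsg.Agent.PL (Acts evalF)

theorem eq36_20 : allR 82960 4148 (fun q => (fun q => Nat.beq (f36 q) (wordR W36 q)) q) = true := by decide +kernel

theorem eq36_21 : allR 87108 4148 (fun q => (fun q => Nat.beq (f36 q) (wordR W36 q)) q) = true := by decide +kernel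

theorem eq36_22 : allR 91256 4148 (fun q => (fun q => Nat.beq (f36 q) (wordR W36 q)) q) = true := by decide +kernel

theorem eq36_23 : allR 95404 4148 (fun q => (fun q => Nat.beq (f36 q) (wordR W36 q)) q) = true := by decide +kernel

theorem eq36_24 : allR 99552 4148 (fun q => (fun q => Nat.beq (f36 q) (wordR W36 q)) q) = true := by decide +kernel

theorem eq36_25 : allR 103700 4148 (fun q => (fun q => Nat.beq (f36 q) (wordR W36 q)) q) = true := by decide +kernel

theorem eq36_26 : allR 107848 4148 (fun q => (fun q => Nat.beq (f36 q) (wordR W36 q)) q) = true := by decide +kernel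

theorem eq36_27 : allR 111996 4148 (fun q => (fun q => Nat.beq (f36 q) (wordR W36 q)) q) = true := by decide +kernel

theorem eq36_28 : allR 116144 4148 (fun q => (fun q => Nat.beq (f36 q) (wordR W36 q)) q) = true := by decide +kernel

theorem eq36_29 : allR 120292 4148 (fun q => (fun q => Nat.beq (f36 q) (wordR W36 q)) q) = true := by decide +kernel

theorem eq36_30 : allR 124440 4148 (fun q => (fun q => Nat.beq (f36 q) (wordR W36 q)) q) = true := by decide +kernel

theorem eq36_31 : allR 128588 4148 (fun q => (fun q => Nat.beq (f36 q) (wordR W36 q)) q) = true := by decide +kernel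

theorem eq36_32 : allR 132736 4148 (fun q => (fun q => Nat.beq (f36 q) (wordR W36 q)) q) = true := by decide +kernel

theorem eq36_33 : allR 136884 4148 (fun q => (fun q => Nat.beq (f36 q) (wordR W36 q)) q) = true := by decide +kernel

theorem eq36_34 : allR 141032 4148 (fun q => (fun q => Nat.beq (f36 q) (wordR W36 q)) q) = true := by decide +kernel

theorem eq36_35 : allR 145180 4148 (fun q => (fun q => Nat.beq (f36 q) (wordR W36 q)) q) = true := by decide +kernel

theorem eq36_36 : allR 149328 4148 (fun q => (fun q => Nat.beq (f36 q) (wordR W36 q)) q) = true := by decide +kernel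

theorem eq36_37 : allR 153476 4148 (fun q => (fun q => Nat.beq (f36 q) (wordR W36 q)) q) = true := by decide +kernel

theorem eq36_38 : allR 157624 4148 (fun q => (fun q => Nat.beq (f36 q) (wordR W36 q)) q) = true := by decide +kernel

theorem eq36_39 : allR 161772 4148 (fun q => (fun q => Nat.beq (f36 q) (wordR W36 q)) q) = true := by decide +kernel


end Cfsg.Agent.Fi24Out
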