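import Cfsg.Agent.Lib.Lead.Fi24Out.C36_0
import Cfsg.Agent.Lib.Lead.Fi24Out.C36_1
import Cfsg.Agent.Lib.Lead.Fi24Out.C36_2
import Cfsg.Agent.Lib.Lead.Fi24Out.C36_3
import Cfsg.Agent.Lib.Lead.Fi24Out.Base0

/-! # The outer automorphism group of Fi₂₄′: the check of the table number 36 (generated) -/

set_option autoImplicit false
set_option maxRecDepth 100000

namespace Cfsg.Agent.Fi24Out

open Cfsg.Agent.PF Cfsg.Agent.Lib.Helper6 Cfsg.Agent.Lib.Helper6.TC
open Cfsg.Agent.PL (Acts evalF)

theorem eq36_all : ∀ q < 306936, (fun q => Nat.beq (f36 q) (wordR W36 q)) q = true :=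
  forall_lt_of_chunks (f := fun q => (fun q => Nat.beq (f36 q) (wordR W36 q)) q) [(0, 4148), (4148, 4148), (8296, 4148), (12444, 4148), (16592, 4148), (20740, 4148), (24888, 4148), (29036, 4148), (33184, 4148), (37332, 4148), (41480, 4148), (45628, 4148), (49776, 4148), (53924, 4148), (58072, 4148), (62220, 4148), (66368, 4148), (70516, 4148), (74664, 4148), (78812, 4148), (82960, 4148), (87108, 4148), (91256, 4148), (95404, 4148), (99552, 4148), (103700, 4148), (107848, 4148), (111996, 4148), (116144, 4148), (120292, 4148), (124440, 4148), (128588, 4148), (132736, 4148), (136884, 4148), (141032, 4148), (145180, 4148), (149328, 4148), (153476, 4148), (157624, 4148), (161772, 4148), (165920, 4148), (170068, 4148), (174216, 4148), (178364, 4148), (182512, 4148), (186660, 4148), (190808, 4148), (194956, 4148), (199104, 4148), (203252, 4148), (207400, 4148), (211548, 4148), (215696, 4148), (219844, 4148), (223992, 4148), (228140, 4148), (232288, 4148), (236436, 4148), (240584, 4148), (244732, 4148), (248880, 4148), (253028, 4148),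 (257176, 4148), (261324, 4148), (265472, 4148), (269620, 4148), (273768, 4148), (277916, 4148), (282064, 4148), (286212, 4148), (290360, 4148), (294508, 4148), (298656, 4148), (302804, 4132)] (by decide)
    (all_cons eq36_0 (all_cons eq36_1 (all_cons eq36_2 (all_cons eq36_3 (all_cons eq36_4 (all_cons eq36_5 (all_cons eq36_6 (all_cons eq36_7 (all_cons eq36_8 (all_cons eq36_9 (all_cons eq36_10 (all_cons eq36_11 (all_cons eq36_12 (all_cons eq36_13 (all_cons eq36_14 (all_cons eq36_15 (all_cons eq36_16 (all_cons eq36_17 (all_cons eq36_18 (all_cons eq36_19 (all_cons eq36_20 (all_cons eq36_21 (all_cons eq36_22 (all_cons eq36_23 (all_cons eq36_24 (all_cons eq36_25 (all_cons eq36_26 (all_cons eq36_27 (all_cons eq36_28 (all_cons eq36_29 (all_cons eq36_30 (all_cons eq36_31 (all_cons eq36_32 (all_cons eq36_33 (all_cons eq36_34 (all_cons eq36_35 (all_cons eq36_36 (all_cons eq36_37 (all_cons eq36_38 (all_cons eq36_39 (all_cons eq36_40 (all_cons eq36_41 (all_cons eq36_42 (all_cons eq36_43 (all_cons eq36_44 (all_cons eq36_45 (all_cons eq36_46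 (all_cons eq36_47 (all_cons eq36_48 (all_cons eq36_49 (all_cons eq36_50 (all_cons eq36_51 (all_cons eq36_52 (all_cons eq36_53 (all_cons eq36_54 (all_cons eq36_55 (all_cons eq36_56 (all_cons eq36_57 (all_cons eq36_58 (all_cons eq36_59 (all_cons eq36_60 (all_cons eq36_61 (all_cons eq36_62 (all_cons eq36_63 (all_cons eq36_64 (all_cons eq36_65 (all_cons eq36_66 (all_cons eq36_67 (all_cons eq36_68 (all_cons eq36_69 (all_cons eq36_70 (all_cons eq36_71 (all_cons eq36_72 (all_cons eq36_73 all_nil))))))))))))))))))))))))))))))))))))))))))))))))))))))))))))))))))))))))))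

/-- the table agrees with the word -/
theorem eq36 : ∀ q < 306936, f36 q = wordR W36 q :=
  fun q hq => Nat.eq_of_beq_eq_true (eq36_all q hq)

end Cfsg.Agent.Fi24Out
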