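import Cfsg.Agent.Lib.Lead.Fi24Out.D36

/-! # The outer automorphism group of Fi₂₄′: the check of the table number 36, slices (generated) -/

set_option autoImplicit false
set_option Elab.async false
set_option maxRecDepth 100000

namespace Cfsg.Agent.Fi24Out

open Cfsg.Agent.PF Cfsg.Agent.Lib.Helper6 Cfsg.Agent.Lib.Helper6.TC
open Cfsg.Agent.PL (Acts evalF)

theorem eq36_0 : allR 0 4148 (fun q => (fun q => Nat.beq (f36 q) (wordR W36 q)) q) = true := by decide +kernel

theorem eq36_1 : allR 4148 4148 (fun q => (fun q => Nat.beq (f36 q) (wordR W36 q)) q) = true := by decide +kernel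

theorem eq36_2 : allR 8296 4148 (fun q => (fun q => Nat.beq (f36 q) (wordR W36 q)) q) = true := by decide +kernel

theorem eq36_3 : allR 12444 4148 (fun q => (fun q => Nat.beq (f36 q) (wordR W36 q)) q) = true := by decide +kernel

theorem eq36_4 : allR 16592 4148 (fun q => (fun q => Nat.beq (f36 q) (wordR W36 q)) q) = true := by decide +kernel

theorem eq36_5 : allR 20740 4148 (fun q => (fun q => Nat.beq (f36 q) (wordR W36 q)) q) = true := by decide +kernel

theorem eq36_6 : allR 24888 4148 (fun q => (fun q => Nat.beq (f36 q) (wordR W36 q)) q) = true := by decide +kernel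

theorem eq36_7 : allR 29036 4148 (fun q => (fun q => Nat.beq (f36 q) (wordR W36 q)) q) = true := by decide +kernel

theorem eq36_8 : allR 33184 4148 (fun q => (fun q => Nat.beq (f36 q) (wordR W36 q)) q) = true := by decide +kernel

theorem eq36_9 : allR 37332 4148 (fun q => (fun q => Nat.beq (f36 q) (wordR W36 q)) q) = true := by decide +kernel

theorem eq36_10 : allR 41480 4148 (fun q => (fun q => Nat.beq (f36 q) (wordR W36 q)) q) = true := by decide +kernel

theorem eq36_11 : allR 45628 4148 (fun q => (fun q => Nat.beq (f36 q) (wordR W36 q)) q) = true := by decide +kernel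

theorem eq36_12 : allR 49776 4148 (fun q => (fun q => Nat.beq (f36 q) (wordR W36 q)) q) = true := by decide +kernel

theorem eq36_13 : allR 53924 4148 (fun q => (fun q => Nat.beq (f36 q) (wordR W36 q)) q) = true := by decide +kernel

theorem eq36_14 : allR 58072 4148 (fun q => (fun q => Nat.beq (f36 q) (wordR W36 q)) q) = true := by decide +kernel

theorem eq36_15 : allR 62220 4148 (fun q => (fun q => Nat.beq (f36 q) (wordR W36 q)) q) = true := by decide +kernel

theorem eq36_16 : allR 66368 4148 (fun q => (fun q => Nat.beq (f36 q) (wordR W36 q)) q) = true := by decide +kernel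

theorem eq36_17 : allR 70516 4148 (fun q => (fun q => Nat.beq (f36 q) (wordR W36 q)) q) = true := by decide +kernel

theorem eq36_18 : allR 74664 4148 (fun q => (fun q => Nat.beq (f36 q) (wordR W36 q)) q) = true := by decide +kernel

theorem eq36_19 : allR 78812 4148 (fun q => (fun q => Nat.beq (f36 q) (wordR W36 q)) q) = true := by decide +kernel


end Cfsg.Agent.Fi24Out
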