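import Cfsg.Agent.Lib.Lead.Fi24Out.D37

/-! # The outer automorphism group of Fi₂₄′: the check of the table number 37, slices (generated) -/

set_option autoImplicit false
set_option Elab.async false
set_option maxRecDepth 100000

namespace Cfsg.Agent.Fi24Out

open Cfsg.Agent.PF Cfsg.Agent.Lib.Helper6 Cfsg.Agent.Lib.Helper6.TC
open Cfsg.Agent.PL (Acts evalF)

theorem eq37_20 : allR 68220 3411 (fun q => (fun q => Nat.beq (f37 q) (wordR W37 q)) q) = true := by decide +kernel

theorem eq37_21 : allR 71631 3411 (fun q => (fun q => Nat.beq (f37 q) (wordR W37 q)) q) = true := by decide +kernel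

theorem eq37_22 : allR 75042 3411 (fun q => (fun q => Nat.beq (f37 q) (wordR W37 q)) q) = true := by decide +kernel

theorem eq37_23 : allR 78453 3411 (fun q => (fun q => Nat.beq (f37 q) (wordR W37 q)) q) = true := by decide +kernel

theorem eq37_24 : allR 81864 3411 (fun q => (fun q => Nat.beq (f37 q) (wordR W37 q)) q) = true := by decide +kernel

theorem eq37_25 : allR 85275 3411 (fun q => (fun q => Nat.beq (f37 q) (wordR W37 q)) q) = true := by decide +kernel

theorem eq37_26 : allR 88686 3411 (fun q => (fun q => Nat.beq (f37 q) (wordR W37 q)) q) = true := by decide +kernel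

theorem eq37_27 : allR 92097 3411 (fun q => (fun q => Nat.beq (f37 q) (wordR W37 q)) q) = true := by decide +kernel

theorem eq37_28 : allR 95508 3411 (fun q => (fun q => Nat.beq (f37 q) (wordR W37 q)) q) = true := by decide +kernel

theorem eq37_29 : allR 98919 3411 (fun q => (fun q => Nat.beq (f37 q) (wordR W37 q)) q) = true := by decide +kernel

theorem eq37_30 : allR 102330 3411 (fun q => (fun q => Nat.beq (f37 q) (wordR W37 q)) q) = true := by decide +kernel

theorem eq37_31 : allR 105741 3411 (fun q => (fun q => Nat.beq (f37 q) (wordR W37 q)) q) = true := by decide +kernel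

theorem eq37_32 : allR 109152 3411 (fun q => (fun q => Nat.beq (f37 q) (wordR W37 q)) q) = true := by decide +kernel

theorem eq37_33 : allR 112563 3411 (fun q => (fun q => Nat.beq (f37 q) (wordR W37 q)) q) = true := by decide +kernel

theorem eq37_34 : allR 115974 3411 (fun q => (fun q => Nat.beq (f37 q) (wordR W37 q)) q) = true := by decide +kernel

theorem eq37_35 : allR 119385 3411 (fun q => (fun q => Nat.beq (f37 q) (wordR W37 q)) q) = true := by decide +kernel

theorem eq37_36 : allR 122796 3411 (fun q => (fun q => Nat.beq (f37 q) (wordR W37 q)) q) = true := by decide +kernel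

theorem eq37_37 : allR 126207 3411 (fun q => (fun q => Nat.beq (f37 q) (wordR W37 q)) q) = true := by decide +kernel

theorem eq37_38 : allR 129618 3411 (fun q => (fun q => Nat.beq (f37 q) (wordR W37 q)) q) = true := by decide +kernel

theorem eq37_39 : allR 133029 3411 (fun q => (fun q => Nat.beq (f37 q) (wordR W37 q)) q) = true := by decide +kernel


end Cfsg.Agent.Fi24Out
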