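import Cfsg.Agent.Lib.Lead.Fi24Out.D37

/-! # The outer automorphism group of Fi₂₄′: the check of the table number 37, slices (generated) -/

set_option autoImplicit false
set_option Elab.async false
set_option maxRecDepth 100000

namespace Cfsg.Agent.Fi24Out

open Cfsg.Agent.PF Cfsg.Agent.Lib.Helper6 Cfsg.Agent.Lib.Helper6.TC
open Cfsg.Agent.PL (Acts evalF)

theorem eq37_40 : allR 136440 3411 (fun q => (fun q => Nat.beq (f37 q) (wordR W37 q)) q) = true := by decide +kernel

theorem eq37_41 : allR 139851 3411 (fun q => (fun q => Nat.beq (f37 q) (wordR W37 q)) q) = true := by decide +kernel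

theorem eq37_42 : allR 143262 3411 (fun q => (fun q => Nat.beq (f37 q) (wordR W37 q)) q) = true := by decide +kernel

theorem eq37_43 : allR 146673 3411 (fun q => (fun q => Nat.beq (f37 q) (wordR W37 q)) q) = true := by decide +kernel

theorem eq37_44 : allR 150084 3411 (fun q => (fun q => Nat.beq (f37 q) (wordR W37 q)) q) = true := by decide +kernel

theorem eq37_45 : allR 153495 3411 (fun q => (fun q => Nat.beq (f37 q) (wordR W37 q)) q) = true := by decide +kernel

theorem eq37_46 : allR 156906 3411 (fun q => (fun q => Nat.beq (f37 q) (wordR W37 q)) q) = true := by decide +kernel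

theorem eq37_47 : allR 160317 3411 (fun q => (fun q => Nat.beq (f37 q) (wordR W37 q)) q) = true := by decide +kernel

theorem eq37_48 : allR 163728 3411 (fun q => (fun q => Nat.beq (f37 q) (wordR W37 q)) q) = true := by decide +kernel

theorem eq37_49 : allR 167139 3411 (fun q => (fun q => Nat.beq (f37 q) (wordR W37 q)) q) = true := by decide +kernel

theorem eq37_50 : allR 170550 3411 (fun q => (fun q => Nat.beq (f37 q) (wordR W37 q)) q) = true := by decide +kernel

theorem eq37_51 : allR 173961 3411 (fun q => (fun q => Nat.beq (f37 q) (wordR W37 q)) q) = true := by decide +kernel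

theorem eq37_52 : allR 177372 3411 (fun q => (fun q => Nat.beq (f37 q) (wordR W37 q)) q) = true := by decide +kernel

theorem eq37_53 : allR 180783 3411 (fun q => (fun q => Nat.beq (f37 q) (wordR W37 q)) q) = true := by decide +kernel

theorem eq37_54 : allR 184194 3411 (fun q => (fun q => Nat.beq (f37 q) (wordR W37 q)) q) = true := by decide +kernel

theorem eq37_55 : allR 187605 3411 (fun q => (fun q => Nat.beq (f37 q) (wordR W37 q)) q) = true := by decide +kernel

theorem eq37_56 : allR 191016 3411 (fun q => (fun q => Nat.beq (f37 q) (wordR W37 q)) q) = true := by decide +kernel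

theorem eq37_57 : allR 194427 3411 (fun q => (fun q => Nat.beq (f37 q) (wordR W37 q)) q) = true := by decide +kernel

theorem eq37_58 : allR 197838 3411 (fun q => (fun q => Nat.beq (f37 q) (wordR W37 q)) q) = true := by decide +kernel

theorem eq37_59 : allR 201249 3411 (fun q => (fun q => Nat.beq (f37 q) (wordR W37 q)) q) = true := by decide +kernel


end Cfsg.Agent.Fi24Out
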