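import Cfsg.Agent.Lib.Lead.Fi24Out.D37

/-! # The outer automorphism group of Fi₂₄′: the check of the table number 37, slices (generated) -/

set_option autoImplicit false
set_option Elab.async false
set_option maxRecDepth 100000

namespace Cfsg.Agent.Fi24Out

open Cfsg.Agent.PF Cfsg.Agent.Lib.Helper6 Cfsg.Agent.Lib.Helper6.TC
open Cfsg.Agent.PL (Acts evalF)

theorem eq37_60 : allR 204660 3411 (fun q => (fun q => Nat.beq (f37 q) (wordR W37 q)) q) = true := by decide +kernel

theorem eq37_61 : allR 208071 3411 (fun q => (fun q => Nat.beq (f37 q) (wordR W37 q)) q) = true := by decide +kernel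

theorem eq37_62 : allR 211482 3411 (fun q => (fun q => Nat.beq (f37 q) (wordR W37 q)) q) = true := by decide +kernel

theorem eq37_63 : allR 214893 3411 (fun q => (fun q => Nat.beq (f37 q) (wordR W37 q)) q) = true := by decide +kernel

theorem eq37_64 : allR 218304 3411 (fun q => (fun q => Nat.beq (f37 q) (wordR W37 q)) q) = true := by decide +kernel

theorem eq37_65 : allR 221715 3411 (fun q => (fun q => Nat.beq (f37 q) (wordR W37 q)) q) = true := by decide +kernel

theorem eq37_66 : allR 225126 3411 (fun q => (fun q => Nat.beq (f37 q) (wordR W37 q)) q) = true := by decide +kernel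

theorem eq37_67 : allR 228537 3411 (fun q => (fun q => Nat.beq (f37 q) (wordR W37 q)) q) = true := by decide +kernel

theorem eq37_68 : allR 231948 3411 (fun q => (fun q => Nat.beq (f37 q) (wordR W37 q)) q) = true := by decide +kernel

theorem eq37_69 : allR 235359 3411 (fun q => (fun q => Nat.beq (f37 q) (wordR W37 q)) q) = true := by decide +kernel

theorem eq37_70 : allR 238770 3411 (fun q => (fun q => Nat.beq (f37 q) (wordR W37 q)) q) = true := by decide +kernel

theorem eq37_71 : allR 242181 3411 (fun q => (fun q => Nat.beq (f37 q) (wordR W37 q)) q) = true := by decide +kernel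

theorem eq37_72 : allR 245592 3411 (fun q => (fun q => Nat.beq (f37 q) (wordR W37 q)) q) = true := by decide +kernel

theorem eq37_73 : allR 249003 3411 (fun q => (fun q => Nat.beq (f37 q) (wordR W37 q)) q) = true := by decide +kernel

theorem eq37_74 : allR 252414 3411 (fun q => (fun q => Nat.beq (f37 q) (wordR W37 q)) q) = true := by decide +kernel

theorem eq37_75 : allR 255825 3411 (fun q => (fun q => Nat.beq (f37 q) (wordR W37 q)) q) = true := by decide +kernel

theorem eq37_76 : allR 259236 3411 (fun q => (fun q => Nat.beq (f37 q) (wordR W37 q)) q) = true := by decide +kernel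

theorem eq37_77 : allR 262647 3411 (fun q => (fun q => Nat.beq (f37 q) (wordR W37 q)) q) = true := by decide +kernel

theorem eq37_78 : allR 266058 3411 (fun q => (fun q => Nat.beq (f37 q) (wordR W37 q)) q) = true := by decide +kernel

theorem eq37_79 : allR 269469 3411 (fun q => (fun q => Nat.beq (f37 q) (wordR W37 q)) q) = true := by decide +kernel


end Cfsg.Agent.Fi24Out
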