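import Cfsg.Agent.Lib.Lead.Fi24Out.D37

/-! # The outer automorphism group of Fi₂₄′: the check of the table number 37, slices (generated) -/

set_option autoImplicit false
set_option Elab.async false
set_option maxRecDepth 100000

namespace Cfsg.Agent.Fi24Out

open Cfsg.Agent.PF Cfsg.Agent.Lib.Helper6 Cfsg.Agent.Lib.Helper6.TC
open Cfsg.Agent.PL (Acts evalF)

theorem eq37_80 : allR 272880 3411 (fun q => (fun q => Nat.beq (f37 q) (wordR W37 q)) q) = true := by decide +kernel

theorem eq37_81 : allR 276291 3411 (fun q => (fun q => Nat.beq (f37 q) (wordR W37 q)) q) = true := by decide +kernel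

theorem eq37_82 : allR 279702 3411 (fun q => (fun q => Nat.beq (f37 q) (wordR W37 q)) q) = true := by decide +kernel

theorem eq37_83 : allR 283113 3411 (fun q => (fun q => Nat.beq (f37 q) (wordR W37 q)) q) = true := by decide +kernel

theorem eq37_84 : allR 286524 3411 (fun q => (fun q => Nat.beq (f37 q) (wordR W37 q)) q) = true := by decide +kernel

theorem eq37_85 : allR 289935 3411 (fun q => (fun q => Nat.beq (f37 q) (wordR W37 q)) q) = true := by decide +kernel

theorem eq37_86 : allR 293346 3411 (fun q => (fun q => Nat.beq (f37 q) (wordR W37 q)) q) = true := by decide +kernel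

theorem eq37_87 : allR 296757 3411 (fun q => (fun q => Nat.beq (f37 q) (wordR W37 q)) q) = true := by decide +kernel

theorem eq37_88 : allR 300168 3411 (fun q => (fun q => Nat.beq (f37 q) (wordR W37 q)) q) = true := by decide +kernel

theorem eq37_89 : allR 303579 3357 (fun q => (fun q => Nat.beq (f37 q) (wordR W37 q)) q) = true := by decide +kernel


end Cfsg.Agent.Fi24Out
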