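import Cfsg.Agent.Lib.Lead.Fi24Out.C37_0
import Cfsg.Agent.Lib.Lead.Fi24Out.C37_1
import Cfsg.Agent.Lib.Lead.Fi24Out.C37_2
import Cfsg.Agent.Lib.Lead.Fi24Out.C37_3
import Cfsg.Agent.Lib.Lead.Fi24Out.C37_4
import Cfsg.Agent.Lib.Lead.Fi24Out.Base0

/-! # The outer automorphism group of Fi₂₄′: the check of the table number 37 (generated) -/

set_option autoImplicit false
set_option maxRecDepth 100000

namespace Cfsg.Agent.Fi24Out

open Cfsg.Agent.PF Cfsg.Agent.Lib.Helper6 Cfsg.Agent.Lib.Helper6.TC
open Cfsg.Agent.PL (Acts evalF)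

theorem eq37_all : ∀ q < 306936, (fun q => Nat.beq (f37 q) (wordR W37 q)) q = true :=
  forall_lt_of_chunks (f := fun q => (fun q => Nat.beq (f37 q) (wordR W37 q)) q) [(0, 3411), (3411, 3411), (6822, 3411), (10233, 3411), (13644, 3411), (17055, 3411), (20466, 3411), (23877, 3411), (27288, 3411), (30699, 3411), (34110, 3411), (37521, 3411), (40932, 3411), (44343, 3411), (47754, 3411), (51165, 3411), (54576, 3411), (57987, 3411), (61398, 3411), (64809, 3411), (68220, 3411), (71631, 3411), (75042, 3411), (78453, 3411), (81864, 3411), (85275, 3411), (88686, 3411), (92097, 3411), (95508, 3411), (98919, 3411), (102330, 3411), (105741, 3411), (109152, 3411), (112563, 3411), (115974, 3411), (119385, 3411), (122796, 3411), (126207, 3411), (129618, 3411), (133029, 3411), (136440, 3411), (139851, 3411), (143262, 3411), (146673, 3411), (150084, 3411), (153495, 3411), (156906, 3411), (160317, 3411), (163728, 3411), (167139, 3411), (170550, 3411), (173961, 3411), (177372, 3411), (180783, 3411), (184194, 3411), (187605, 3411), (191016,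 3411), (194427, 3411), (197838, 3411), (201249, 3411), (204660, 3411), (208071, 3411), (211482, 3411), (214893, 3411), (218304, 3411), (221715, 3411), (225126, 3411), (228537, 3411), (231948, 3411), (235359, 3411), (238770, 3411), (242181, 3411), (245592, 3411), (249003, 3411), (252414, 3411), (255825, 3411), (259236, 3411), (262647, 3411), (266058, 3411), (269469, 3411), (272880, 3411), (276291, 3411), (279702, 3411), (283113, 3411), (286524, 3411), (289935, 3411), (293346, 3411), (296757, 3411), (300168, 3411), (303579, 3357)] (by decide)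
    (all_cons eq37_0 (all_cons eq37_1 (all_cons eq37_2 (all_cons eq37_3 (all_cons eq37_4 (all_cons eq37_5 (all_cons eq37_6 (all_cons eq37_7 (all_cons eq37_8 (all_cons eq37_9 (all_cons eq37_10 (all_cons eq37_11 (all_cons eq37_12 (all_cons eq37_13 (all_cons eq37_14 (all_cons eq37_15 (all_cons eq37_16 (all_cons eq37_17 (all_cons eq37_18 (all_cons eq37_19 (all_cons eq37_20 (all_cons eq37_21 (all_cons eq37_22 (all_cons eq37_23 (all_cons eq37_24 (all_cons eq37_25 (all_cons eq37_26 (all_cons eq37_27 (all_cons eq37_28 (all_cons eq37_29 (all_cons eq37_30 (all_cons eq37_31 (all_cons eq37_32 (all_cons eq37_33 (all_cons eq37_34 (all_cons eq37_35 (all_cons eq37_36 (all_cons eq37_37 (all_cons eq37_38 (all_cons eq37_39 (all_cons eq37_40 (all_cons eq37_41 (all_cons eq37_42 (all_cons eq37_43 (all_cons eq37_44 (all_cons eq37_45 (all_cons eq37_46 (all_cons eq37_47 (all_cons eq37_48 (all_cons eq37_49 (all_cons eq37_50 (all_cons eq37_51 (all_cons eq37_52 (all_cons eq37_53 (all_cons eq37_54 (all_cons eq37_55 (all_cons eq37_56 (all_cons eq37_57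 (all_cons eq37_58 (all_cons eq37_59 (all_cons eq37_60 (all_cons eq37_61 (all_cons eq37_62 (all_cons eq37_63 (all_cons eq37_64 (all_cons eq37_65 (all_cons eq37_66 (all_cons eq37_67 (all_cons eq37_68 (all_cons eq37_69 (all_cons eq37_70 (all_cons eq37_71 (all_cons eq37_72 (all_cons eq37_73 (all_cons eq37_74 (all_cons eq37_75 (all_cons eq37_76 (all_cons eq37_77 (all_cons eq37_78 (all_cons eq37_79 (all_cons eq37_80 (all_cons eq37_81 (all_cons eq37_82 (all_cons eq37_83 (all_cons eq37_84 (all_cons eq37_85 (all_cons eq37_86 (all_cons eq37_87 (all_cons eq37_88 (all_cons eq37_89 all_nil))))))))))))))))))))))))))))))))))))))))))))))))))))))))))))))))))))))))))))))))))))))))))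

/-- the table agrees with the word -/
theorem eq37 : ∀ q < 306936, f37 q = wordR W37 q :=
  fun q hq => Nat.eq_of_beq_eq_true (eq37_all q hq)

end Cfsg.Agent.Fi24Out
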