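import Cfsg.Agent.Lib.Lead.Fi24Out.D37

/-! # The outer automorphism group of Fi₂₄′: the check of the table number 37, slices (generated) -/

set_option autoImplicit false
set_option Elab.async false
set_option maxRecDepth 100000

namespace Cfsg.Agent.Fi24Out

open Cfsg.Agent.PF Cfsg.Agent.Lib.Helper6 Cfsg.Agent.Lib.Helper6.TC
open Cfsg.Agent.PL (Acts evalF)

theorem eq37_0 : allR 0 3411 (fun q => (fun q => Nat.beq (f37 q) (wordR W37 q)) q) = true := by decide +kernel

theorem eq37_1 : allR 3411 3411 (fun q => (fun q => Nat.beq (f37 q) (wordR W37 q)) q) = true := by decide +kernel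

theorem eq37_2 : allR 6822 3411 (fun q => (fun q => Nat.beq (f37 q) (wordR W37 q)) q) = true := by decide +kernel

theorem eq37_3 : allR 10233 3411 (fun q => (fun q => Nat.beq (f37 q) (wordR W37 q)) q) = true := by decide +kernel

theorem eq37_4 : allR 13644 3411 (fun q => (fun q => Nat.beq (f37 q) (wordR W37 q)) q) = true := by decide +kernel

theorem eq37_5 : allR 17055 3411 (fun q => (fun q => Nat.beq (f37 q) (wordR W37 q)) q) = true := by decide +kernel

theorem eq37_6 : allR 20466 3411 (fun q => (fun q => Nat.beq (f37 q) (wordR W37 q)) q) = true := by decide +kernel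

theorem eq37_7 : allR 23877 3411 (fun q => (fun q => Nat.beq (f37 q) (wordR W37 q)) q) = true := by decide +kernel

theorem eq37_8 : allR 27288 3411 (fun q => (fun q => Nat.beq (f37 q) (wordR W37 q)) q) = true := by decide +kernel

theorem eq37_9 : allR 30699 3411 (fun q => (fun q => Nat.beq (f37 q) (wordR W37 q)) q) = true := by decide +kernel

theorem eq37_10 : allR 34110 3411 (fun q => (fun q => Nat.beq (f37 q) (wordR W37 q)) q) = true := by decide +kernel

theorem eq37_11 : allR 37521 3411 (fun q => (fun q => Nat.beq (f37 q) (wordR W37 q)) q) = true := by decide +kernel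

theorem eq37_12 : allR 40932 3411 (fun q => (fun q => Nat.beq (f37 q) (wordR W37 q)) q) = true := by decide +kernel

theorem eq37_13 : allR 44343 3411 (fun q => (fun q => Nat.beq (f37 q) (wordR W37 q)) q) = true := by decide +kernel

theorem eq37_14 : allR 47754 3411 (fun q => (fun q => Nat.beq (f37 q) (wordR W37 q)) q) = true := by decide +kernel

theorem eq37_15 : allR 51165 3411 (fun q => (fun q => Nat.beq (f37 q) (wordR W37 q)) q) = true := by decide +kernel

theorem eq37_16 : allR 54576 3411 (fun q => (fun q => Nat.beq (f37 q) (wordR W37 q)) q) = true := by decide +kernel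

theorem eq37_17 : allR 57987 3411 (fun q => (fun q => Nat.beq (f37 q) (wordR W37 q)) q) = true := by decide +kernel

theorem eq37_18 : allR 61398 3411 (fun q => (fun q => Nat.beq (f37 q) (wordR W37 q)) q) = true := by decide +kernel

theorem eq37_19 : allR 64809 3411 (fun q => (fun q => Nat.beq (f37 q) (wordR W37 q)) q) = true := by decide +kernel


end Cfsg.Agent.Fi24Out
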