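import Cfsg.Agent.Lib.Lead.Fi24Out.D38

/-! # The outer automorphism group of Fi₂₄′: the check of the table number 38, slices (generated) -/

set_option autoImplicit false
set_option Elab.async false
set_option maxRecDepth 100000

namespace Cfsg.Agent.Fi24Out

open Cfsg.Agent.PF Cfsg.Agent.Lib.Helper6 Cfsg.Agent.Lib.Helper6.TC
open Cfsg.Agent.PL (Acts evalF)

theorem eq38_20 : allR 76740 3837 (fun q => (fun q => Nat.beq (f38 q) (wordR W38 q)) q) = true := by decide +kernel

theorem eq38_21 : allR 80577 3837 (fun q => (fun q => Nat.beq (f38 q) (wordR W38 q)) q) = true := by decide +kernel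

theorem eq38_22 : allR 84414 3837 (fun q => (fun q => Nat.beq (f38 q) (wordR W38 q)) q) = true := by decide +kernel

theorem eq38_23 : allR 88251 3837 (fun q => (fun q => Nat.beq (f38 q) (wordR W38 q)) q) = true := by decide +kernel

theorem eq38_24 : allR 92088 3837 (fun q => (fun q => Nat.beq (f38 q) (wordR W38 q)) q) = true := by decide +kernel

theorem eq38_25 : allR 95925 3837 (fun q => (fun q => Nat.beq (f38 q) (wordR W38 q)) q) = true := by decide +kernel

theorem eq38_26 : allR 99762 3837 (fun q => (fun q => Nat.beq (f38 q) (wordR W38 q)) q) = true := by decide +kernel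

theorem eq38_27 : allR 103599 3837 (fun q => (fun q => Nat.beq (f38 q) (wordR W38 q)) q) = true := by decide +kernel

theorem eq38_28 : allR 107436 3837 (fun q => (fun q => Nat.beq (f38 q) (wordR W38 q)) q) = true := by decide +kernel

theorem eq38_29 : allR 111273 3837 (fun q => (fun q => Nat.beq (f38 q) (wordR W38 q)) q) = true := by decide +kernel

theorem eq38_30 : allR 115110 3837 (fun q => (fun q => Nat.beq (f38 q) (wordR W38 q)) q) = true := by decide +kernel

theorem eq38_31 : allR 118947 3837 (fun q => (fun q => Nat.beq (f38 q) (wordR W38 q)) q) = true := by decide +kernel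

theorem eq38_32 : allR 122784 3837 (fun q => (fun q => Nat.beq (f38 q) (wordR W38 q)) q) = true := by decide +kernel

theorem eq38_33 : allR 126621 3837 (fun q => (fun q => Nat.beq (f38 q) (wordR W38 q)) q) = true := by decide +kernel

theorem eq38_34 : allR 130458 3837 (fun q => (fun q => Nat.beq (f38 q) (wordR W38 q)) q) = true := by decide +kernel

theorem eq38_35 : allR 134295 3837 (fun q => (fun q => Nat.beq (f38 q) (wordR W38 q)) q) = true := by decide +kernel

theorem eq38_36 : allR 138132 3837 (fun q => (fun q => Nat.beq (f38 q) (wordR W38 q)) q) = true := by decide +kernel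

theorem eq38_37 : allR 141969 3837 (fun q => (fun q => Nat.beq (f38 q) (wordR W38 q)) q) = true := by decide +kernel

theorem eq38_38 : allR 145806 3837 (fun q => (fun q => Nat.beq (f38 q) (wordR W38 q)) q) = true := by decide +kernel

theorem eq38_39 : allR 149643 3837 (fun q => (fun q => Nat.beq (f38 q) (wordR W38 q)) q) = true := by decide +kernel


end Cfsg.Agent.Fi24Out
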