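import Cfsg.Agent.Lib.Lead.Fi24Out.D38

/-! # The outer automorphism group of Fi₂₄′: the check of the table number 38, slices (generated) -/

set_option autoImplicit false
set_option Elab.async false
set_option maxRecDepth 100000

namespace Cfsg.Agent.Fi24Out

open Cfsg.Agent.PF Cfsg.Agent.Lib.Helper6 Cfsg.Agent.Lib.Helper6.TC
open Cfsg.Agent.PL (Acts evalF)

theorem eq38_40 : allR 153480 3837 (fun q => (fun q => Nat.beq (f38 q) (wordR W38 q)) q) = true := by decide +kernel

theorem eq38_41 : allR 157317 3837 (fun q => (fun q => Nat.beq (f38 q) (wordR W38 q)) q) = true := by decide +kernel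

theorem eq38_42 : allR 161154 3837 (fun q => (fun q => Nat.beq (f38 q) (wordR W38 q)) q) = true := by decide +kernel

theorem eq38_43 : allR 164991 3837 (fun q => (fun q => Nat.beq (f38 q) (wordR W38 q)) q) = true := by decide +kernel

theorem eq38_44 : allR 168828 3837 (fun q => (fun q => Nat.beq (f38 q) (wordR W38 q)) q) = true := by decide +kernel

theorem eq38_45 : allR 172665 3837 (fun q => (fun q => Nat.beq (f38 q) (wordR W38 q)) q) = true := by decide +kernel

theorem eq38_46 : allR 176502 3837 (fun q => (fun q => Nat.beq (f38 q) (wordR W38 q)) q) = true := by decide +kernel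

theorem eq38_47 : allR 180339 3837 (fun q => (fun q => Nat.beq (f38 q) (wordR W38 q)) q) = true := by decide +kernel

theorem eq38_48 : allR 184176 3837 (fun q => (fun q => Nat.beq (f38 q) (wordR W38 q)) q) = true := by decide +kernel

theorem eq38_49 : allR 188013 3837 (fun q => (fun q => Nat.beq (f38 q) (wordR W38 q)) q) = true := by decide +kernel

theorem eq38_50 : allR 191850 3837 (fun q => (fun q => Nat.beq (f38 q) (wordR W38 q)) q) = true := by decide +kernel

theorem eq38_51 : allR 195687 3837 (fun q => (fun q => Nat.beq (f38 q) (wordR W38 q)) q) = true := by decide +kernel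

theorem eq38_52 : allR 199524 3837 (fun q => (fun q => Nat.beq (f38 q) (wordR W38 q)) q) = true := by decide +kernel

theorem eq38_53 : allR 203361 3837 (fun q => (fun q => Nat.beq (f38 q) (wordR W38 q)) q) = true := by decide +kernel

theorem eq38_54 : allR 207198 3837 (fun q => (fun q => Nat.beq (f38 q) (wordR W38 q)) q) = true := by decide +kernel

theorem eq38_55 : allR 211035 3837 (fun q => (fun q => Nat.beq (f38 q) (wordR W38 q)) q) = true := by decide +kernel

theorem eq38_56 : allR 214872 3837 (fun q => (fun q => Nat.beq (f38 q) (wordR W38 q)) q) = true := by decide +kernel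

theorem eq38_57 : allR 218709 3837 (fun q => (fun q => Nat.beq (f38 q) (wordR W38 q)) q) = true := by decide +kernel

theorem eq38_58 : allR 222546 3837 (fun q => (fun q => Nat.beq (f38 q) (wordR W38 q)) q) = true := by decide +kernel

theorem eq38_59 : allR 226383 3837 (fun q => (fun q => Nat.beq (f38 q) (wordR W38 q)) q) = true := by decide +kernel


end Cfsg.Agent.Fi24Out
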