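import Cfsg.Agent.Lib.Lead.Fi24Out.D38

/-! # The outer automorphism group of Fi₂₄′: the check of the table number 38, slices (generated) -/

set_option autoImplicit false
set_option Elab.async false
set_option maxRecDepth 100000

namespace Cfsg.Agent.Fi24Out

open Cfsg.Agent.PF Cfsg.Agent.Lib.Helper6 Cfsg.Agent.Lib.Helper6.TC
open Cfsg.Agent.PL (Acts evalF)

theorem eq38_60 : allR 230220 3837 (fun q => (fun q => Nat.beq (f38 q) (wordR W38 q)) q) = true := by decide +kernel

theorem eq38_61 : allR 234057 3837 (fun q => (fun q => Nat.beq (f38 q) (wordR W38 q)) q) = true := by decide +kernel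

theorem eq38_62 : allR 237894 3837 (fun q => (fun q => Nat.beq (f38 q) (wordR W38 q)) q) = true := by decide +kernel

theorem eq38_63 : allR 241731 3837 (fun q => (fun q => Nat.beq (f38 q) (wordR W38 q)) q) = true := by decide +kernel

theorem eq38_64 : allR 245568 3837 (fun q => (fun q => Nat.beq (f38 q) (wordR W38 q)) q) = true := by decide +kernel

theorem eq38_65 : allR 249405 3837 (fun q => (fun q => Nat.beq (f38 q) (wordR W38 q)) q) = true := by decide +kernel

theorem eq38_66 : allR 253242 3837 (fun q => (fun q => Nat.beq (f38 q) (wordR W38 q)) q) = true := by decide +kernel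

theorem eq38_67 : allR 257079 3837 (fun q => (fun q => Nat.beq (f38 q) (wordR W38 q)) q) = true := by decide +kernel

theorem eq38_68 : allR 260916 3837 (fun q => (fun q => Nat.beq (f38 q) (wordR W38 q)) q) = true := by decide +kernel

theorem eq38_69 : allR 264753 3837 (fun q => (fun q => Nat.beq (f38 q) (wordR W38 q)) q) = true := by decide +kernel

theorem eq38_70 : allR 268590 3837 (fun q => (fun q => Nat.beq (f38 q) (wordR W38 q)) q) = true := by decide +kernel

theorem eq38_71 : allR 272427 3837 (fun q => (fun q => Nat.beq (f38 q) (wordR W38 q)) q) = true := by decide +kernel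

theorem eq38_72 : allR 276264 3837 (fun q => (fun q => Nat.beq (f38 q) (wordR W38 q)) q) = true := by decide +kernel

theorem eq38_73 : allR 280101 3837 (fun q => (fun q => Nat.beq (f38 q) (wordR W38 q)) q) = true := by decide +kernel

theorem eq38_74 : allR 283938 3837 (fun q => (fun q => Nat.beq (f38 q) (wordR W38 q)) q) = true := by decide +kernel

theorem eq38_75 : allR 287775 3837 (fun q => (fun q => Nat.beq (f38 q) (wordR W38 q)) q) = true := by decide +kernel

theorem eq38_76 : allR 291612 3837 (fun q => (fun q => Nat.beq (f38 q) (wordR W38 q)) q) = true := by decide +kernel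

theorem eq38_77 : allR 295449 3837 (fun q => (fun q => Nat.beq (f38 q) (wordR W38 q)) q) = true := by decide +kernel

theorem eq38_78 : allR 299286 3837 (fun q => (fun q => Nat.beq (f38 q) (wordR W38 q)) q) = true := by decide +kernel

theorem eq38_79 : allR 303123 3813 (fun q => (fun q => Nat.beq (f38 q) (wordR W38 q)) q) = true := by decide +kernel


end Cfsg.Agent.Fi24Out
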