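import Cfsg.Agent.Lib.Lead.Fi24Out.C38_0
import Cfsg.Agent.Lib.Lead.Fi24Out.C38_1
import Cfsg.Agent.Lib.Lead.Fi24Out.C38_2
import Cfsg.Agent.Lib.Lead.Fi24Out.C38_3
import Cfsg.Agent.Lib.Lead.Fi24Out.Base0

/-! # The outer automorphism group of Fi₂₄′: the check of the table number 38 (generated) -/

set_option autoImplicit false
set_option maxRecDepth 100000

namespace Cfsg.Agent.Fi24Out

open Cfsg.Agent.PF Cfsg.Agent.Lib.Helper6 Cfsg.Agent.Lib.Helper6.TC
open Cfsg.Agent.PL (Acts evalF)

theorem eq38_all : ∀ q < 306936, (fun q => Nat.beq (f38 q) (wordR W38 q)) q = true :=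
  forall_lt_of_chunks (f := fun q => (fun q => Nat.beq (f38 q) (wordR W38 q)) q) [(0, 3837), (3837, 3837), (7674, 3837), (11511, 3837), (15348, 3837), (19185, 3837), (23022, 3837), (26859, 3837), (30696, 3837), (34533, 3837), (38370, 3837), (42207, 3837), (46044, 3837), (49881, 3837), (53718, 3837), (57555, 3837), (61392, 3837), (65229, 3837), (69066, 3837), (72903, 3837), (76740, 3837), (80577, 3837), (84414, 3837), (88251, 3837), (92088, 3837), (95925, 3837), (99762, 3837), (103599, 3837), (107436, 3837), (111273, 3837), (115110, 3837), (118947, 3837), (122784, 3837), (126621, 3837), (130458, 3837), (134295, 3837), (138132, 3837), (141969, 3837), (145806, 3837), (149643, 3837), (153480, 3837), (157317, 3837), (161154, 3837), (164991, 3837), (168828, 3837), (172665, 3837), (176502, 3837), (180339, 3837), (184176, 3837), (188013, 3837), (191850, 3837), (195687, 3837), (199524, 3837), (203361, 3837), (207198, 3837), (211035, 3837), (214872, 3837), (218709, 3837), (222546, 3837), (226383, 3837), (230220, 3837), (234057, 3837),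 (237894, 3837), (241731, 3837), (245568, 3837), (249405, 3837), (253242, 3837), (257079, 3837), (260916, 3837), (264753, 3837), (268590, 3837), (272427, 3837), (276264, 3837), (280101, 3837), (283938, 3837), (287775, 3837), (291612, 3837), (295449, 3837), (299286, 3837), (303123, 3813)] (by decide)
    (all_cons eq38_0 (all_cons eq38_1 (all_cons eq38_2 (all_cons eq38_3 (all_cons eq38_4 (all_cons eq38_5 (all_cons eq38_6 (all_cons eq38_7 (all_cons eq38_8 (all_cons eq38_9 (all_cons eq38_10 (all_cons eq38_11 (all_cons eq38_12 (all_cons eq38_13 (all_cons eq38_14 (all_cons eq38_15 (all_cons eq38_16 (all_cons eq38_17 (all_cons eq38_18 (all_cons eq38_19 (all_cons eq38_20 (all_cons eq38_21 (all_cons eq38_22 (all_cons eq38_23 (all_cons eq38_24 (all_cons eq38_25 (all_cons eq38_26 (all_cons eq38_27 (all_cons eq38_28 (all_cons eq38_29 (all_cons eq38_30 (all_cons eq38_31 (all_cons eq38_32 (all_cons eq38_33 (all_cons eq38_34 (all_cons eq38_35 (all_cons eq38_36 (all_cons eq38_37 (all_cons eq38_38 (all_cons eq38_39 (all_cons eq38_40 (all_cons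 eq38_41 (all_cons eq38_42 (all_cons eq38_43 (all_cons eq38_44 (all_cons eq38_45 (all_cons eq38_46 (all_cons eq38_47 (all_cons eq38_48 (all_cons eq38_49 (all_cons eq38_50 (all_cons eq38_51 (all_cons eq38_52 (all_cons eq38_53 (all_cons eq38_54 (all_cons eq38_55 (all_cons eq38_56 (all_cons eq38_57 (all_cons eq38_58 (all_cons eq38_59 (all_cons eq38_60 (all_cons eq38_61 (all_cons eq38_62 (all_cons eq38_63 (all_cons eq38_64 (all_cons eq38_65 (all_cons eq38_66 (all_cons eq38_67 (all_cons eq38_68 (all_cons eq38_69 (all_cons eq38_70 (all_cons eq38_71 (all_cons eq38_72 (all_cons eq38_73 (all_cons eq38_74 (all_cons eq38_75 (all_cons eq38_76 (all_cons eq38_77 (all_cons eq38_78 (all_cons eq38_79 all_nil))))))))))))))))))))))))))))))))))))))))))))))))))))))))))))))))))))))))))))))))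

/-- the table agrees with the word -/
theorem eq38 : ∀ q < 306936, f38 q = wordR W38 q :=
  fun q hq => Nat.eq_of_beq_eq_true (eq38_all q hq)

end Cfsg.Agent.Fi24Out
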