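import Cfsg.Agent.Lib.Lead.Fi24Out.D38

/-! # The outer automorphism group of Fi₂₄′: the check of the table number 38, slices (generated) -/

set_option autoImplicit false
set_option Elab.async false
set_option maxRecDepth 100000

namespace Cfsg.Agent.Fi24Out

open Cfsg.Agent.PF Cfsg.Agent.Lib.Helper6 Cfsg.Agent.Lib.Helper6.TC
open Cfsg.Agent.PL (Acts evalF)

theorem eq38_0 : allR 0 3837 (fun q => (fun q => Nat.beq (f38 q) (wordR W38 q)) q) = true := by decide +kernel

theorem eq38_1 : allR 3837 3837 (fun q => (fun q => Nat.beq (f38 q) (wordR W38 q)) q) = true := by decide +kernel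

theorem eq38_2 : allR 7674 3837 (fun q => (fun q => Nat.beq (f38 q) (wordR W38 q)) q) = true := by decide +kernel

theorem eq38_3 : allR 11511 3837 (fun q => (fun q => Nat.beq (f38 q) (wordR W38 q)) q) = true := by decide +kernel

theorem eq38_4 : allR 15348 3837 (fun q => (fun q => Nat.beq (f38 q) (wordR W38 q)) q) = true := by decide +kernel

theorem eq38_5 : allR 19185 3837 (fun q => (fun q => Nat.beq (f38 q) (wordR W38 q)) q) = true := by decide +kernel

theorem eq38_6 : allR 23022 3837 (fun q => (fun q => Nat.beq (f38 q) (wordR W38 q)) q) = true := by decide +kernel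

theorem eq38_7 : allR 26859 3837 (fun q => (fun q => Nat.beq (f38 q) (wordR W38 q)) q) = true := by decide +kernel

theorem eq38_8 : allR 30696 3837 (fun q => (fun q => Nat.beq (f38 q) (wordR W38 q)) q) = true := by decide +kernel

theorem eq38_9 : allR 34533 3837 (fun q => (fun q => Nat.beq (f38 q) (wordR W38 q)) q) = true := by decide +kernel

theorem eq38_10 : allR 38370 3837 (fun q => (fun q => Nat.beq (f38 q) (wordR W38 q)) q) = true := by decide +kernel

theorem eq38_11 : allR 42207 3837 (fun q => (fun q => Nat.beq (f38 q) (wordR W38 q)) q) = true := by decide +kernel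

theorem eq38_12 : allR 46044 3837 (fun q => (fun q => Nat.beq (f38 q) (wordR W38 q)) q) = true := by decide +kernel

theorem eq38_13 : allR 49881 3837 (fun q => (fun q => Nat.beq (f38 q) (wordR W38 q)) q) = true := by decide +kernel

theorem eq38_14 : allR 53718 3837 (fun q => (fun q => Nat.beq (f38 q) (wordR W38 q)) q) = true := by decide +kernel

theorem eq38_15 : allR 57555 3837 (fun q => (fun q => Nat.beq (f38 q) (wordR W38 q)) q) = true := by decide +kernel

theorem eq38_16 : allR 61392 3837 (fun q => (fun q => Nat.beq (f38 q) (wordR W38 q)) q) = true := by decide +kernel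

theorem eq38_17 : allR 65229 3837 (fun q => (fun q => Nat.beq (f38 q) (wordR W38 q)) q) = true := by decide +kernel

theorem eq38_18 : allR 69066 3837 (fun q => (fun q => Nat.beq (f38 q) (wordR W38 q)) q) = true := by decide +kernel

theorem eq38_19 : allR 72903 3837 (fun q => (fun q => Nat.beq (f38 q) (wordR W38 q)) q) = true := by decide +kernel


end Cfsg.Agent.Fi24Out
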