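import Cfsg.Agent.Lib.Lead.Fi24Out.D39

/-! # The outer automorphism group of Fi₂₄′: the check of the table number 39, slices (generated) -/

set_option autoImplicit false
set_option Elab.async false
set_option maxRecDepth 100000

namespace Cfsg.Agent.Fi24Out

open Cfsg.Agent.PF Cfsg.Agent.Lib.Helper6 Cfsg.Agent.Lib.Helper6.TC
open Cfsg.Agent.PL (Acts evalF)

theorem eq39_20 : allR 94460 4723 (fun q => (fun q => Nat.beq (f39 q) (wordR W39 q)) q) = true := by decide +kernel

theorem eq39_21 : allR 99183 4723 (fun q => (fun q => Nat.beq (f39 q) (wordR W39 q)) q) = true := by decide +kernel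

theorem eq39_22 : allR 103906 4723 (fun q => (fun q => Nat.beq (f39 q) (wordR W39 q)) q) = true := by decide +kernel

theorem eq39_23 : allR 108629 4723 (fun q => (fun q => Nat.beq (f39 q) (wordR W39 q)) q) = true := by decide +kernel

theorem eq39_24 : allR 113352 4723 (fun q => (fun q => Nat.beq (f39 q) (wordR W39 q)) q) = true := by decide +kernel

theorem eq39_25 : allR 118075 4723 (fun q => (fun q => Nat.beq (f39 q) (wordR W39 q)) q) = true := by decide +kernel

theorem eq39_26 : allR 122798 4723 (fun q => (fun q => Nat.beq (f39 q) (wordR W39 q)) q) = true := by decide +kernel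

theorem eq39_27 : allR 127521 4723 (fun q => (fun q => Nat.beq (f39 q) (wordR W39 q)) q) = true := by decide +kernel

theorem eq39_28 : allR 132244 4723 (fun q => (fun q => Nat.beq (f39 q) (wordR W39 q)) q) = true := by decide +kernel

theorem eq39_29 : allR 136967 4723 (fun q => (fun q => Nat.beq (f39 q) (wordR W39 q)) q) = true := by decide +kernel

theorem eq39_30 : allR 141690 4723 (fun q => (fun q => Nat.beq (f39 q) (wordR W39 q)) q) = true := by decide +kernel

theorem eq39_31 : allR 146413 4723 (fun q => (fun q => Nat.beq (f39 q) (wordR W39 q)) q) = true := by decide +kernel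

theorem eq39_32 : allR 151136 4723 (fun q => (fun q => Nat.beq (f39 q) (wordR W39 q)) q) = true := by decide +kernel

theorem eq39_33 : allR 155859 4723 (fun q => (fun q => Nat.beq (f39 q) (wordR W39 q)) q) = true := by decide +kernel

theorem eq39_34 : allR 160582 4723 (fun q => (fun q => Nat.beq (f39 q) (wordR W39 q)) q) = true := by decide +kernel

theorem eq39_35 : allR 165305 4723 (fun q => (fun q => Nat.beq (f39 q) (wordR W39 q)) q) = true := by decide +kernel

theorem eq39_36 : allR 170028 4723 (fun q => (fun q => Nat.beq (f39 q) (wordR W39 q)) q) = true := by decide +kernel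

theorem eq39_37 : allR 174751 4723 (fun q => (fun q => Nat.beq (f39 q) (wordR W39 q)) q) = true := by decide +kernel

theorem eq39_38 : allR 179474 4723 (fun q => (fun q => Nat.beq (f39 q) (wordR W39 q)) q) = true := by decide +kernel

theorem eq39_39 : allR 184197 4723 (fun q => (fun q => Nat.beq (f39 q) (wordR W39 q)) q) = true := by decide +kernel


end Cfsg.Agent.Fi24Out
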