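import Cfsg.Agent.Lib.Lead.Fi24Out.D39

/-! # The outer automorphism group of Fi₂₄′: the check of the table number 39, slices (generated) -/

set_option autoImplicit false
set_option Elab.async false
set_option maxRecDepth 100000

namespace Cfsg.Agent.Fi24Out

open Cfsg.Agent.PF Cfsg.Agent.Lib.Helper6 Cfsg.Agent.Lib.Helper6.TC
open Cfsg.Agent.PL (Acts evalF)

theorem eq39_40 : allR 188920 4723 (fun q => (fun q => Nat.beq (f39 q) (wordR W39 q)) q) = true := by decide +kernel

theorem eq39_41 : allR 193643 4723 (fun q => (fun q => Nat.beq (f39 q) (wordR W39 q)) q) = true := by decide +kernel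

theorem eq39_42 : allR 198366 4723 (fun q => (fun q => Nat.beq (f39 q) (wordR W39 q)) q) = true := by decide +kernel

theorem eq39_43 : allR 203089 4723 (fun q => (fun q => Nat.beq (f39 q) (wordR W39 q)) q) = true := by decide +kernel

theorem eq39_44 : allR 207812 4723 (fun q => (fun q => Nat.beq (f39 q) (wordR W39 q)) q) = true := by decide +kernel

theorem eq39_45 : allR 212535 4723 (fun q => (fun q => Nat.beq (f39 q) (wordR W39 q)) q) = true := by decide +kernel

theorem eq39_46 : allR 217258 4723 (fun q => (fun q => Nat.beq (f39 q) (wordR W39 q)) q) = true := by decide +kernel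

theorem eq39_47 : allR 221981 4723 (fun q => (fun q => Nat.beq (f39 q) (wordR W39 q)) q) = true := by decide +kernel

theorem eq39_48 : allR 226704 4723 (fun q => (fun q => Nat.beq (f39 q) (wordR W39 q)) q) = true := by decide +kernel

theorem eq39_49 : allR 231427 4723 (fun q => (fun q => Nat.beq (f39 q) (wordR W39 q)) q) = true := by decide +kernel

theorem eq39_50 : allR 236150 4723 (fun q => (fun q => Nat.beq (f39 q) (wordR W39 q)) q) = true := by decide +kernel

theorem eq39_51 : allR 240873 4723 (fun q => (fun q => Nat.beq (f39 q) (wordR W39 q)) q) = true := by decide +kernel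

theorem eq39_52 : allR 245596 4723 (fun q => (fun q => Nat.beq (f39 q) (wordR W39 q)) q) = true := by decide +kernel

theorem eq39_53 : allR 250319 4723 (fun q => (fun q => Nat.beq (f39 q) (wordR W39 q)) q) = true := by decide +kernel

theorem eq39_54 : allR 255042 4723 (fun q => (fun q => Nat.beq (f39 q) (wordR W39 q)) q) = true := by decide +kernel

theorem eq39_55 : allR 259765 4723 (fun q => (fun q => Nat.beq (f39 q) (wordR W39 q)) q) = true := by decide +kernel

theorem eq39_56 : allR 264488 4723 (fun q => (fun q => Nat.beq (f39 q) (wordR W39 q)) q) = true := by decide +kernel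

theorem eq39_57 : allR 269211 4723 (fun q => (fun q => Nat.beq (f39 q) (wordR W39 q)) q) = true := by decide +kernel

theorem eq39_58 : allR 273934 4723 (fun q => (fun q => Nat.beq (f39 q) (wordR W39 q)) q) = true := by decide +kernel

theorem eq39_59 : allR 278657 4723 (fun q => (fun q => Nat.beq (f39 q) (wordR W39 q)) q) = true := by decide +kernel


end Cfsg.Agent.Fi24Out
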