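import Cfsg.Agent.Lib.Lead.Fi24Out.C39_0
import Cfsg.Agent.Lib.Lead.Fi24Out.C39_1
import Cfsg.Agent.Lib.Lead.Fi24Out.C39_2
import Cfsg.Agent.Lib.Lead.Fi24Out.C39_3
import Cfsg.Agent.Lib.Lead.Fi24Out.Base0

/-! # The outer automorphism group of Fi₂₄′: the check of the table number 39 (generated) -/

set_option autoImplicit false
set_option maxRecDepth 100000

namespace Cfsg.Agent.Fi24Out

open Cfsg.Agent.PF Cfsg.Agent.Lib.Helper6 Cfsg.Agent.Lib.Helper6.TC
open Cfsg.Agent.PL (Acts evalF)

theorem eq39_all : ∀ q < 306936, (fun q => Nat.beq (f39 q) (wordR W39 q)) q = true :=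
  forall_lt_of_chunks (f := fun q => (fun q => Nat.beq (f39 q) (wordR W39 q)) q) [(0, 4723), (4723, 4723), (9446, 4723), (14169, 4723), (18892, 4723), (23615, 4723), (28338, 4723), (33061, 4723), (37784, 4723), (42507, 4723), (47230, 4723), (51953, 4723), (56676, 4723), (61399, 4723), (66122, 4723), (70845, 4723), (75568, 4723), (80291, 4723), (85014, 4723), (89737, 4723), (94460, 4723), (99183, 4723), (103906, 4723), (108629, 4723), (113352, 4723), (118075, 4723), (122798, 4723), (127521, 4723), (132244, 4723), (136967, 4723), (141690, 4723), (146413, 4723), (151136, 4723), (155859, 4723), (160582, 4723), (165305, 4723), (170028, 4723), (174751, 4723), (179474, 4723), (184197, 4723), (188920, 4723), (193643, 4723), (198366, 4723), (203089, 4723), (207812, 4723), (212535, 4723), (217258, 4723), (221981, 4723), (226704, 4723), (231427, 4723), (236150, 4723), (240873, 4723), (245596, 4723), (250319, 4723), (255042, 4723), (259765, 4723), (264488, 4723), (269211, 4723), (273934, 4723), (278657, 4723), (283380, 4723), (288103,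 4723), (292826, 4723), (297549, 4723), (302272, 4664)] (by decide)
    (all_cons eq39_0 (all_cons eq39_1 (all_cons eq39_2 (all_cons eq39_3 (all_cons eq39_4 (all_cons eq39_5 (all_cons eq39_6 (all_cons eq39_7 (all_cons eq39_8 (all_cons eq39_9 (all_cons eq39_10 (all_cons eq39_11 (all_cons eq39_12 (all_cons eq39_13 (all_cons eq39_14 (all_cons eq39_15 (all_cons eq39_16 (all_cons eq39_17 (all_cons eq39_18 (all_cons eq39_19 (all_cons eq39_20 (all_cons eq39_21 (all_cons eq39_22 (all_cons eq39_23 (all_cons eq39_24 (all_cons eq39_25 (all_cons eq39_26 (all_cons eq39_27 (all_cons eq39_28 (all_cons eq39_29 (all_cons eq39_30 (all_cons eq39_31 (all_cons eq39_32 (all_cons eq39_33 (all_cons eq39_34 (all_cons eq39_35 (all_cons eq39_36 (all_cons eq39_37 (all_cons eq39_38 (all_cons eq39_39 (all_cons eq39_40 (all_cons eq39_41 (all_cons eq39_42 (all_cons eq39_43 (all_cons eq39_44 (all_cons eq39_45 (all_cons eq39_46 (all_cons eq39_47 (all_cons eq39_48 (all_cons eq39_49 (all_cons eq39_50 (all_cons eq39_51 (all_cons eq39_52 (all_cons eq39_53 (all_cons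 eq39_54 (all_cons eq39_55 (all_cons eq39_56 (all_cons eq39_57 (all_cons eq39_58 (all_cons eq39_59 (all_cons eq39_60 (all_cons eq39_61 (all_cons eq39_62 (all_cons eq39_63 (all_cons eq39_64 all_nil)))))))))))))))))))))))))))))))))))))))))))))))))))))))))))))))))

/-- the table agrees with the word -/
theorem eq39 : ∀ q < 306936, f39 q = wordR W39 q :=
  fun q hq => Nat.eq_of_beq_eq_true (eq39_all q hq)

end Cfsg.Agent.Fi24Out
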