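import Cfsg.Agent.Lib.Lead.Fi24Out.D39

/-! # The outer automorphism group of Fi₂₄′: the check of the table number 39, slices (generated) -/

set_option autoImplicit false
set_option Elab.async false
set_option maxRecDepth 100000

namespace Cfsg.Agent.Fi24Out

open Cfsg.Agent.PF Cfsg.Agent.Lib.Helper6 Cfsg.Agent.Lib.Helper6.TC
open Cfsg.Agent.PL (Acts evalF)

theorem eq39_0 : allR 0 4723 (fun q => (fun q => Nat.beq (f39 q) (wordR W39 q)) q) = true := by decide +kernel

theorem eq39_1 : allR 4723 4723 (fun q => (fun q => Nat.beq (f39 q) (wordR W39 q)) q) = true := by decide +kernel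

theorem eq39_2 : allR 9446 4723 (fun q => (fun q => Nat.beq (f39 q) (wordR W39 q)) q) = true := by decide +kernel

theorem eq39_3 : allR 14169 4723 (fun q => (fun q => Nat.beq (f39 q) (wordR W39 q)) q) = true := by decide +kernel

theorem eq39_4 : allR 18892 4723 (fun q => (fun q => Nat.beq (f39 q) (wordR W39 q)) q) = true := by decide +kernel

theorem eq39_5 : allR 23615 4723 (fun q => (fun q => Nat.beq (f39 q) (wordR W39 q)) q) = true := by decide +kernel

theorem eq39_6 : allR 28338 4723 (fun q => (fun q => Nat.beq (f39 q) (wordR W39 q)) q) = true := by decide +kernel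

theorem eq39_7 : allR 33061 4723 (fun q => (fun q => Nat.beq (f39 q) (wordR W39 q)) q) = true := by decide +kernel

theorem eq39_8 : allR 37784 4723 (fun q => (fun q => Nat.beq (f39 q) (wordR W39 q)) q) = true := by decide +kernel

theorem eq39_9 : allR 42507 4723 (fun q => (fun q => Nat.beq (f39 q) (wordR W39 q)) q) = true := by decide +kernel

theorem eq39_10 : allR 47230 4723 (fun q => (fun q => Nat.beq (f39 q) (wordR W39 q)) q) = true := by decide +kernel

theorem eq39_11 : allR 51953 4723 (fun q => (fun q => Nat.beq (f39 q) (wordR W39 q)) q) = true := by decide +kernel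

theorem eq39_12 : allR 56676 4723 (fun q => (fun q => Nat.beq (f39 q) (wordR W39 q)) q) = true := by decide +kernel

theorem eq39_13 : allR 61399 4723 (fun q => (fun q => Nat.beq (f39 q) (wordR W39 q)) q) = true := by decide +kernel

theorem eq39_14 : allR 66122 4723 (fun q => (fun q => Nat.beq (f39 q) (wordR W39 q)) q) = true := by decide +kernel

theorem eq39_15 : allR 70845 4723 (fun q => (fun q => Nat.beq (f39 q) (wordR W39 q)) q) = true := by decide +kernel

theorem eq39_16 : allR 75568 4723 (fun q => (fun q => Nat.beq (f39 q) (wordR W39 q)) q) = true := by decide +kernel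

theorem eq39_17 : allR 80291 4723 (fun q => (fun q => Nat.beq (f39 q) (wordR W39 q)) q) = true := by decide +kernel

theorem eq39_18 : allR 85014 4723 (fun q => (fun q => Nat.beq (f39 q) (wordR W39 q)) q) = true := by decide +kernel

theorem eq39_19 : allR 89737 4723 (fun q => (fun q => Nat.beq (f39 q) (wordR W39 q)) q) = true := by decide +kernel


end Cfsg.Agent.Fi24Out
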