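import Cfsg.Agent.Lib.Lead.Fi24Out.D3

/-! # The outer automorphism group of Fi₂₄′: the check of the table number 3, slices (generated) -/

set_option autoImplicit false
set_option Elab.async false
set_option maxRecDepth 100000

namespace Cfsg.Agent.Fi24Out

open Cfsg.Agent.PF Cfsg.Agent.Lib.Helper6 Cfsg.Agent.Lib.Helper6.TC
open Cfsg.Agent.PL (Acts evalF)

theorem eq3_0 : allR 0 8296 (fun q => (fun q => Nat.beq (f3 q) (fa 4 q)) q) = true := by decide +kernel

theorem eq3_1 : allR 8296 8296 (fun q => (fun q => Nat.beq (f3 q) (fa 4 q)) q) = true := by decide +kernel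

theorem eq3_2 : allR 16592 8296 (fun q => (fun q => Nat.beq (f3 q) (fa 4 q)) q) = true := by decide +kernel

theorem eq3_3 : allR 24888 8296 (fun q => (fun q => Nat.beq (f3 q) (fa 4 q)) q) = true := by decide +kernel

theorem eq3_4 : allR 33184 8296 (fun q => (fun q => Nat.beq (f3 q) (fa 4 q)) q) = true := by decide +kernel

theorem eq3_5 : allR 41480 8296 (fun q => (fun q => Nat.beq (f3 q) (fa 4 q)) q) = true := by decide +kernel

theorem eq3_6 : allR 49776 8296 (fun q => (fun q => Nat.beq (f3 q) (fa 4 q)) q) = true := by decide +kernel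

theorem eq3_7 : allR 58072 8296 (fun q => (fun q => Nat.beq (f3 q) (fa 4 q)) q) = true := by decide +kernel

theorem eq3_8 : allR 66368 8296 (fun q => (fun q => Nat.beq (f3 q) (fa 4 q)) q) = true := by decide +kernel

theorem eq3_9 : allR 74664 8296 (fun q => (fun q => Nat.beq (f3 q) (fa 4 q)) q) = true := by decide +kernel

theorem eq3_10 : allR 82960 8296 (fun q => (fun q => Nat.beq (f3 q) (fa 4 q)) q) = true := by decide +kernel

theorem eq3_11 : allR 91256 8296 (fun q => (fun q => Nat.beq (f3 q) (fa 4 q)) q) = true := by decide +kernel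

theorem eq3_12 : allR 99552 8296 (fun q => (fun q => Nat.beq (f3 q) (fa 4 q)) q) = true := by decide +kernel

theorem eq3_13 : allR 107848 8296 (fun q => (fun q => Nat.beq (f3 q) (fa 4 q)) q) = true := by decide +kernel

theorem eq3_14 : allR 116144 8296 (fun q => (fun q => Nat.beq (f3 q) (fa 4 q)) q) = true := by decide +kernel

theorem eq3_15 : allR 124440 8296 (fun q => (fun q => Nat.beq (f3 q) (fa 4 q)) q) = true := by decide +kernel

theorem eq3_16 : allR 132736 8296 (fun q => (fun q => Nat.beq (f3 q) (fa 4 q)) q) = true := by decide +kernel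

theorem eq3_17 : allR 141032 8296 (fun q => (fun q => Nat.beq (f3 q) (fa 4 q)) q) = true := by decide +kernel

theorem eq3_18 : allR 149328 8296 (fun q => (fun q => Nat.beq (f3 q) (fa 4 q)) q) = true := by decide +kernel

theorem eq3_19 : allR 157624 8296 (fun q => (fun q => Nat.beq (f3 q) (fa 4 q)) q) = true := by decide +kernel


end Cfsg.Agent.Fi24Out
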