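import Cfsg.Agent.Lib.Lead.Fi24Out.D40

/-! # The outer automorphism group of Fi₂₄′: the check of the table number 40, slices (generated) -/

set_option autoImplicit false
set_option Elab.async false
set_option maxRecDepth 100000

namespace Cfsg.Agent.Fi24Out

open Cfsg.Agent.PF Cfsg.Agent.Lib.Helper6 Cfsg.Agent.Lib.Helper6.TC
open Cfsg.Agent.PL (Acts evalF)

theorem eq40_20 : allR 55320 2766 (fun q => (fun q => Nat.beq (f40 q) (wordR W40 q)) q) = true := by decide +kernel

theorem eq40_21 : allR 58086 2766 (fun q => (fun q => Nat.beq (f40 q) (wordR W40 q)) q) = true := by decide +kernel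

theorem eq40_22 : allR 60852 2766 (fun q => (fun q => Nat.beq (f40 q) (wordR W40 q)) q) = true := by decide +kernel

theorem eq40_23 : allR 63618 2766 (fun q => (fun q => Nat.beq (f40 q) (wordR W40 q)) q) = true := by decide +kernel

theorem eq40_24 : allR 66384 2766 (fun q => (fun q => Nat.beq (f40 q) (wordR W40 q)) q) = true := by decide +kernel

theorem eq40_25 : allR 69150 2766 (fun q => (fun q => Nat.beq (f40 q) (wordR W40 q)) q) = true := by decide +kernel

theorem eq40_26 : allR 71916 2766 (fun q => (fun q => Nat.beq (f40 q) (wordR W40 q)) q) = true := by decide +kernel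

theorem eq40_27 : allR 74682 2766 (fun q => (fun q => Nat.beq (f40 q) (wordR W40 q)) q) = true := by decide +kernel

theorem eq40_28 : allR 77448 2766 (fun q => (fun q => Nat.beq (f40 q) (wordR W40 q)) q) = true := by decide +kernel

theorem eq40_29 : allR 80214 2766 (fun q => (fun q => Nat.beq (f40 q) (wordR W40 q)) q) = true := by decide +kernel

theorem eq40_30 : allR 82980 2766 (fun q => (fun q => Nat.beq (f40 q) (wordR W40 q)) q) = true := by decide +kernel

theorem eq40_31 : allR 85746 2766 (fun q => (fun q => Nat.beq (f40 q) (wordR W40 q)) q) = true := by decide +kernel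

theorem eq40_32 : allR 88512 2766 (fun q => (fun q => Nat.beq (f40 q) (wordR W40 q)) q) = true := by decide +kernel

theorem eq40_33 : allR 91278 2766 (fun q => (fun q => Nat.beq (f40 q) (wordR W40 q)) q) = true := by decide +kernel

theorem eq40_34 : allR 94044 2766 (fun q => (fun q => Nat.beq (f40 q) (wordR W40 q)) q) = true := by decide +kernel

theorem eq40_35 : allR 96810 2766 (fun q => (fun q => Nat.beq (f40 q) (wordR W40 q)) q) = true := by decide +kernel

theorem eq40_36 : allR 99576 2766 (fun q => (fun q => Nat.beq (f40 q) (wordR W40 q)) q) = true := by decide +kernel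

theorem eq40_37 : allR 102342 2766 (fun q => (fun q => Nat.beq (f40 q) (wordR W40 q)) q) = true := by decide +kernel

theorem eq40_38 : allR 105108 2766 (fun q => (fun q => Nat.beq (f40 q) (wordR W40 q)) q) = true := by decide +kernel

theorem eq40_39 : allR 107874 2766 (fun q => (fun q => Nat.beq (f40 q) (wordR W40 q)) q) = true := by decide +kernel


end Cfsg.Agent.Fi24Out
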