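import Cfsg.Agent.Lib.Lead.Fi24Out.D40

/-! # The outer automorphism group of Fi₂₄′: the check of the table number 40, slices (generated) -/

set_option autoImplicit false
set_option Elab.async false
set_option maxRecDepth 100000

namespace Cfsg.Agent.Fi24Out

open Cfsg.Agent.PF Cfsg.Agent.Lib.Helper6 Cfsg.Agent.Lib.Helper6.TC
open Cfsg.Agent.PL (Acts evalF)

theorem eq40_40 : allR 110640 2766 (fun q => (fun q => Nat.beq (f40 q) (wordR W40 q)) q) = true := by decide +kernel

theorem eq40_41 : allR 113406 2766 (fun q => (fun q => Nat.beq (f40 q) (wordR W40 q)) q) = true := by decide +kernel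

theorem eq40_42 : allR 116172 2766 (fun q => (fun q => Nat.beq (f40 q) (wordR W40 q)) q) = true := by decide +kernel

theorem eq40_43 : allR 118938 2766 (fun q => (fun q => Nat.beq (f40 q) (wordR W40 q)) q) = true := by decide +kernel

theorem eq40_44 : allR 121704 2766 (fun q => (fun q => Nat.beq (f40 q) (wordR W40 q)) q) = true := by decide +kernel

theorem eq40_45 : allR 124470 2766 (fun q => (fun q => Nat.beq (f40 q) (wordR W40 q)) q) = true := by decide +kernel

theorem eq40_46 : allR 127236 2766 (fun q => (fun q => Nat.beq (f40 q) (wordR W40 q)) q) = true := by decide +kernel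

theorem eq40_47 : allR 130002 2766 (fun q => (fun q => Nat.beq (f40 q) (wordR W40 q)) q) = true := by decide +kernel

theorem eq40_48 : allR 132768 2766 (fun q => (fun q => Nat.beq (f40 q) (wordR W40 q)) q) = true := by decide +kernel

theorem eq40_49 : allR 135534 2766 (fun q => (fun q => Nat.beq (f40 q) (wordR W40 q)) q) = true := by decide +kernel

theorem eq40_50 : allR 138300 2766 (fun q => (fun q => Nat.beq (f40 q) (wordR W40 q)) q) = true := by decide +kernel

theorem eq40_51 : allR 141066 2766 (fun q => (fun q => Nat.beq (f40 q) (wordR W40 q)) q) = true := by decide +kernel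

theorem eq40_52 : allR 143832 2766 (fun q => (fun q => Nat.beq (f40 q) (wordR W40 q)) q) = true := by decide +kernel

theorem eq40_53 : allR 146598 2766 (fun q => (fun q => Nat.beq (f40 q) (wordR W40 q)) q) = true := by decide +kernel

theorem eq40_54 : allR 149364 2766 (fun q => (fun q => Nat.beq (f40 q) (wordR W40 q)) q) = true := by decide +kernel

theorem eq40_55 : allR 152130 2766 (fun q => (fun q => Nat.beq (f40 q) (wordR W40 q)) q) = true := by decide +kernel

theorem eq40_56 : allR 154896 2766 (fun q => (fun q => Nat.beq (f40 q) (wordR W40 q)) q) = true := by decide +kernel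

theorem eq40_57 : allR 157662 2766 (fun q => (fun q => Nat.beq (f40 q) (wordR W40 q)) q) = true := by decide +kernel

theorem eq40_58 : allR 160428 2766 (fun q => (fun q => Nat.beq (f40 q) (wordR W40 q)) q) = true := by decide +kernel

theorem eq40_59 : allR 163194 2766 (fun q => (fun q => Nat.beq (f40 q) (wordR W40 q)) q) = true := by decide +kernel


end Cfsg.Agent.Fi24Out
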