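import Cfsg.Agent.Lib.Lead.Fi24Out.D40

/-! # The outer automorphism group of Fi₂₄′: the check of the table number 40, slices (generated) -/

set_option autoImplicit false
set_option Elab.async false
set_option maxRecDepth 100000

namespace Cfsg.Agent.Fi24Out

open Cfsg.Agent.PF Cfsg.Agent.Lib.Helper6 Cfsg.Agent.Lib.Helper6.TC
open Cfsg.Agent.PL (Acts evalF)

theorem eq40_60 : allR 165960 2766 (fun q => (fun q => Nat.beq (f40 q) (wordR W40 q)) q) = true := by decide +kernel

theorem eq40_61 : allR 168726 2766 (fun q => (fun q => Nat.beq (f40 q) (wordR W40 q)) q) = true := by decide +kernel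

theorem eq40_62 : allR 171492 2766 (fun q => (fun q => Nat.beq (f40 q) (wordR W40 q)) q) = true := by decide +kernel

theorem eq40_63 : allR 174258 2766 (fun q => (fun q => Nat.beq (f40 q) (wordR W40 q)) q) = true := by decide +kernel

theorem eq40_64 : allR 177024 2766 (fun q => (fun q => Nat.beq (f40 q) (wordR W40 q)) q) = true := by decide +kernel

theorem eq40_65 : allR 179790 2766 (fun q => (fun q => Nat.beq (f40 q) (wordR W40 q)) q) = true := by decide +kernel

theorem eq40_66 : allR 182556 2766 (fun q => (fun q => Nat.beq (f40 q) (wordR W40 q)) q) = true := by decide +kernel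

theorem eq40_67 : allR 185322 2766 (fun q => (fun q => Nat.beq (f40 q) (wordR W40 q)) q) = true := by decide +kernel

theorem eq40_68 : allR 188088 2766 (fun q => (fun q => Nat.beq (f40 q) (wordR W40 q)) q) = true := by decide +kernel

theorem eq40_69 : allR 190854 2766 (fun q => (fun q => Nat.beq (f40 q) (wordR W40 q)) q) = true := by decide +kernel

theorem eq40_70 : allR 193620 2766 (fun q => (fun q => Nat.beq (f40 q) (wordR W40 q)) q) = true := by decide +kernel

theorem eq40_71 : allR 196386 2766 (fun q => (fun q => Nat.beq (f40 q) (wordR W40 q)) q) = true := by decide +kernel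

theorem eq40_72 : allR 199152 2766 (fun q => (fun q => Nat.beq (f40 q) (wordR W40 q)) q) = true := by decide +kernel

theorem eq40_73 : allR 201918 2766 (fun q => (fun q => Nat.beq (f40 q) (wordR W40 q)) q) = true := by decide +kernel

theorem eq40_74 : allR 204684 2766 (fun q => (fun q => Nat.beq (f40 q) (wordR W40 q)) q) = true := by decide +kernel

theorem eq40_75 : allR 207450 2766 (fun q => (fun q => Nat.beq (f40 q) (wordR W40 q)) q) = true := by decide +kernel

theorem eq40_76 : allR 210216 2766 (fun q => (fun q => Nat.beq (f40 q) (wordR W40 q)) q) = true := by decide +kernel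

theorem eq40_77 : allR 212982 2766 (fun q => (fun q => Nat.beq (f40 q) (wordR W40 q)) q) = true := by decide +kernel

theorem eq40_78 : allR 215748 2766 (fun q => (fun q => Nat.beq (f40 q) (wordR W40 q)) q) = true := by decide +kernel

theorem eq40_79 : allR 218514 2766 (fun q => (fun q => Nat.beq (f40 q) (wordR W40 q)) q) = true := by decide +kernel


end Cfsg.Agent.Fi24Out
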