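import Cfsg.Agent.Lib.Lead.Fi24Out.D40

/-! # The outer automorphism group of Fi₂₄′: the check of the table number 40, slices (generated) -/

set_option autoImplicit false
set_option Elab.async false
set_option maxRecDepth 100000

namespace Cfsg.Agent.Fi24Out

open Cfsg.Agent.PF Cfsg.Agent.Lib.Helper6 Cfsg.Agent.Lib.Helper6.TC
open Cfsg.Agent.PL (Acts evalF)

theorem eq40_80 : allR 221280 2766 (fun q => (fun q => Nat.beq (f40 q) (wordR W40 q)) q) = true := by decide +kernel

theorem eq40_81 : allR 224046 2766 (fun q => (fun q => Nat.beq (f40 q) (wordR W40 q)) q) = true := by decide +kernel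

theorem eq40_82 : allR 226812 2766 (fun q => (fun q => Nat.beq (f40 q) (wordR W40 q)) q) = true := by decide +kernel

theorem eq40_83 : allR 229578 2766 (fun q => (fun q => Nat.beq (f40 q) (wordR W40 q)) q) = true := by decide +kernel

theorem eq40_84 : allR 232344 2766 (fun q => (fun q => Nat.beq (f40 q) (wordR W40 q)) q) = true := by decide +kernel

theorem eq40_85 : allR 235110 2766 (fun q => (fun q => Nat.beq (f40 q) (wordR W40 q)) q) = true := by decide +kernel

theorem eq40_86 : allR 237876 2766 (fun q => (fun q => Nat.beq (f40 q) (wordR W40 q)) q) = true := by decide +kernel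

theorem eq40_87 : allR 240642 2766 (fun q => (fun q => Nat.beq (f40 q) (wordR W40 q)) q) = true := by decide +kernel

theorem eq40_88 : allR 243408 2766 (fun q => (fun q => Nat.beq (f40 q) (wordR W40 q)) q) = true := by decide +kernel

theorem eq40_89 : allR 246174 2766 (fun q => (fun q => Nat.beq (f40 q) (wordR W40 q)) q) = true := by decide +kernel

theorem eq40_90 : allR 248940 2766 (fun q => (fun q => Nat.beq (f40 q) (wordR W40 q)) q) = true := by decide +kernel

theorem eq40_91 : allR 251706 2766 (fun q => (fun q => Nat.beq (f40 q) (wordR W40 q)) q) = true := by decide +kernel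

theorem eq40_92 : allR 254472 2766 (fun q => (fun q => Nat.beq (f40 q) (wordR W40 q)) q) = true := by decide +kernel

theorem eq40_93 : allR 257238 2766 (fun q => (fun q => Nat.beq (f40 q) (wordR W40 q)) q) = true := by decide +kernel

theorem eq40_94 : allR 260004 2766 (fun q => (fun q => Nat.beq (f40 q) (wordR W40 q)) q) = true := by decide +kernel

theorem eq40_95 : allR 262770 2766 (fun q => (fun q => Nat.beq (f40 q) (wordR W40 q)) q) = true := by decide +kernel

theorem eq40_96 : allR 265536 2766 (fun q => (fun q => Nat.beq (f40 q) (wordR W40 q)) q) = true := by decide +kernel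

theorem eq40_97 : allR 268302 2766 (fun q => (fun q => Nat.beq (f40 q) (wordR W40 q)) q) = true := by decide +kernel

theorem eq40_98 : allR 271068 2766 (fun q => (fun q => Nat.beq (f40 q) (wordR W40 q)) q) = true := by decide +kernel

theorem eq40_99 : allR 273834 2766 (fun q => (fun q => Nat.beq (f40 q) (wordR W40 q)) q) = true := by decide +kernel


end Cfsg.Agent.Fi24Out
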