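import Cfsg.Agent.Lib.Lead.Fi24Out.C40_0
import Cfsg.Agent.Lib.Lead.Fi24Out.C40_1
import Cfsg.Agent.Lib.Lead.Fi24Out.C40_2
import Cfsg.Agent.Lib.Lead.Fi24Out.C40_3
import Cfsg.Agent.Lib.Lead.Fi24Out.C40_4
import Cfsg.Agent.Lib.Lead.Fi24Out.C40_5
import Cfsg.Agent.Lib.Lead.Fi24Out.Base0

/-! # The outer automorphism group of Fi₂₄′: the check of the table number 40 (generated) -/

set_option autoImplicit false
set_option maxRecDepth 100000

namespace Cfsg.Agent.Fi24Out

open Cfsg.Agent.PF Cfsg.Agent.Lib.Helper6 Cfsg.Agent.Lib.Helper6.TC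
open Cfsg.Agent.PL (Acts evalF)

theorem eq40_all : ∀ q < 306936, (fun q => Nat.beq (f40 q) (wordR W40 q)) q = true :=
  forall_lt_of_chunks (f := fun q => (fun q => Nat.beq (f40 q) (wordR W40 q)) q) [(0, 2766), (2766, 2766), (5532, 2766), (8298, 2766), (11064, 2766), (13830, 2766), (16596, 2766), (19362, 2766), (22128, 2766), (24894, 2766), (27660, 2766), (30426, 2766), (33192, 2766), (35958, 2766), (38724, 2766), (41490, 2766), (44256, 2766), (47022, 2766), (49788, 2766), (52554, 2766), (55320, 2766), (58086, 2766), (60852, 2766), (63618, 2766), (66384, 2766), (69150, 2766), (71916, 2766), (74682, 2766), (77448, 2766), (80214, 2766), (82980, 2766), (85746, 2766), (88512, 2766), (91278, 2766), (94044, 2766), (96810, 2766), (99576, 2766), (102342, 2766), (105108, 2766), (107874, 2766), (110640, 2766), (113406, 2766), (116172, 2766), (118938, 2766), (121704, 2766), (124470, 2766), (127236, 2766), (130002, 2766), (132768, 2766), (135534, 2766), (138300, 2766), (141066, 2766), (143832, 2766), (146598, 2766), (149364, 2766), (152130,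 2766), (154896, 2766), (157662, 2766), (160428, 2766), (163194, 2766), (165960, 2766), (168726, 2766), (171492, 2766), (174258, 2766), (177024, 2766), (179790, 2766), (182556, 2766), (185322, 2766), (188088, 2766), (190854, 2766), (193620, 2766), (196386, 2766), (199152, 2766), (201918, 2766), (204684, 2766), (207450, 2766), (210216, 2766), (212982, 2766), (215748, 2766), (218514, 2766), (221280, 2766), (224046, 2766), (226812, 2766), (229578, 2766), (232344, 2766), (235110, 2766), (237876, 2766), (240642, 2766), (243408, 2766), (246174, 2766), (248940, 2766), (251706, 2766), (254472, 2766), (257238, 2766), (260004, 2766), (262770, 2766), (265536, 2766), (268302, 2766), (271068, 2766), (273834, 2766), (276600, 2766), (279366, 2766), (282132, 2766), (284898, 2766), (287664, 2766), (290430, 2766), (293196, 2766), (295962, 2766), (298728, 2766), (301494, 2766), (304260, 2676)] (by decide)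
    (all_cons eq40_0 (all_cons eq40_1 (all_cons eq40_2 (all_cons eq40_3 (all_cons eq40_4 (all_cons eq40_5 (all_cons eq40_6 (all_cons eq40_7 (all_cons eq40_8 (all_cons eq40_9 (all_cons eq40_10 (all_cons eq40_11 (all_cons eq40_12 (all_cons eq40_13 (all_cons eq40_14 (all_cons eq40_15 (all_cons eq40_16 (all_cons eq40_17 (all_cons eq40_18 (all_cons eq40_19 (all_cons eq40_20 (all_cons eq40_21 (all_cons eq40_22 (all_cons eq40_23 (all_cons eq40_24 (all_cons eq40_25 (all_cons eq40_26 (all_cons eq40_27 (all_cons eq40_28 (all_cons eq40_29 (all_cons eq40_30 (all_cons eq40_31 (all_cons eq40_32 (all_cons eq40_33 (all_cons eq40_34 (all_cons eq40_35 (all_cons eq40_36 (all_cons eq40_37 (all_cons eq40_38 (all_cons eq40_39 (all_cons eq40_40 (all_cons eq40_41 (all_cons eq40_42 (all_cons eq40_43 (all_cons eq40_44 (all_cons eq40_45 (all_cons eq40_46 (all_cons eq40_47 (all_cons eq40_48 (all_cons eq40_49 (all_cons eq40_50 (all_cons eq40_51 (all_cons eq40_52 (all_cons eq40_53 (all_cons eq40_54 (all_cons eq40_55 (all_cons eq40_56 (all_cons eq40_57 (all_cons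 eq40_58 (all_cons eq40_59 (all_cons eq40_60 (all_cons eq40_61 (all_cons eq40_62 (all_cons eq40_63 (all_cons eq40_64 (all_cons eq40_65 (all_cons eq40_66 (all_cons eq40_67 (all_cons eq40_68 (all_cons eq40_69 (all_cons eq40_70 (all_cons eq40_71 (all_cons eq40_72 (all_cons eq40_73 (all_cons eq40_74 (all_cons eq40_75 (all_cons eq40_76 (all_cons eq40_77 (all_cons eq40_78 (all_cons eq40_79 (all_cons eq40_80 (all_cons eq40_81 (all_cons eq40_82 (all_cons eq40_83 (all_cons eq40_84 (all_cons eq40_85 (all_cons eq40_86 (all_cons eq40_87 (all_cons eq40_88 (all_cons eq40_89 (all_cons eq40_90 (all_cons eq40_91 (all_cons eq40_92 (all_cons eq40_93 (all_cons eq40_94 (all_cons eq40_95 (all_cons eq40_96 (all_cons eq40_97 (all_cons eq40_98 (all_cons eq40_99 (all_cons eq40_100 (all_cons eq40_101 (all_cons eq40_102 (all_cons eq40_103 (all_cons eq40_104 (all_cons eq40_105 (all_cons eq40_106 (all_cons eq40_107 (all_cons eq40_108 (all_cons eq40_109 (all_cons eq40_110 all_nil)))))))))))))))))))))))))))))))))))))))))))))))))))))))))))))))))))))))))))))))))))))))))))))))))))))))))))))))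

/-- the table agrees with the word -/
theorem eq40 : ∀ q < 306936, f40 q = wordR W40 q :=
  fun q hq => Nat.eq_of_beq_eq_true (eq40_all q hq)

end Cfsg.Agent.Fi24Out
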