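import Cfsg.Agent.Lib.Lead.Fi24Out.D40

/-! # The outer automorphism group of Fi₂₄′: the check of the table number 40, slices (generated) -/

set_option autoImplicit false
set_option Elab.async false
set_option maxRecDepth 100000

namespace Cfsg.Agent.Fi24Out

open Cfsg.Agent.PF Cfsg.Agent.Lib.Helper6 Cfsg.Agent.Lib.Helper6.TC
open Cfsg.Agent.PL (Acts evalF)

theorem eq40_0 : allR 0 2766 (fun q => (fun q => Nat.beq (f40 q) (wordR W40 q)) q) = true := by decide +kernel

theorem eq40_1 : allR 2766 2766 (fun q => (fun q => Nat.beq (f40 q) (wordR W40 q)) q) = true := by decide +kernel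

theorem eq40_2 : allR 5532 2766 (fun q => (fun q => Nat.beq (f40 q) (wordR W40 q)) q) = true := by decide +kernel

theorem eq40_3 : allR 8298 2766 (fun q => (fun q => Nat.beq (f40 q) (wordR W40 q)) q) = true := by decide +kernel

theorem eq40_4 : allR 11064 2766 (fun q => (fun q => Nat.beq (f40 q) (wordR W40 q)) q) = true := by decide +kernel

theorem eq40_5 : allR 13830 2766 (fun q => (fun q => Nat.beq (f40 q) (wordR W40 q)) q) = true := by decide +kernel

theorem eq40_6 : allR 16596 2766 (fun q => (fun q => Nat.beq (f40 q) (wordR W40 q)) q) = true := by decide +kernel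

theorem eq40_7 : allR 19362 2766 (fun q => (fun q => Nat.beq (f40 q) (wordR W40 q)) q) = true := by decide +kernel

theorem eq40_8 : allR 22128 2766 (fun q => (fun q => Nat.beq (f40 q) (wordR W40 q)) q) = true := by decide +kernel

theorem eq40_9 : allR 24894 2766 (fun q => (fun q => Nat.beq (f40 q) (wordR W40 q)) q) = true := by decide +kernel

theorem eq40_10 : allR 27660 2766 (fun q => (fun q => Nat.beq (f40 q) (wordR W40 q)) q) = true := by decide +kernel

theorem eq40_11 : allR 30426 2766 (fun q => (fun q => Nat.beq (f40 q) (wordR W40 q)) q) = true := by decide +kernel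

theorem eq40_12 : allR 33192 2766 (fun q => (fun q => Nat.beq (f40 q) (wordR W40 q)) q) = true := by decide +kernel

theorem eq40_13 : allR 35958 2766 (fun q => (fun q => Nat.beq (f40 q) (wordR W40 q)) q) = true := by decide +kernel

theorem eq40_14 : allR 38724 2766 (fun q => (fun q => Nat.beq (f40 q) (wordR W40 q)) q) = true := by decide +kernel

theorem eq40_15 : allR 41490 2766 (fun q => (fun q => Nat.beq (f40 q) (wordR W40 q)) q) = true := by decide +kernel

theorem eq40_16 : allR 44256 2766 (fun q => (fun q => Nat.beq (f40 q) (wordR W40 q)) q) = true := by decide +kernel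

theorem eq40_17 : allR 47022 2766 (fun q => (fun q => Nat.beq (f40 q) (wordR W40 q)) q) = true := by decide +kernel

theorem eq40_18 : allR 49788 2766 (fun q => (fun q => Nat.beq (f40 q) (wordR W40 q)) q) = true := by decide +kernel

theorem eq40_19 : allR 52554 2766 (fun q => (fun q => Nat.beq (f40 q) (wordR W40 q)) q) = true := by decide +kernel


end Cfsg.Agent.Fi24Out
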