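import Cfsg.Agent.Lib.Lead.Fi24Out.D41

/-! # The outer automorphism group of Fi₂₄′: the check of the table number 41, slices (generated) -/

set_option autoImplicit false
set_option Elab.async false
set_option maxRecDepth 100000

namespace Cfsg.Agent.Fi24Out

open Cfsg.Agent.PF Cfsg.Agent.Lib.Helper6 Cfsg.Agent.Lib.Helper6.TC
open Cfsg.Agent.PL (Acts evalF)

theorem eq41_60 : allR 198060 3301 (fun q => (fun q => Nat.beq (f41 q) (wordR W41 q)) q) = true := by decide +kernel

theorem eq41_61 : allR 201361 3301 (fun q => (fun q => Nat.beq (f41 q) (wordR W41 q)) q) = true := by decide +kernel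

theorem eq41_62 : allR 204662 3301 (fun q => (fun q => Nat.beq (f41 q) (wordR W41 q)) q) = true := by decide +kernel

theorem eq41_63 : allR 207963 3301 (fun q => (fun q => Nat.beq (f41 q) (wordR W41 q)) q) = true := by decide +kernel

theorem eq41_64 : allR 211264 3301 (fun q => (fun q => Nat.beq (f41 q) (wordR W41 q)) q) = true := by decide +kernel

theorem eq41_65 : allR 214565 3301 (fun q => (fun q => Nat.beq (f41 q) (wordR W41 q)) q) = true := by decide +kernel

theorem eq41_66 : allR 217866 3301 (fun q => (fun q => Nat.beq (f41 q) (wordR W41 q)) q) = true := by decide +kernel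

theorem eq41_67 : allR 221167 3301 (fun q => (fun q => Nat.beq (f41 q) (wordR W41 q)) q) = true := by decide +kernel

theorem eq41_68 : allR 224468 3301 (fun q => (fun q => Nat.beq (f41 q) (wordR W41 q)) q) = true := by decide +kernel

theorem eq41_69 : allR 227769 3301 (fun q => (fun q => Nat.beq (f41 q) (wordR W41 q)) q) = true := by decide +kernel

theorem eq41_70 : allR 231070 3301 (fun q => (fun q => Nat.beq (f41 q) (wordR W41 q)) q) = true := by decide +kernel

theorem eq41_71 : allR 234371 3301 (fun q => (fun q => Nat.beq (f41 q) (wordR W41 q)) q) = true := by decide +kernel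

theorem eq41_72 : allR 237672 3301 (fun q => (fun q => Nat.beq (f41 q) (wordR W41 q)) q) = true := by decide +kernel

theorem eq41_73 : allR 240973 3301 (fun q => (fun q => Nat.beq (f41 q) (wordR W41 q)) q) = true := by decide +kernel

theorem eq41_74 : allR 244274 3301 (fun q => (fun q => Nat.beq (f41 q) (wordR W41 q)) q) = true := by decide +kernel

theorem eq41_75 : allR 247575 3301 (fun q => (fun q => Nat.beq (f41 q) (wordR W41 q)) q) = true := by decide +kernel

theorem eq41_76 : allR 250876 3301 (fun q => (fun q => Nat.beq (f41 q) (wordR W41 q)) q) = true := by decide +kernel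

theorem eq41_77 : allR 254177 3301 (fun q => (fun q => Nat.beq (f41 q) (wordR W41 q)) q) = true := by decide +kernel

theorem eq41_78 : allR 257478 3301 (fun q => (fun q => Nat.beq (f41 q) (wordR W41 q)) q) = true := by decide +kernel

theorem eq41_79 : allR 260779 3301 (fun q => (fun q => Nat.beq (f41 q) (wordR W41 q)) q) = true := by decide +kernel


end Cfsg.Agent.Fi24Out
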