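import Cfsg.Agent.Lib.Lead.Fi24Out.C41_0
import Cfsg.Agent.Lib.Lead.Fi24Out.C41_1
import Cfsg.Agent.Lib.Lead.Fi24Out.C41_2
import Cfsg.Agent.Lib.Lead.Fi24Out.C41_3
import Cfsg.Agent.Lib.Lead.Fi24Out.C41_4
import Cfsg.Agent.Lib.Lead.Fi24Out.Base0

/-! # The outer automorphism group of Fi₂₄′: the check of the table number 41 (generated) -/

set_option autoImplicit false
set_option maxRecDepth 100000

namespace Cfsg.Agent.Fi24Out

open Cfsg.Agent.PF Cfsg.Agent.Lib.Helper6 Cfsg.Agent.Lib.Helper6.TC
open Cfsg.Agent.PL (Acts evalF)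

theorem eq41_all : ∀ q < 306936, (fun q => Nat.beq (f41 q) (wordR W41 q)) q = true :=
  forall_lt_of_chunks (f := fun q => (fun q => Nat.beq (f41 q) (wordR W41 q)) q) [(0, 3301), (3301, 3301), (6602, 3301), (9903, 3301), (13204, 3301), (16505, 3301), (19806, 3301), (23107, 3301), (26408, 3301), (29709, 3301), (33010, 3301), (36311, 3301), (39612, 3301), (42913, 3301), (46214, 3301), (49515, 3301), (52816, 3301), (56117, 3301), (59418, 3301), (62719, 3301), (66020, 3301), (69321, 3301), (72622, 3301), (75923, 3301), (79224, 3301), (82525, 3301), (85826, 3301), (89127, 3301), (92428, 3301), (95729, 3301), (99030, 3301), (102331, 3301), (105632, 3301), (108933, 3301), (112234, 3301), (115535, 3301), (118836, 3301), (122137, 3301), (125438, 3301), (128739, 3301), (132040, 3301), (135341, 3301), (138642, 3301), (141943, 3301), (145244, 3301), (148545, 3301), (151846, 3301), (155147, 3301), (158448, 3301), (161749, 3301), (165050, 3301), (168351, 3301), (171652, 3301), (174953, 3301), (178254, 3301), (181555, 3301), (184856, 3301),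 (188157, 3301), (191458, 3301), (194759, 3301), (198060, 3301), (201361, 3301), (204662, 3301), (207963, 3301), (211264, 3301), (214565, 3301), (217866, 3301), (221167, 3301), (224468, 3301), (227769, 3301), (231070, 3301), (234371, 3301), (237672, 3301), (240973, 3301), (244274, 3301), (247575, 3301), (250876, 3301), (254177, 3301), (257478, 3301), (260779, 3301), (264080, 3301), (267381, 3301), (270682, 3301), (273983, 3301), (277284, 3301), (280585, 3301), (283886, 3301), (287187, 3301), (290488, 3301), (293789, 3301), (297090, 3301), (300391, 3301), (303692, 3244)] (by decide)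
    (all_cons eq41_0 (all_cons eq41_1 (all_cons eq41_2 (all_cons eq41_3 (all_cons eq41_4 (all_cons eq41_5 (all_cons eq41_6 (all_cons eq41_7 (all_cons eq41_8 (all_cons eq41_9 (all_cons eq41_10 (all_cons eq41_11 (all_cons eq41_12 (all_cons eq41_13 (all_cons eq41_14 (all_cons eq41_15 (all_cons eq41_16 (all_cons eq41_17 (all_cons eq41_18 (all_cons eq41_19 (all_cons eq41_20 (all_cons eq41_21 (all_cons eq41_22 (all_cons eq41_23 (all_cons eq41_24 (all_cons eq41_25 (all_cons eq41_26 (all_cons eq41_27 (all_cons eq41_28 (all_cons eq41_29 (all_cons eq41_30 (all_cons eq41_31 (all_cons eq41_32 (all_cons eq41_33 (all_cons eq41_34 (all_cons eq41_35 (all_cons eq41_36 (all_cons eq41_37 (all_cons eq41_38 (all_cons eq41_39 (all_cons eq41_40 (all_cons eq41_41 (all_cons eq41_42 (all_cons eq41_43 (all_cons eq41_44 (all_cons eq41_45 (all_cons eq41_46 (all_cons eq41_47 (all_cons eq41_48 (all_cons eq41_49 (all_cons eq41_50 (all_cons eq41_51 (all_cons eq41_52 (all_cons eq41_53 (all_cons eq41_54 (all_cons eq41_55 (all_cons eq41_56 (all_cons eq41_57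 (all_cons eq41_58 (all_cons eq41_59 (all_cons eq41_60 (all_cons eq41_61 (all_cons eq41_62 (all_cons eq41_63 (all_cons eq41_64 (all_cons eq41_65 (all_cons eq41_66 (all_cons eq41_67 (all_cons eq41_68 (all_cons eq41_69 (all_cons eq41_70 (all_cons eq41_71 (all_cons eq41_72 (all_cons eq41_73 (all_cons eq41_74 (all_cons eq41_75 (all_cons eq41_76 (all_cons eq41_77 (all_cons eq41_78 (all_cons eq41_79 (all_cons eq41_80 (all_cons eq41_81 (all_cons eq41_82 (all_cons eq41_83 (all_cons eq41_84 (all_cons eq41_85 (all_cons eq41_86 (all_cons eq41_87 (all_cons eq41_88 (all_cons eq41_89 (all_cons eq41_90 (all_cons eq41_91 (all_cons eq41_92 all_nil)))))))))))))))))))))))))))))))))))))))))))))))))))))))))))))))))))))))))))))))))))))))))))))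

/-- the table agrees with the word -/
theorem eq41 : ∀ q < 306936, f41 q = wordR W41 q :=
  fun q hq => Nat.eq_of_beq_eq_true (eq41_all q hq)

end Cfsg.Agent.Fi24Out
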