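import Cfsg.Agent.Lib.Lead.Fi24Out.D41

/-! # The outer automorphism group of Fi₂₄′: the check of the table number 41, slices (generated) -/

set_option autoImplicit false
set_option Elab.async false
set_option maxRecDepth 100000

namespace Cfsg.Agent.Fi24Out

open Cfsg.Agent.PF Cfsg.Agent.Lib.Helper6 Cfsg.Agent.Lib.Helper6.TC
open Cfsg.Agent.PL (Acts evalF)

theorem eq41_0 : allR 0 3301 (fun q => (fun q => Nat.beq (f41 q) (wordR W41 q)) q) = true := by decide +kernel

theorem eq41_1 : allR 3301 3301 (fun q => (fun q => Nat.beq (f41 q) (wordR W41 q)) q) = true := by decide +kernel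

theorem eq41_2 : allR 6602 3301 (fun q => (fun q => Nat.beq (f41 q) (wordR W41 q)) q) = true := by decide +kernel

theorem eq41_3 : allR 9903 3301 (fun q => (fun q => Nat.beq (f41 q) (wordR W41 q)) q) = true := by decide +kernel

theorem eq41_4 : allR 13204 3301 (fun q => (fun q => Nat.beq (f41 q) (wordR W41 q)) q) = true := by decide +kernel

theorem eq41_5 : allR 16505 3301 (fun q => (fun q => Nat.beq (f41 q) (wordR W41 q)) q) = true := by decide +kernel

theorem eq41_6 : allR 19806 3301 (fun q => (fun q => Nat.beq (f41 q) (wordR W41 q)) q) = true := by decide +kernel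

theorem eq41_7 : allR 23107 3301 (fun q => (fun q => Nat.beq (f41 q) (wordR W41 q)) q) = true := by decide +kernel

theorem eq41_8 : allR 26408 3301 (fun q => (fun q => Nat.beq (f41 q) (wordR W41 q)) q) = true := by decide +kernel

theorem eq41_9 : allR 29709 3301 (fun q => (fun q => Nat.beq (f41 q) (wordR W41 q)) q) = true := by decide +kernel

theorem eq41_10 : allR 33010 3301 (fun q => (fun q => Nat.beq (f41 q) (wordR W41 q)) q) = true := by decide +kernel

theorem eq41_11 : allR 36311 3301 (fun q => (fun q => Nat.beq (f41 q) (wordR W41 q)) q) = true := by decide +kernel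

theorem eq41_12 : allR 39612 3301 (fun q => (fun q => Nat.beq (f41 q) (wordR W41 q)) q) = true := by decide +kernel

theorem eq41_13 : allR 42913 3301 (fun q => (fun q => Nat.beq (f41 q) (wordR W41 q)) q) = true := by decide +kernel

theorem eq41_14 : allR 46214 3301 (fun q => (fun q => Nat.beq (f41 q) (wordR W41 q)) q) = true := by decide +kernel

theorem eq41_15 : allR 49515 3301 (fun q => (fun q => Nat.beq (f41 q) (wordR W41 q)) q) = true := by decide +kernel

theorem eq41_16 : allR 52816 3301 (fun q => (fun q => Nat.beq (f41 q) (wordR W41 q)) q) = true := by decide +kernel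

theorem eq41_17 : allR 56117 3301 (fun q => (fun q => Nat.beq (f41 q) (wordR W41 q)) q) = true := by decide +kernel

theorem eq41_18 : allR 59418 3301 (fun q => (fun q => Nat.beq (f41 q) (wordR W41 q)) q) = true := by decide +kernel

theorem eq41_19 : allR 62719 3301 (fun q => (fun q => Nat.beq (f41 q) (wordR W41 q)) q) = true := by decide +kernel


end Cfsg.Agent.Fi24Out
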