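import Cfsg.Agent.Lib.Lead.Fi24Out.D42

/-! # The outer automorphism group of Fi₂₄′: the check of the table number 42, slices (generated) -/

set_option autoImplicit false
set_option Elab.async false
set_option maxRecDepth 100000

namespace Cfsg.Agent.Fi24Out

open Cfsg.Agent.PF Cfsg.Agent.Lib.Helper6 Cfsg.Agent.Lib.Helper6.TC
open Cfsg.Agent.PL (Acts evalF)

theorem eq42_20 : allR 51160 2558 (fun q => (fun q => Nat.beq (f42 q) (wordR W42 q)) q) = true := by decide +kernel

theorem eq42_21 : allR 53718 2558 (fun q => (fun q => Nat.beq (f42 q) (wordR W42 q)) q) = true := by decide +kernel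

theorem eq42_22 : allR 56276 2558 (fun q => (fun q => Nat.beq (f42 q) (wordR W42 q)) q) = true := by decide +kernel

theorem eq42_23 : allR 58834 2558 (fun q => (fun q => Nat.beq (f42 q) (wordR W42 q)) q) = true := by decide +kernel

theorem eq42_24 : allR 61392 2558 (fun q => (fun q => Nat.beq (f42 q) (wordR W42 q)) q) = true := by decide +kernel

theorem eq42_25 : allR 63950 2558 (fun q => (fun q => Nat.beq (f42 q) (wordR W42 q)) q) = true := by decide +kernel

theorem eq42_26 : allR 66508 2558 (fun q => (fun q => Nat.beq (f42 q) (wordR W42 q)) q) = true := by decide +kernel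

theorem eq42_27 : allR 69066 2558 (fun q => (fun q => Nat.beq (f42 q) (wordR W42 q)) q) = true := by decide +kernel

theorem eq42_28 : allR 71624 2558 (fun q => (fun q => Nat.beq (f42 q) (wordR W42 q)) q) = true := by decide +kernel

theorem eq42_29 : allR 74182 2558 (fun q => (fun q => Nat.beq (f42 q) (wordR W42 q)) q) = true := by decide +kernel

theorem eq42_30 : allR 76740 2558 (fun q => (fun q => Nat.beq (f42 q) (wordR W42 q)) q) = true := by decide +kernel

theorem eq42_31 : allR 79298 2558 (fun q => (fun q => Nat.beq (f42 q) (wordR W42 q)) q) = true := by decide +kernel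

theorem eq42_32 : allR 81856 2558 (fun q => (fun q => Nat.beq (f42 q) (wordR W42 q)) q) = true := by decide +kernel

theorem eq42_33 : allR 84414 2558 (fun q => (fun q => Nat.beq (f42 q) (wordR W42 q)) q) = true := by decide +kernel

theorem eq42_34 : allR 86972 2558 (fun q => (fun q => Nat.beq (f42 q) (wordR W42 q)) q) = true := by decide +kernel

theorem eq42_35 : allR 89530 2558 (fun q => (fun q => Nat.beq (f42 q) (wordR W42 q)) q) = true := by decide +kernel

theorem eq42_36 : allR 92088 2558 (fun q => (fun q => Nat.beq (f42 q) (wordR W42 q)) q) = true := by decide +kernel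

theorem eq42_37 : allR 94646 2558 (fun q => (fun q => Nat.beq (f42 q) (wordR W42 q)) q) = true := by decide +kernel

theorem eq42_38 : allR 97204 2558 (fun q => (fun q => Nat.beq (f42 q) (wordR W42 q)) q) = true := by decide +kernel

theorem eq42_39 : allR 99762 2558 (fun q => (fun q => Nat.beq (f42 q) (wordR W42 q)) q) = true := by decide +kernel


end Cfsg.Agent.Fi24Out
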