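import Cfsg.Agent.Lib.Lead.Fi24Out.D42

/-! # The outer automorphism group of Fi₂₄′: the check of the table number 42, slices (generated) -/

set_option autoImplicit false
set_option Elab.async false
set_option maxRecDepth 100000

namespace Cfsg.Agent.Fi24Out

open Cfsg.Agent.PF Cfsg.Agent.Lib.Helper6 Cfsg.Agent.Lib.Helper6.TC
open Cfsg.Agent.PL (Acts evalF)

theorem eq42_40 : allR 102320 2558 (fun q => (fun q => Nat.beq (f42 q) (wordR W42 q)) q) = true := by decide +kernel

theorem eq42_41 : allR 104878 2558 (fun q => (fun q => Nat.beq (f42 q) (wordR W42 q)) q) = true := by decide +kernel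

theorem eq42_42 : allR 107436 2558 (fun q => (fun q => Nat.beq (f42 q) (wordR W42 q)) q) = true := by decide +kernel

theorem eq42_43 : allR 109994 2558 (fun q => (fun q => Nat.beq (f42 q) (wordR W42 q)) q) = true := by decide +kernel

theorem eq42_44 : allR 112552 2558 (fun q => (fun q => Nat.beq (f42 q) (wordR W42 q)) q) = true := by decide +kernel

theorem eq42_45 : allR 115110 2558 (fun q => (fun q => Nat.beq (f42 q) (wordR W42 q)) q) = true := by decide +kernel

theorem eq42_46 : allR 117668 2558 (fun q => (fun q => Nat.beq (f42 q) (wordR W42 q)) q) = true := by decide +kernel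

theorem eq42_47 : allR 120226 2558 (fun q => (fun q => Nat.beq (f42 q) (wordR W42 q)) q) = true := by decide +kernel

theorem eq42_48 : allR 122784 2558 (fun q => (fun q => Nat.beq (f42 q) (wordR W42 q)) q) = true := by decide +kernel

theorem eq42_49 : allR 125342 2558 (fun q => (fun q => Nat.beq (f42 q) (wordR W42 q)) q) = true := by decide +kernel

theorem eq42_50 : allR 127900 2558 (fun q => (fun q => Nat.beq (f42 q) (wordR W42 q)) q) = true := by decide +kernel

theorem eq42_51 : allR 130458 2558 (fun q => (fun q => Nat.beq (f42 q) (wordR W42 q)) q) = true := by decide +kernel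

theorem eq42_52 : allR 133016 2558 (fun q => (fun q => Nat.beq (f42 q) (wordR W42 q)) q) = true := by decide +kernel

theorem eq42_53 : allR 135574 2558 (fun q => (fun q => Nat.beq (f42 q) (wordR W42 q)) q) = true := by decide +kernel

theorem eq42_54 : allR 138132 2558 (fun q => (fun q => Nat.beq (f42 q) (wordR W42 q)) q) = true := by decide +kernel

theorem eq42_55 : allR 140690 2558 (fun q => (fun q => Nat.beq (f42 q) (wordR W42 q)) q) = true := by decide +kernel

theorem eq42_56 : allR 143248 2558 (fun q => (fun q => Nat.beq (f42 q) (wordR W42 q)) q) = true := by decide +kernel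

theorem eq42_57 : allR 145806 2558 (fun q => (fun q => Nat.beq (f42 q) (wordR W42 q)) q) = true := by decide +kernel

theorem eq42_58 : allR 148364 2558 (fun q => (fun q => Nat.beq (f42 q) (wordR W42 q)) q) = true := by decide +kernel

theorem eq42_59 : allR 150922 2558 (fun q => (fun q => Nat.beq (f42 q) (wordR W42 q)) q) = true := by decide +kernel


end Cfsg.Agent.Fi24Out
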