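import Cfsg.Agent.Lib.Lead.Fi24Out.D42

/-! # The outer automorphism group of Fi₂₄′: the check of the table number 42, slices (generated) -/

set_option autoImplicit false
set_option Elab.async false
set_option maxRecDepth 100000

namespace Cfsg.Agent.Fi24Out

open Cfsg.Agent.PF Cfsg.Agent.Lib.Helper6 Cfsg.Agent.Lib.Helper6.TC
open Cfsg.Agent.PL (Acts evalF)

theorem eq42_60 : allR 153480 2558 (fun q => (fun q => Nat.beq (f42 q) (wordR W42 q)) q) = true := by decide +kernel

theorem eq42_61 : allR 156038 2558 (fun q => (fun q => Nat.beq (f42 q) (wordR W42 q)) q) = true := by decide +kernel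

theorem eq42_62 : allR 158596 2558 (fun q => (fun q => Nat.beq (f42 q) (wordR W42 q)) q) = true := by decide +kernel

theorem eq42_63 : allR 161154 2558 (fun q => (fun q => Nat.beq (f42 q) (wordR W42 q)) q) = true := by decide +kernel

theorem eq42_64 : allR 163712 2558 (fun q => (fun q => Nat.beq (f42 q) (wordR W42 q)) q) = true := by decide +kernel

theorem eq42_65 : allR 166270 2558 (fun q => (fun q => Nat.beq (f42 q) (wordR W42 q)) q) = true := by decide +kernel

theorem eq42_66 : allR 168828 2558 (fun q => (fun q => Nat.beq (f42 q) (wordR W42 q)) q) = true := by decide +kernel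

theorem eq42_67 : allR 171386 2558 (fun q => (fun q => Nat.beq (f42 q) (wordR W42 q)) q) = true := by decide +kernel

theorem eq42_68 : allR 173944 2558 (fun q => (fun q => Nat.beq (f42 q) (wordR W42 q)) q) = true := by decide +kernel

theorem eq42_69 : allR 176502 2558 (fun q => (fun q => Nat.beq (f42 q) (wordR W42 q)) q) = true := by decide +kernel

theorem eq42_70 : allR 179060 2558 (fun q => (fun q => Nat.beq (f42 q) (wordR W42 q)) q) = true := by decide +kernel

theorem eq42_71 : allR 181618 2558 (fun q => (fun q => Nat.beq (f42 q) (wordR W42 q)) q) = true := by decide +kernel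

theorem eq42_72 : allR 184176 2558 (fun q => (fun q => Nat.beq (f42 q) (wordR W42 q)) q) = true := by decide +kernel

theorem eq42_73 : allR 186734 2558 (fun q => (fun q => Nat.beq (f42 q) (wordR W42 q)) q) = true := by decide +kernel

theorem eq42_74 : allR 189292 2558 (fun q => (fun q => Nat.beq (f42 q) (wordR W42 q)) q) = true := by decide +kernel

theorem eq42_75 : allR 191850 2558 (fun q => (fun q => Nat.beq (f42 q) (wordR W42 q)) q) = true := by decide +kernel

theorem eq42_76 : allR 194408 2558 (fun q => (fun q => Nat.beq (f42 q) (wordR W42 q)) q) = true := by decide +kernel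

theorem eq42_77 : allR 196966 2558 (fun q => (fun q => Nat.beq (f42 q) (wordR W42 q)) q) = true := by decide +kernel

theorem eq42_78 : allR 199524 2558 (fun q => (fun q => Nat.beq (f42 q) (wordR W42 q)) q) = true := by decide +kernel

theorem eq42_79 : allR 202082 2558 (fun q => (fun q => Nat.beq (f42 q) (wordR W42 q)) q) = true := by decide +kernel


end Cfsg.Agent.Fi24Out
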