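import Cfsg.Agent.Lib.Lead.Fi24Out.D42

/-! # The outer automorphism group of Fi₂₄′: the check of the table number 42, slices (generated) -/

set_option autoImplicit false
set_option Elab.async false
set_option maxRecDepth 100000

namespace Cfsg.Agent.Fi24Out

open Cfsg.Agent.PF Cfsg.Agent.Lib.Helper6 Cfsg.Agent.Lib.Helper6.TC
open Cfsg.Agent.PL (Acts evalF)

theorem eq42_80 : allR 204640 2558 (fun q => (fun q => Nat.beq (f42 q) (wordR W42 q)) q) = true := by decide +kernel

theorem eq42_81 : allR 207198 2558 (fun q => (fun q => Nat.beq (f42 q) (wordR W42 q)) q) = true := by decide +kernel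

theorem eq42_82 : allR 209756 2558 (fun q => (fun q => Nat.beq (f42 q) (wordR W42 q)) q) = true := by decide +kernel

theorem eq42_83 : allR 212314 2558 (fun q => (fun q => Nat.beq (f42 q) (wordR W42 q)) q) = true := by decide +kernel

theorem eq42_84 : allR 214872 2558 (fun q => (fun q => Nat.beq (f42 q) (wordR W42 q)) q) = true := by decide +kernel

theorem eq42_85 : allR 217430 2558 (fun q => (fun q => Nat.beq (f42 q) (wordR W42 q)) q) = true := by decide +kernel

theorem eq42_86 : allR 219988 2558 (fun q => (fun q => Nat.beq (f42 q) (wordR W42 q)) q) = true := by decide +kernel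

theorem eq42_87 : allR 222546 2558 (fun q => (fun q => Nat.beq (f42 q) (wordR W42 q)) q) = true := by decide +kernel

theorem eq42_88 : allR 225104 2558 (fun q => (fun q => Nat.beq (f42 q) (wordR W42 q)) q) = true := by decide +kernel

theorem eq42_89 : allR 227662 2558 (fun q => (fun q => Nat.beq (f42 q) (wordR W42 q)) q) = true := by decide +kernel

theorem eq42_90 : allR 230220 2558 (fun q => (fun q => Nat.beq (f42 q) (wordR W42 q)) q) = true := by decide +kernel

theorem eq42_91 : allR 232778 2558 (fun q => (fun q => Nat.beq (f42 q) (wordR W42 q)) q) = true := by decide +kernel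

theorem eq42_92 : allR 235336 2558 (fun q => (fun q => Nat.beq (f42 q) (wordR W42 q)) q) = true := by decide +kernel

theorem eq42_93 : allR 237894 2558 (fun q => (fun q => Nat.beq (f42 q) (wordR W42 q)) q) = true := by decide +kernel

theorem eq42_94 : allR 240452 2558 (fun q => (fun q => Nat.beq (f42 q) (wordR W42 q)) q) = true := by decide +kernel

theorem eq42_95 : allR 243010 2558 (fun q => (fun q => Nat.beq (f42 q) (wordR W42 q)) q) = true := by decide +kernel

theorem eq42_96 : allR 245568 2558 (fun q => (fun q => Nat.beq (f42 q) (wordR W42 q)) q) = true := by decide +kernel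

theorem eq42_97 : allR 248126 2558 (fun q => (fun q => Nat.beq (f42 q) (wordR W42 q)) q) = true := by decide +kernel

theorem eq42_98 : allR 250684 2558 (fun q => (fun q => Nat.beq (f42 q) (wordR W42 q)) q) = true := by decide +kernel

theorem eq42_99 : allR 253242 2558 (fun q => (fun q => Nat.beq (f42 q) (wordR W42 q)) q) = true := by decide +kernel


end Cfsg.Agent.Fi24Out
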