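import Cfsg.Agent.Lib.Lead.Fi24Out.C42_0
import Cfsg.Agent.Lib.Lead.Fi24Out.C42_1
import Cfsg.Agent.Lib.Lead.Fi24Out.C42_2
import Cfsg.Agent.Lib.Lead.Fi24Out.C42_3
import Cfsg.Agent.Lib.Lead.Fi24Out.C42_4
import Cfsg.Agent.Lib.Lead.Fi24Out.C42_5
import Cfsg.Agent.Lib.Lead.Fi24Out.Base0

/-! # The outer automorphism group of Fi₂₄′: the check of the table number 42 (generated) -/

set_option autoImplicit false
set_option maxRecDepth 100000

namespace Cfsg.Agent.Fi24Out

open Cfsg.Agent.PF Cfsg.Agent.Lib.Helper6 Cfsg.Agent.Lib.Helper6.TC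
open Cfsg.Agent.PL (Acts evalF)

theorem eq42_all : ∀ q < 306936, (fun q => Nat.beq (f42 q) (wordR W42 q)) q = true :=
  forall_lt_of_chunks (f := fun q => (fun q => Nat.beq (f42 q) (wordR W42 q)) q) [(0, 2558), (2558, 2558), (5116, 2558), (7674, 2558), (10232, 2558), (12790, 2558), (15348, 2558), (17906, 2558), (20464, 2558), (23022, 2558), (25580, 2558), (28138, 2558), (30696, 2558), (33254, 2558), (35812, 2558), (38370, 2558), (40928, 2558), (43486, 2558), (46044, 2558), (48602, 2558), (51160, 2558), (53718, 2558), (56276, 2558), (58834, 2558), (61392, 2558), (63950, 2558), (66508, 2558), (69066, 2558), (71624, 2558), (74182, 2558), (76740, 2558), (79298, 2558), (81856, 2558), (84414, 2558), (86972, 2558), (89530, 2558), (92088, 2558), (94646, 2558), (97204, 2558), (99762, 2558), (102320, 2558), (104878, 2558), (107436, 2558), (109994, 2558), (112552, 2558), (115110, 2558), (117668, 2558), (120226, 2558), (122784, 2558), (125342, 2558), (127900, 2558), (130458, 2558), (133016, 2558), (135574, 2558), (138132, 2558), (140690, 2558),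 (143248, 2558), (145806, 2558), (148364, 2558), (150922, 2558), (153480, 2558), (156038, 2558), (158596, 2558), (161154, 2558), (163712, 2558), (166270, 2558), (168828, 2558), (171386, 2558), (173944, 2558), (176502, 2558), (179060, 2558), (181618, 2558), (184176, 2558), (186734, 2558), (189292, 2558), (191850, 2558), (194408, 2558), (196966, 2558), (199524, 2558), (202082, 2558), (204640, 2558), (207198, 2558), (209756, 2558), (212314, 2558), (214872, 2558), (217430, 2558), (219988, 2558), (222546, 2558), (225104, 2558), (227662, 2558), (230220, 2558), (232778, 2558), (235336, 2558), (237894, 2558), (240452, 2558), (243010, 2558), (245568, 2558), (248126, 2558), (250684, 2558), (253242, 2558), (255800, 2558), (258358, 2558), (260916, 2558), (263474, 2558), (266032, 2558), (268590, 2558), (271148, 2558), (273706, 2558), (276264, 2558), (278822, 2558), (281380, 2558), (283938, 2558), (286496, 2558), (289054, 2558), (291612, 2558), (294170, 2558), (296728, 2558), (299286, 2558), (301844, 2558), (304402, 2534)] (by decide)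
    (all_cons eq42_0 (all_cons eq42_1 (all_cons eq42_2 (all_cons eq42_3 (all_cons eq42_4 (all_cons eq42_5 (all_cons eq42_6 (all_cons eq42_7 (all_cons eq42_8 (all_cons eq42_9 (all_cons eq42_10 (all_cons eq42_11 (all_cons eq42_12 (all_cons eq42_13 (all_cons eq42_14 (all_cons eq42_15 (all_cons eq42_16 (all_cons eq42_17 (all_cons eq42_18 (all_cons eq42_19 (all_cons eq42_20 (all_cons eq42_21 (all_cons eq42_22 (all_cons eq42_23 (all_cons eq42_24 (all_cons eq42_25 (all_cons eq42_26 (all_cons eq42_27 (all_cons eq42_28 (all_cons eq42_29 (all_cons eq42_30 (all_cons eq42_31 (all_cons eq42_32 (all_cons eq42_33 (all_cons eq42_34 (all_cons eq42_35 (all_cons eq42_36 (all_cons eq42_37 (all_cons eq42_38 (all_cons eq42_39 (all_cons eq42_40 (all_cons eq42_41 (all_cons eq42_42 (all_cons eq42_43 (all_cons eq42_44 (all_cons eq42_45 (all_cons eq42_46 (all_cons eq42_47 (all_cons eq42_48 (all_cons eq42_49 (all_cons eq42_50 (all_cons eq42_51 (all_cons eq42_52 (all_cons eq42_53 (all_cons eq42_54 (all_cons eq42_55 (all_cons eq42_56 (all_cons eq42_57 (all_cons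 eq42_58 (all_cons eq42_59 (all_cons eq42_60 (all_cons eq42_61 (all_cons eq42_62 (all_cons eq42_63 (all_cons eq42_64 (all_cons eq42_65 (all_cons eq42_66 (all_cons eq42_67 (all_cons eq42_68 (all_cons eq42_69 (all_cons eq42_70 (all_cons eq42_71 (all_cons eq42_72 (all_cons eq42_73 (all_cons eq42_74 (all_cons eq42_75 (all_cons eq42_76 (all_cons eq42_77 (all_cons eq42_78 (all_cons eq42_79 (all_cons eq42_80 (all_cons eq42_81 (all_cons eq42_82 (all_cons eq42_83 (all_cons eq42_84 (all_cons eq42_85 (all_cons eq42_86 (all_cons eq42_87 (all_cons eq42_88 (all_cons eq42_89 (all_cons eq42_90 (all_cons eq42_91 (all_cons eq42_92 (all_cons eq42_93 (all_cons eq42_94 (all_cons eq42_95 (all_cons eq42_96 (all_cons eq42_97 (all_cons eq42_98 (all_cons eq42_99 (all_cons eq42_100 (all_cons eq42_101 (all_cons eq42_102 (all_cons eq42_103 (all_cons eq42_104 (all_cons eq42_105 (all_cons eq42_106 (all_cons eq42_107 (all_cons eq42_108 (all_cons eq42_109 (all_cons eq42_110 (all_cons eq42_111 (all_cons eq42_112 (all_cons eq42_113 (all_cons eq42_114 (all_cons eq42_115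 (all_cons eq42_116 (all_cons eq42_117 (all_cons eq42_118 (all_cons eq42_119 all_nil))))))))))))))))))))))))))))))))))))))))))))))))))))))))))))))))))))))))))))))))))))))))))))))))))))))))))))))))))))))))

/-- the table agrees with the word -/
theorem eq42 : ∀ q < 306936, f42 q = wordR W42 q :=
  fun q hq => Nat.eq_of_beq_eq_true (eq42_all q hq)

end Cfsg.Agent.Fi24Out
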