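import Cfsg.Agent.Lib.Lead.Fi24Out.D42

/-! # The outer automorphism group of Fi₂₄′: the check of the table number 42, slices (generated) -/

set_option autoImplicit false
set_option Elab.async false
set_option maxRecDepth 100000

namespace Cfsg.Agent.Fi24Out

open Cfsg.Agent.PF Cfsg.Agent.Lib.Helper6 Cfsg.Agent.Lib.Helper6.TC
open Cfsg.Agent.PL (Acts evalF)

theorem eq42_0 : allR 0 2558 (fun q => (fun q => Nat.beq (f42 q) (wordR W42 q)) q) = true := by decide +kernel

theorem eq42_1 : allR 2558 2558 (fun q => (fun q => Nat.beq (f42 q) (wordR W42 q)) q) = true := by decide +kernel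

theorem eq42_2 : allR 5116 2558 (fun q => (fun q => Nat.beq (f42 q) (wordR W42 q)) q) = true := by decide +kernel

theorem eq42_3 : allR 7674 2558 (fun q => (fun q => Nat.beq (f42 q) (wordR W42 q)) q) = true := by decide +kernel

theorem eq42_4 : allR 10232 2558 (fun q => (fun q => Nat.beq (f42 q) (wordR W42 q)) q) = true := by decide +kernel

theorem eq42_5 : allR 12790 2558 (fun q => (fun q => Nat.beq (f42 q) (wordR W42 q)) q) = true := by decide +kernel

theorem eq42_6 : allR 15348 2558 (fun q => (fun q => Nat.beq (f42 q) (wordR W42 q)) q) = true := by decide +kernel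

theorem eq42_7 : allR 17906 2558 (fun q => (fun q => Nat.beq (f42 q) (wordR W42 q)) q) = true := by decide +kernel

theorem eq42_8 : allR 20464 2558 (fun q => (fun q => Nat.beq (f42 q) (wordR W42 q)) q) = true := by decide +kernel

theorem eq42_9 : allR 23022 2558 (fun q => (fun q => Nat.beq (f42 q) (wordR W42 q)) q) = true := by decide +kernel

theorem eq42_10 : allR 25580 2558 (fun q => (fun q => Nat.beq (f42 q) (wordR W42 q)) q) = true := by decide +kernel

theorem eq42_11 : allR 28138 2558 (fun q => (fun q => Nat.beq (f42 q) (wordR W42 q)) q) = true := by decide +kernel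

theorem eq42_12 : allR 30696 2558 (fun q => (fun q => Nat.beq (f42 q) (wordR W42 q)) q) = true := by decide +kernel

theorem eq42_13 : allR 33254 2558 (fun q => (fun q => Nat.beq (f42 q) (wordR W42 q)) q) = true := by decide +kernel

theorem eq42_14 : allR 35812 2558 (fun q => (fun q => Nat.beq (f42 q) (wordR W42 q)) q) = true := by decide +kernel

theorem eq42_15 : allR 38370 2558 (fun q => (fun q => Nat.beq (f42 q) (wordR W42 q)) q) = true := by decide +kernel

theorem eq42_16 : allR 40928 2558 (fun q => (fun q => Nat.beq (f42 q) (wordR W42 q)) q) = true := by decide +kernel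

theorem eq42_17 : allR 43486 2558 (fun q => (fun q => Nat.beq (f42 q) (wordR W42 q)) q) = true := by decide +kernel

theorem eq42_18 : allR 46044 2558 (fun q => (fun q => Nat.beq (f42 q) (wordR W42 q)) q) = true := by decide +kernel

theorem eq42_19 : allR 48602 2558 (fun q => (fun q => Nat.beq (f42 q) (wordR W42 q)) q) = true := by decide +kernel


end Cfsg.Agent.Fi24Out
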