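import Cfsg.Agent.Lib.Lead.Fi24Out.D43

/-! # The outer automorphism group of Fi₂₄′: the check of the table number 43, slices (generated) -/

set_option autoImplicit false
set_option Elab.async false
set_option maxRecDepth 100000

namespace Cfsg.Agent.Fi24Out

open Cfsg.Agent.PF Cfsg.Agent.Lib.Helper6 Cfsg.Agent.Lib.Helper6.TC
open Cfsg.Agent.PL (Acts evalF)

theorem eq43_20 : allR 53860 2693 (fun q => (fun q => Nat.beq (f43 q) (wordR W43 q)) q) = true := by decide +kernel

theorem eq43_21 : allR 56553 2693 (fun q => (fun q => Nat.beq (f43 q) (wordR W43 q)) q) = true := by decide +kernel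

theorem eq43_22 : allR 59246 2693 (fun q => (fun q => Nat.beq (f43 q) (wordR W43 q)) q) = true := by decide +kernel

theorem eq43_23 : allR 61939 2693 (fun q => (fun q => Nat.beq (f43 q) (wordR W43 q)) q) = true := by decide +kernel

theorem eq43_24 : allR 64632 2693 (fun q => (fun q => Nat.beq (f43 q) (wordR W43 q)) q) = true := by decide +kernel

theorem eq43_25 : allR 67325 2693 (fun q => (fun q => Nat.beq (f43 q) (wordR W43 q)) q) = true := by decide +kernel

theorem eq43_26 : allR 70018 2693 (fun q => (fun q => Nat.beq (f43 q) (wordR W43 q)) q) = true := by decide +kernel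

theorem eq43_27 : allR 72711 2693 (fun q => (fun q => Nat.beq (f43 q) (wordR W43 q)) q) = true := by decide +kernel

theorem eq43_28 : allR 75404 2693 (fun q => (fun q => Nat.beq (f43 q) (wordR W43 q)) q) = true := by decide +kernel

theorem eq43_29 : allR 78097 2693 (fun q => (fun q => Nat.beq (f43 q) (wordR W43 q)) q) = true := by decide +kernel

theorem eq43_30 : allR 80790 2693 (fun q => (fun q => Nat.beq (f43 q) (wordR W43 q)) q) = true := by decide +kernel

theorem eq43_31 : allR 83483 2693 (fun q => (fun q => Nat.beq (f43 q) (wordR W43 q)) q) = true := by decide +kernel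

theorem eq43_32 : allR 86176 2693 (fun q => (fun q => Nat.beq (f43 q) (wordR W43 q)) q) = true := by decide +kernel

theorem eq43_33 : allR 88869 2693 (fun q => (fun q => Nat.beq (f43 q) (wordR W43 q)) q) = true := by decide +kernel

theorem eq43_34 : allR 91562 2693 (fun q => (fun q => Nat.beq (f43 q) (wordR W43 q)) q) = true := by decide +kernel

theorem eq43_35 : allR 94255 2693 (fun q => (fun q => Nat.beq (f43 q) (wordR W43 q)) q) = true := by decide +kernel

theorem eq43_36 : allR 96948 2693 (fun q => (fun q => Nat.beq (f43 q) (wordR W43 q)) q) = true := by decide +kernel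

theorem eq43_37 : allR 99641 2693 (fun q => (fun q => Nat.beq (f43 q) (wordR W43 q)) q) = true := by decide +kernel

theorem eq43_38 : allR 102334 2693 (fun q => (fun q => Nat.beq (f43 q) (wordR W43 q)) q) = true := by decide +kernel

theorem eq43_39 : allR 105027 2693 (fun q => (fun q => Nat.beq (f43 q) (wordR W43 q)) q) = true := by decide +kernel


end Cfsg.Agent.Fi24Out
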