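import Cfsg.Agent.Lib.Lead.Fi24Out.D43

/-! # The outer automorphism group of Fi₂₄′: the check of the table number 43, slices (generated) -/

set_option autoImplicit false
set_option Elab.async false
set_option maxRecDepth 100000

namespace Cfsg.Agent.Fi24Out

open Cfsg.Agent.PF Cfsg.Agent.Lib.Helper6 Cfsg.Agent.Lib.Helper6.TC
open Cfsg.Agent.PL (Acts evalF)

theorem eq43_40 : allR 107720 2693 (fun q => (fun q => Nat.beq (f43 q) (wordR W43 q)) q) = true := by decide +kernel

theorem eq43_41 : allR 110413 2693 (fun q => (fun q => Nat.beq (f43 q) (wordR W43 q)) q) = true := by decide +kernel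

theorem eq43_42 : allR 113106 2693 (fun q => (fun q => Nat.beq (f43 q) (wordR W43 q)) q) = true := by decide +kernel

theorem eq43_43 : allR 115799 2693 (fun q => (fun q => Nat.beq (f43 q) (wordR W43 q)) q) = true := by decide +kernel

theorem eq43_44 : allR 118492 2693 (fun q => (fun q => Nat.beq (f43 q) (wordR W43 q)) q) = true := by decide +kernel

theorem eq43_45 : allR 121185 2693 (fun q => (fun q => Nat.beq (f43 q) (wordR W43 q)) q) = true := by decide +kernel

theorem eq43_46 : allR 123878 2693 (fun q => (fun q => Nat.beq (f43 q) (wordR W43 q)) q) = true := by decide +kernel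

theorem eq43_47 : allR 126571 2693 (fun q => (fun q => Nat.beq (f43 q) (wordR W43 q)) q) = true := by decide +kernel

theorem eq43_48 : allR 129264 2693 (fun q => (fun q => Nat.beq (f43 q) (wordR W43 q)) q) = true := by decide +kernel

theorem eq43_49 : allR 131957 2693 (fun q => (fun q => Nat.beq (f43 q) (wordR W43 q)) q) = true := by decide +kernel

theorem eq43_50 : allR 134650 2693 (fun q => (fun q => Nat.beq (f43 q) (wordR W43 q)) q) = true := by decide +kernel

theorem eq43_51 : allR 137343 2693 (fun q => (fun q => Nat.beq (f43 q) (wordR W43 q)) q) = true := by decide +kernel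

theorem eq43_52 : allR 140036 2693 (fun q => (fun q => Nat.beq (f43 q) (wordR W43 q)) q) = true := by decide +kernel

theorem eq43_53 : allR 142729 2693 (fun q => (fun q => Nat.beq (f43 q) (wordR W43 q)) q) = true := by decide +kernel

theorem eq43_54 : allR 145422 2693 (fun q => (fun q => Nat.beq (f43 q) (wordR W43 q)) q) = true := by decide +kernel

theorem eq43_55 : allR 148115 2693 (fun q => (fun q => Nat.beq (f43 q) (wordR W43 q)) q) = true := by decide +kernel

theorem eq43_56 : allR 150808 2693 (fun q => (fun q => Nat.beq (f43 q) (wordR W43 q)) q) = true := by decide +kernel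

theorem eq43_57 : allR 153501 2693 (fun q => (fun q => Nat.beq (f43 q) (wordR W43 q)) q) = true := by decide +kernel

theorem eq43_58 : allR 156194 2693 (fun q => (fun q => Nat.beq (f43 q) (wordR W43 q)) q) = true := by decide +kernel

theorem eq43_59 : allR 158887 2693 (fun q => (fun q => Nat.beq (f43 q) (wordR W43 q)) q) = true := by decide +kernel


end Cfsg.Agent.Fi24Out
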