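import Cfsg.Agent.Lib.Lead.Fi24Out.D43

/-! # The outer automorphism group of Fi₂₄′: the check of the table number 43, slices (generated) -/

set_option autoImplicit false
set_option Elab.async false
set_option maxRecDepth 100000

namespace Cfsg.Agent.Fi24Out

open Cfsg.Agent.PF Cfsg.Agent.Lib.Helper6 Cfsg.Agent.Lib.Helper6.TC
open Cfsg.Agent.PL (Acts evalF)

theorem eq43_60 : allR 161580 2693 (fun q => (fun q => Nat.beq (f43 q) (wordR W43 q)) q) = true := by decide +kernel

theorem eq43_61 : allR 164273 2693 (fun q => (fun q => Nat.beq (f43 q) (wordR W43 q)) q) = true := by decide +kernel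

theorem eq43_62 : allR 166966 2693 (fun q => (fun q => Nat.beq (f43 q) (wordR W43 q)) q) = true := by decide +kernel

theorem eq43_63 : allR 169659 2693 (fun q => (fun q => Nat.beq (f43 q) (wordR W43 q)) q) = true := by decide +kernel

theorem eq43_64 : allR 172352 2693 (fun q => (fun q => Nat.beq (f43 q) (wordR W43 q)) q) = true := by decide +kernel

theorem eq43_65 : allR 175045 2693 (fun q => (fun q => Nat.beq (f43 q) (wordR W43 q)) q) = true := by decide +kernel

theorem eq43_66 : allR 177738 2693 (fun q => (fun q => Nat.beq (f43 q) (wordR W43 q)) q) = true := by decide +kernel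

theorem eq43_67 : allR 180431 2693 (fun q => (fun q => Nat.beq (f43 q) (wordR W43 q)) q) = true := by decide +kernel

theorem eq43_68 : allR 183124 2693 (fun q => (fun q => Nat.beq (f43 q) (wordR W43 q)) q) = true := by decide +kernel

theorem eq43_69 : allR 185817 2693 (fun q => (fun q => Nat.beq (f43 q) (wordR W43 q)) q) = true := by decide +kernel

theorem eq43_70 : allR 188510 2693 (fun q => (fun q => Nat.beq (f43 q) (wordR W43 q)) q) = true := by decide +kernel

theorem eq43_71 : allR 191203 2693 (fun q => (fun q => Nat.beq (f43 q) (wordR W43 q)) q) = true := by decide +kernel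

theorem eq43_72 : allR 193896 2693 (fun q => (fun q => Nat.beq (f43 q) (wordR W43 q)) q) = true := by decide +kernel

theorem eq43_73 : allR 196589 2693 (fun q => (fun q => Nat.beq (f43 q) (wordR W43 q)) q) = true := by decide +kernel

theorem eq43_74 : allR 199282 2693 (fun q => (fun q => Nat.beq (f43 q) (wordR W43 q)) q) = true := by decide +kernel

theorem eq43_75 : allR 201975 2693 (fun q => (fun q => Nat.beq (f43 q) (wordR W43 q)) q) = true := by decide +kernel

theorem eq43_76 : allR 204668 2693 (fun q => (fun q => Nat.beq (f43 q) (wordR W43 q)) q) = true := by decide +kernel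

theorem eq43_77 : allR 207361 2693 (fun q => (fun q => Nat.beq (f43 q) (wordR W43 q)) q) = true := by decide +kernel

theorem eq43_78 : allR 210054 2693 (fun q => (fun q => Nat.beq (f43 q) (wordR W43 q)) q) = true := by decide +kernel

theorem eq43_79 : allR 212747 2693 (fun q => (fun q => Nat.beq (f43 q) (wordR W43 q)) q) = true := by decide +kernel


end Cfsg.Agent.Fi24Out
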