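import Cfsg.Agent.Lib.Lead.Fi24Out.D43

/-! # The outer automorphism group of Fi₂₄′: the check of the table number 43, slices (generated) -/

set_option autoImplicit false
set_option Elab.async false
set_option maxRecDepth 100000

namespace Cfsg.Agent.Fi24Out

open Cfsg.Agent.PF Cfsg.Agent.Lib.Helper6 Cfsg.Agent.Lib.Helper6.TC
open Cfsg.Agent.PL (Acts evalF)

theorem eq43_80 : allR 215440 2693 (fun q => (fun q => Nat.beq (f43 q) (wordR W43 q)) q) = true := by decide +kernel

theorem eq43_81 : allR 218133 2693 (fun q => (fun q => Nat.beq (f43 q) (wordR W43 q)) q) = true := by decide +kernel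

theorem eq43_82 : allR 220826 2693 (fun q => (fun q => Nat.beq (f43 q) (wordR W43 q)) q) = true := by decide +kernel

theorem eq43_83 : allR 223519 2693 (fun q => (fun q => Nat.beq (f43 q) (wordR W43 q)) q) = true := by decide +kernel

theorem eq43_84 : allR 226212 2693 (fun q => (fun q => Nat.beq (f43 q) (wordR W43 q)) q) = true := by decide +kernel

theorem eq43_85 : allR 228905 2693 (fun q => (fun q => Nat.beq (f43 q) (wordR W43 q)) q) = true := by decide +kernel

theorem eq43_86 : allR 231598 2693 (fun q => (fun q => Nat.beq (f43 q) (wordR W43 q)) q) = true := by decide +kernel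

theorem eq43_87 : allR 234291 2693 (fun q => (fun q => Nat.beq (f43 q) (wordR W43 q)) q) = true := by decide +kernel

theorem eq43_88 : allR 236984 2693 (fun q => (fun q => Nat.beq (f43 q) (wordR W43 q)) q) = true := by decide +kernel

theorem eq43_89 : allR 239677 2693 (fun q => (fun q => Nat.beq (f43 q) (wordR W43 q)) q) = true := by decide +kernel

theorem eq43_90 : allR 242370 2693 (fun q => (fun q => Nat.beq (f43 q) (wordR W43 q)) q) = true := by decide +kernel

theorem eq43_91 : allR 245063 2693 (fun q => (fun q => Nat.beq (f43 q) (wordR W43 q)) q) = true := by decide +kernel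

theorem eq43_92 : allR 247756 2693 (fun q => (fun q => Nat.beq (f43 q) (wordR W43 q)) q) = true := by decide +kernel

theorem eq43_93 : allR 250449 2693 (fun q => (fun q => Nat.beq (f43 q) (wordR W43 q)) q) = true := by decide +kernel

theorem eq43_94 : allR 253142 2693 (fun q => (fun q => Nat.beq (f43 q) (wordR W43 q)) q) = true := by decide +kernel

theorem eq43_95 : allR 255835 2693 (fun q => (fun q => Nat.beq (f43 q) (wordR W43 q)) q) = true := by decide +kernel

theorem eq43_96 : allR 258528 2693 (fun q => (fun q => Nat.beq (f43 q) (wordR W43 q)) q) = true := by decide +kernel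

theorem eq43_97 : allR 261221 2693 (fun q => (fun q => Nat.beq (f43 q) (wordR W43 q)) q) = true := by decide +kernel

theorem eq43_98 : allR 263914 2693 (fun q => (fun q => Nat.beq (f43 q) (wordR W43 q)) q) = true := by decide +kernel

theorem eq43_99 : allR 266607 2693 (fun q => (fun q => Nat.beq (f43 q) (wordR W43 q)) q) = true := by decide +kernel


end Cfsg.Agent.Fi24Out
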