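import Cfsg.Agent.Lib.Lead.Fi24Out.C43_0
import Cfsg.Agent.Lib.Lead.Fi24Out.C43_1
import Cfsg.Agent.Lib.Lead.Fi24Out.C43_2
import Cfsg.Agent.Lib.Lead.Fi24Out.C43_3
import Cfsg.Agent.Lib.Lead.Fi24Out.C43_4
import Cfsg.Agent.Lib.Lead.Fi24Out.C43_5
import Cfsg.Agent.Lib.Lead.Fi24Out.Base0

/-! # The outer automorphism group of Fi₂₄′: the check of the table number 43 (generated) -/

set_option autoImplicit false
set_option maxRecDepth 100000

namespace Cfsg.Agent.Fi24Out

open Cfsg.Agent.PF Cfsg.Agent.Lib.Helper6 Cfsg.Agent.Lib.Helper6.TC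
open Cfsg.Agent.PL (Acts evalF)

theorem eq43_all : ∀ q < 306936, (fun q => Nat.beq (f43 q) (wordR W43 q)) q = true :=
  forall_lt_of_chunks (f := fun q => (fun q => Nat.beq (f43 q) (wordR W43 q)) q) [(0, 2693), (2693, 2693), (5386, 2693), (8079, 2693), (10772, 2693), (13465, 2693), (16158, 2693), (18851, 2693), (21544, 2693), (24237, 2693), (26930, 2693), (29623, 2693), (32316, 2693), (35009, 2693), (37702, 2693), (40395, 2693), (43088, 2693), (45781, 2693), (48474, 2693), (51167, 2693), (53860, 2693), (56553, 2693), (59246, 2693), (61939, 2693), (64632, 2693), (67325, 2693), (70018, 2693), (72711, 2693), (75404, 2693), (78097, 2693), (80790, 2693), (83483, 2693), (86176, 2693), (88869, 2693), (91562, 2693), (94255, 2693), (96948, 2693), (99641, 2693), (102334, 2693), (105027, 2693), (107720, 2693), (110413, 2693), (113106, 2693), (115799, 2693), (118492, 2693), (121185, 2693), (123878, 2693), (126571, 2693), (129264, 2693), (131957, 2693), (134650, 2693), (137343, 2693), (140036, 2693), (142729, 2693), (145422, 2693), (148115,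 2693), (150808, 2693), (153501, 2693), (156194, 2693), (158887, 2693), (161580, 2693), (164273, 2693), (166966, 2693), (169659, 2693), (172352, 2693), (175045, 2693), (177738, 2693), (180431, 2693), (183124, 2693), (185817, 2693), (188510, 2693), (191203, 2693), (193896, 2693), (196589, 2693), (199282, 2693), (201975, 2693), (204668, 2693), (207361, 2693), (210054, 2693), (212747, 2693), (215440, 2693), (218133, 2693), (220826, 2693), (223519, 2693), (226212, 2693), (228905, 2693), (231598, 2693), (234291, 2693), (236984, 2693), (239677, 2693), (242370, 2693), (245063, 2693), (247756, 2693), (250449, 2693), (253142, 2693), (255835, 2693), (258528, 2693), (261221, 2693), (263914, 2693), (266607, 2693), (269300, 2693), (271993, 2693), (274686, 2693), (277379, 2693), (280072, 2693), (282765, 2693), (285458, 2693), (288151, 2693), (290844, 2693), (293537, 2693), (296230, 2693), (298923, 2693), (301616, 2693), (304309, 2627)] (by decide)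
    (all_cons eq43_0 (all_cons eq43_1 (all_cons eq43_2 (all_cons eq43_3 (all_cons eq43_4 (all_cons eq43_5 (all_cons eq43_6 (all_cons eq43_7 (all_cons eq43_8 (all_cons eq43_9 (all_cons eq43_10 (all_cons eq43_11 (all_cons eq43_12 (all_cons eq43_13 (all_cons eq43_14 (all_cons eq43_15 (all_cons eq43_16 (all_cons eq43_17 (all_cons eq43_18 (all_cons eq43_19 (all_cons eq43_20 (all_cons eq43_21 (all_cons eq43_22 (all_cons eq43_23 (all_cons eq43_24 (all_cons eq43_25 (all_cons eq43_26 (all_cons eq43_27 (all_cons eq43_28 (all_cons eq43_29 (all_cons eq43_30 (all_cons eq43_31 (all_cons eq43_32 (all_cons eq43_33 (all_cons eq43_34 (all_cons eq43_35 (all_cons eq43_36 (all_cons eq43_37 (all_cons eq43_38 (all_cons eq43_39 (all_cons eq43_40 (all_cons eq43_41 (all_cons eq43_42 (all_cons eq43_43 (all_cons eq43_44 (all_cons eq43_45 (all_cons eq43_46 (all_cons eq43_47 (all_cons eq43_48 (all_cons eq43_49 (all_cons eq43_50 (all_cons eq43_51 (all_cons eq43_52 (all_cons eq43_53 (all_cons eq43_54 (all_cons eq43_55 (all_cons eq43_56 (all_cons eq43_57 (all_cons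 eq43_58 (all_cons eq43_59 (all_cons eq43_60 (all_cons eq43_61 (all_cons eq43_62 (all_cons eq43_63 (all_cons eq43_64 (all_cons eq43_65 (all_cons eq43_66 (all_cons eq43_67 (all_cons eq43_68 (all_cons eq43_69 (all_cons eq43_70 (all_cons eq43_71 (all_cons eq43_72 (all_cons eq43_73 (all_cons eq43_74 (all_cons eq43_75 (all_cons eq43_76 (all_cons eq43_77 (all_cons eq43_78 (all_cons eq43_79 (all_cons eq43_80 (all_cons eq43_81 (all_cons eq43_82 (all_cons eq43_83 (all_cons eq43_84 (all_cons eq43_85 (all_cons eq43_86 (all_cons eq43_87 (all_cons eq43_88 (all_cons eq43_89 (all_cons eq43_90 (all_cons eq43_91 (all_cons eq43_92 (all_cons eq43_93 (all_cons eq43_94 (all_cons eq43_95 (all_cons eq43_96 (all_cons eq43_97 (all_cons eq43_98 (all_cons eq43_99 (all_cons eq43_100 (all_cons eq43_101 (all_cons eq43_102 (all_cons eq43_103 (all_cons eq43_104 (all_cons eq43_105 (all_cons eq43_106 (all_cons eq43_107 (all_cons eq43_108 (all_cons eq43_109 (all_cons eq43_110 (all_cons eq43_111 (all_cons eq43_112 (all_cons eq43_113 all_nil))))))))))))))))))))))))))))))))))))))))))))))))))))))))))))))))))))))))))))))))))))))))))))))))))))))))))))))))))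

/-- the table agrees with the word -/
theorem eq43 : ∀ q < 306936, f43 q = wordR W43 q :=
  fun q hq => Nat.eq_of_beq_eq_true (eq43_all q hq)

end Cfsg.Agent.Fi24Out
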