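import Cfsg.Agent.Lib.Lead.Fi24Out.D43

/-! # The outer automorphism group of Fi₂₄′: the check of the table number 43, slices (generated) -/

set_option autoImplicit false
set_option Elab.async false
set_option maxRecDepth 100000

namespace Cfsg.Agent.Fi24Out

open Cfsg.Agent.PF Cfsg.Agent.Lib.Helper6 Cfsg.Agent.Lib.Helper6.TC
open Cfsg.Agent.PL (Acts evalF)

theorem eq43_0 : allR 0 2693 (fun q => (fun q => Nat.beq (f43 q) (wordR W43 q)) q) = true := by decide +kernel

theorem eq43_1 : allR 2693 2693 (fun q => (fun q => Nat.beq (f43 q) (wordR W43 q)) q) = true := by decide +kernel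

theorem eq43_2 : allR 5386 2693 (fun q => (fun q => Nat.beq (f43 q) (wordR W43 q)) q) = true := by decide +kernel

theorem eq43_3 : allR 8079 2693 (fun q => (fun q => Nat.beq (f43 q) (wordR W43 q)) q) = true := by decide +kernel

theorem eq43_4 : allR 10772 2693 (fun q => (fun q => Nat.beq (f43 q) (wordR W43 q)) q) = true := by decide +kernel

theorem eq43_5 : allR 13465 2693 (fun q => (fun q => Nat.beq (f43 q) (wordR W43 q)) q) = true := by decide +kernel

theorem eq43_6 : allR 16158 2693 (fun q => (fun q => Nat.beq (f43 q) (wordR W43 q)) q) = true := by decide +kernel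

theorem eq43_7 : allR 18851 2693 (fun q => (fun q => Nat.beq (f43 q) (wordR W43 q)) q) = true := by decide +kernel

theorem eq43_8 : allR 21544 2693 (fun q => (fun q => Nat.beq (f43 q) (wordR W43 q)) q) = true := by decide +kernel

theorem eq43_9 : allR 24237 2693 (fun q => (fun q => Nat.beq (f43 q) (wordR W43 q)) q) = true := by decide +kernel

theorem eq43_10 : allR 26930 2693 (fun q => (fun q => Nat.beq (f43 q) (wordR W43 q)) q) = true := by decide +kernel

theorem eq43_11 : allR 29623 2693 (fun q => (fun q => Nat.beq (f43 q) (wordR W43 q)) q) = true := by decide +kernel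

theorem eq43_12 : allR 32316 2693 (fun q => (fun q => Nat.beq (f43 q) (wordR W43 q)) q) = true := by decide +kernel

theorem eq43_13 : allR 35009 2693 (fun q => (fun q => Nat.beq (f43 q) (wordR W43 q)) q) = true := by decide +kernel

theorem eq43_14 : allR 37702 2693 (fun q => (fun q => Nat.beq (f43 q) (wordR W43 q)) q) = true := by decide +kernel

theorem eq43_15 : allR 40395 2693 (fun q => (fun q => Nat.beq (f43 q) (wordR W43 q)) q) = true := by decide +kernel

theorem eq43_16 : allR 43088 2693 (fun q => (fun q => Nat.beq (f43 q) (wordR W43 q)) q) = true := by decide +kernel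

theorem eq43_17 : allR 45781 2693 (fun q => (fun q => Nat.beq (f43 q) (wordR W43 q)) q) = true := by decide +kernel

theorem eq43_18 : allR 48474 2693 (fun q => (fun q => Nat.beq (f43 q) (wordR W43 q)) q) = true := by decide +kernel

theorem eq43_19 : allR 51167 2693 (fun q => (fun q => Nat.beq (f43 q) (wordR W43 q)) q) = true := by decide +kernel


end Cfsg.Agent.Fi24Out
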