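import Cfsg.Agent.Lib.Lead.Fi24Out.D44

/-! # The outer automorphism group of Fi₂₄′: the check of the table number 44, slices (generated) -/

set_option autoImplicit false
set_option Elab.async false
set_option maxRecDepth 100000

namespace Cfsg.Agent.Fi24Out

open Cfsg.Agent.PF Cfsg.Agent.Lib.Helper6 Cfsg.Agent.Lib.Helper6.TC
open Cfsg.Agent.PL (Acts evalF)

theorem eq44_20 : allR 38380 1919 (fun q => (fun q => Nat.beq (f44 q) (wordR W44 q)) q) = true := by decide +kernel

theorem eq44_21 : allR 40299 1919 (fun q => (fun q => Nat.beq (f44 q) (wordR W44 q)) q) = true := by decide +kernel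

theorem eq44_22 : allR 42218 1919 (fun q => (fun q => Nat.beq (f44 q) (wordR W44 q)) q) = true := by decide +kernel

theorem eq44_23 : allR 44137 1919 (fun q => (fun q => Nat.beq (f44 q) (wordR W44 q)) q) = true := by decide +kernel

theorem eq44_24 : allR 46056 1919 (fun q => (fun q => Nat.beq (f44 q) (wordR W44 q)) q) = true := by decide +kernel

theorem eq44_25 : allR 47975 1919 (fun q => (fun q => Nat.beq (f44 q) (wordR W44 q)) q) = true := by decide +kernel

theorem eq44_26 : allR 49894 1919 (fun q => (fun q => Nat.beq (f44 q) (wordR W44 q)) q) = true := by decide +kernel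

theorem eq44_27 : allR 51813 1919 (fun q => (fun q => Nat.beq (f44 q) (wordR W44 q)) q) = true := by decide +kernel

theorem eq44_28 : allR 53732 1919 (fun q => (fun q => Nat.beq (f44 q) (wordR W44 q)) q) = true := by decide +kernel

theorem eq44_29 : allR 55651 1919 (fun q => (fun q => Nat.beq (f44 q) (wordR W44 q)) q) = true := by decide +kernel

theorem eq44_30 : allR 57570 1919 (fun q => (fun q => Nat.beq (f44 q) (wordR W44 q)) q) = true := by decide +kernel

theorem eq44_31 : allR 59489 1919 (fun q => (fun q => Nat.beq (f44 q) (wordR W44 q)) q) = true := by decide +kernel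

theorem eq44_32 : allR 61408 1919 (fun q => (fun q => Nat.beq (f44 q) (wordR W44 q)) q) = true := by decide +kernel

theorem eq44_33 : allR 63327 1919 (fun q => (fun q => Nat.beq (f44 q) (wordR W44 q)) q) = true := by decide +kernel

theorem eq44_34 : allR 65246 1919 (fun q => (fun q => Nat.beq (f44 q) (wordR W44 q)) q) = true := by decide +kernel

theorem eq44_35 : allR 67165 1919 (fun q => (fun q => Nat.beq (f44 q) (wordR W44 q)) q) = true := by decide +kernel

theorem eq44_36 : allR 69084 1919 (fun q => (fun q => Nat.beq (f44 q) (wordR W44 q)) q) = true := by decide +kernel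

theorem eq44_37 : allR 71003 1919 (fun q => (fun q => Nat.beq (f44 q) (wordR W44 q)) q) = true := by decide +kernel

theorem eq44_38 : allR 72922 1919 (fun q => (fun q => Nat.beq (f44 q) (wordR W44 q)) q) = true := by decide +kernel

theorem eq44_39 : allR 74841 1919 (fun q => (fun q => Nat.beq (f44 q) (wordR W44 q)) q) = true := by decide +kernel


end Cfsg.Agent.Fi24Out
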