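import Cfsg.Agent.Lib.Lead.Fi24Out.D44

/-! # The outer automorphism group of Fi₂₄′: the check of the table number 44, slices (generated) -/

set_option autoImplicit false
set_option Elab.async false
set_option maxRecDepth 100000

namespace Cfsg.Agent.Fi24Out

open Cfsg.Agent.PF Cfsg.Agent.Lib.Helper6 Cfsg.Agent.Lib.Helper6.TC
open Cfsg.Agent.PL (Acts evalF)

theorem eq44_40 : allR 76760 1919 (fun q => (fun q => Nat.beq (f44 q) (wordR W44 q)) q) = true := by decide +kernel

theorem eq44_41 : allR 78679 1919 (fun q => (fun q => Nat.beq (f44 q) (wordR W44 q)) q) = true := by decide +kernel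

theorem eq44_42 : allR 80598 1919 (fun q => (fun q => Nat.beq (f44 q) (wordR W44 q)) q) = true := by decide +kernel

theorem eq44_43 : allR 82517 1919 (fun q => (fun q => Nat.beq (f44 q) (wordR W44 q)) q) = true := by decide +kernel

theorem eq44_44 : allR 84436 1919 (fun q => (fun q => Nat.beq (f44 q) (wordR W44 q)) q) = true := by decide +kernel

theorem eq44_45 : allR 86355 1919 (fun q => (fun q => Nat.beq (f44 q) (wordR W44 q)) q) = true := by decide +kernel

theorem eq44_46 : allR 88274 1919 (fun q => (fun q => Nat.beq (f44 q) (wordR W44 q)) q) = true := by decide +kernel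

theorem eq44_47 : allR 90193 1919 (fun q => (fun q => Nat.beq (f44 q) (wordR W44 q)) q) = true := by decide +kernel

theorem eq44_48 : allR 92112 1919 (fun q => (fun q => Nat.beq (f44 q) (wordR W44 q)) q) = true := by decide +kernel

theorem eq44_49 : allR 94031 1919 (fun q => (fun q => Nat.beq (f44 q) (wordR W44 q)) q) = true := by decide +kernel

theorem eq44_50 : allR 95950 1919 (fun q => (fun q => Nat.beq (f44 q) (wordR W44 q)) q) = true := by decide +kernel

theorem eq44_51 : allR 97869 1919 (fun q => (fun q => Nat.beq (f44 q) (wordR W44 q)) q) = true := by decide +kernel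

theorem eq44_52 : allR 99788 1919 (fun q => (fun q => Nat.beq (f44 q) (wordR W44 q)) q) = true := by decide +kernel

theorem eq44_53 : allR 101707 1919 (fun q => (fun q => Nat.beq (f44 q) (wordR W44 q)) q) = true := by decide +kernel

theorem eq44_54 : allR 103626 1919 (fun q => (fun q => Nat.beq (f44 q) (wordR W44 q)) q) = true := by decide +kernel

theorem eq44_55 : allR 105545 1919 (fun q => (fun q => Nat.beq (f44 q) (wordR W44 q)) q) = true := by decide +kernel

theorem eq44_56 : allR 107464 1919 (fun q => (fun q => Nat.beq (f44 q) (wordR W44 q)) q) = true := by decide +kernel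

theorem eq44_57 : allR 109383 1919 (fun q => (fun q => Nat.beq (f44 q) (wordR W44 q)) q) = true := by decide +kernel

theorem eq44_58 : allR 111302 1919 (fun q => (fun q => Nat.beq (f44 q) (wordR W44 q)) q) = true := by decide +kernel

theorem eq44_59 : allR 113221 1919 (fun q => (fun q => Nat.beq (f44 q) (wordR W44 q)) q) = true := by decide +kernel


end Cfsg.Agent.Fi24Out
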