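import Cfsg.Agent.Lib.Lead.Fi24Out.D44

/-! # The outer automorphism group of Fi₂₄′: the check of the table number 44, slices (generated) -/

set_option autoImplicit false
set_option Elab.async false
set_option maxRecDepth 100000

namespace Cfsg.Agent.Fi24Out

open Cfsg.Agent.PF Cfsg.Agent.Lib.Helper6 Cfsg.Agent.Lib.Helper6.TC
open Cfsg.Agent.PL (Acts evalF)

theorem eq44_60 : allR 115140 1919 (fun q => (fun q => Nat.beq (f44 q) (wordR W44 q)) q) = true := by decide +kernel

theorem eq44_61 : allR 117059 1919 (fun q => (fun q => Nat.beq (f44 q) (wordR W44 q)) q) = true := by decide +kernel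

theorem eq44_62 : allR 118978 1919 (fun q => (fun q => Nat.beq (f44 q) (wordR W44 q)) q) = true := by decide +kernel

theorem eq44_63 : allR 120897 1919 (fun q => (fun q => Nat.beq (f44 q) (wordR W44 q)) q) = true := by decide +kernel

theorem eq44_64 : allR 122816 1919 (fun q => (fun q => Nat.beq (f44 q) (wordR W44 q)) q) = true := by decide +kernel

theorem eq44_65 : allR 124735 1919 (fun q => (fun q => Nat.beq (f44 q) (wordR W44 q)) q) = true := by decide +kernel

theorem eq44_66 : allR 126654 1919 (fun q => (fun q => Nat.beq (f44 q) (wordR W44 q)) q) = true := by decide +kernel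

theorem eq44_67 : allR 128573 1919 (fun q => (fun q => Nat.beq (f44 q) (wordR W44 q)) q) = true := by decide +kernel

theorem eq44_68 : allR 130492 1919 (fun q => (fun q => Nat.beq (f44 q) (wordR W44 q)) q) = true := by decide +kernel

theorem eq44_69 : allR 132411 1919 (fun q => (fun q => Nat.beq (f44 q) (wordR W44 q)) q) = true := by decide +kernel

theorem eq44_70 : allR 134330 1919 (fun q => (fun q => Nat.beq (f44 q) (wordR W44 q)) q) = true := by decide +kernel

theorem eq44_71 : allR 136249 1919 (fun q => (fun q => Nat.beq (f44 q) (wordR W44 q)) q) = true := by decide +kernel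

theorem eq44_72 : allR 138168 1919 (fun q => (fun q => Nat.beq (f44 q) (wordR W44 q)) q) = true := by decide +kernel

theorem eq44_73 : allR 140087 1919 (fun q => (fun q => Nat.beq (f44 q) (wordR W44 q)) q) = true := by decide +kernel

theorem eq44_74 : allR 142006 1919 (fun q => (fun q => Nat.beq (f44 q) (wordR W44 q)) q) = true := by decide +kernel

theorem eq44_75 : allR 143925 1919 (fun q => (fun q => Nat.beq (f44 q) (wordR W44 q)) q) = true := by decide +kernel

theorem eq44_76 : allR 145844 1919 (fun q => (fun q => Nat.beq (f44 q) (wordR W44 q)) q) = true := by decide +kernel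

theorem eq44_77 : allR 147763 1919 (fun q => (fun q => Nat.beq (f44 q) (wordR W44 q)) q) = true := by decide +kernel

theorem eq44_78 : allR 149682 1919 (fun q => (fun q => Nat.beq (f44 q) (wordR W44 q)) q) = true := by decide +kernel

theorem eq44_79 : allR 151601 1919 (fun q => (fun q => Nat.beq (f44 q) (wordR W44 q)) q) = true := by decide +kernel


end Cfsg.Agent.Fi24Out
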