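import Cfsg.Agent.Lib.Lead.Fi24Out.D44

/-! # The outer automorphism group of Fi₂₄′: the check of the table number 44, slices (generated) -/

set_option autoImplicit false
set_option Elab.async false
set_option maxRecDepth 100000

namespace Cfsg.Agent.Fi24Out

open Cfsg.Agent.PF Cfsg.Agent.Lib.Helper6 Cfsg.Agent.Lib.Helper6.TC
open Cfsg.Agent.PL (Acts evalF)

theorem eq44_80 : allR 153520 1919 (fun q => (fun q => Nat.beq (f44 q) (wordR W44 q)) q) = true := by decide +kernel

theorem eq44_81 : allR 155439 1919 (fun q => (fun q => Nat.beq (f44 q) (wordR W44 q)) q) = true := by decide +kernel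

theorem eq44_82 : allR 157358 1919 (fun q => (fun q => Nat.beq (f44 q) (wordR W44 q)) q) = true := by decide +kernel

theorem eq44_83 : allR 159277 1919 (fun q => (fun q => Nat.beq (f44 q) (wordR W44 q)) q) = true := by decide +kernel

theorem eq44_84 : allR 161196 1919 (fun q => (fun q => Nat.beq (f44 q) (wordR W44 q)) q) = true := by decide +kernel

theorem eq44_85 : allR 163115 1919 (fun q => (fun q => Nat.beq (f44 q) (wordR W44 q)) q) = true := by decide +kernel

theorem eq44_86 : allR 165034 1919 (fun q => (fun q => Nat.beq (f44 q) (wordR W44 q)) q) = true := by decide +kernel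

theorem eq44_87 : allR 166953 1919 (fun q => (fun q => Nat.beq (f44 q) (wordR W44 q)) q) = true := by decide +kernel

theorem eq44_88 : allR 168872 1919 (fun q => (fun q => Nat.beq (f44 q) (wordR W44 q)) q) = true := by decide +kernel

theorem eq44_89 : allR 170791 1919 (fun q => (fun q => Nat.beq (f44 q) (wordR W44 q)) q) = true := by decide +kernel

theorem eq44_90 : allR 172710 1919 (fun q => (fun q => Nat.beq (f44 q) (wordR W44 q)) q) = true := by decide +kernel

theorem eq44_91 : allR 174629 1919 (fun q => (fun q => Nat.beq (f44 q) (wordR W44 q)) q) = true := by decide +kernel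

theorem eq44_92 : allR 176548 1919 (fun q => (fun q => Nat.beq (f44 q) (wordR W44 q)) q) = true := by decide +kernel

theorem eq44_93 : allR 178467 1919 (fun q => (fun q => Nat.beq (f44 q) (wordR W44 q)) q) = true := by decide +kernel

theorem eq44_94 : allR 180386 1919 (fun q => (fun q => Nat.beq (f44 q) (wordR W44 q)) q) = true := by decide +kernel

theorem eq44_95 : allR 182305 1919 (fun q => (fun q => Nat.beq (f44 q) (wordR W44 q)) q) = true := by decide +kernel

theorem eq44_96 : allR 184224 1919 (fun q => (fun q => Nat.beq (f44 q) (wordR W44 q)) q) = true := by decide +kernel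

theorem eq44_97 : allR 186143 1919 (fun q => (fun q => Nat.beq (f44 q) (wordR W44 q)) q) = true := by decide +kernel

theorem eq44_98 : allR 188062 1919 (fun q => (fun q => Nat.beq (f44 q) (wordR W44 q)) q) = true := by decide +kernel

theorem eq44_99 : allR 189981 1919 (fun q => (fun q => Nat.beq (f44 q) (wordR W44 q)) q) = true := by decide +kernel


end Cfsg.Agent.Fi24Out
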