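import Cfsg.Agent.Lib.Lead.Fi24Out.C44_0
import Cfsg.Agent.Lib.Lead.Fi24Out.C44_1
import Cfsg.Agent.Lib.Lead.Fi24Out.C44_2
import Cfsg.Agent.Lib.Lead.Fi24Out.C44_3
import Cfsg.Agent.Lib.Lead.Fi24Out.C44_4
import Cfsg.Agent.Lib.Lead.Fi24Out.C44_5
import Cfsg.Agent.Lib.Lead.Fi24Out.C44_6
import Cfsg.Agent.Lib.Lead.Fi24Out.C44_7
import Cfsg.Agent.Lib.Lead.Fi24Out.Base0

/-! # The outer automorphism group of Fi₂₄′: the check of the table number 44 (generated) -/

set_option autoImplicit false
set_option maxRecDepth 100000

namespace Cfsg.Agent.Fi24Out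

open Cfsg.Agent.PF Cfsg.Agent.Lib.Helper6 Cfsg.Agent.Lib.Helper6.TC
open Cfsg.Agent.PL (Acts evalF)

theorem eq44_all : ∀ q < 306936, (fun q => Nat.beq (f44 q) (wordR W44 q)) q = true :=
  forall_lt_of_chunks (f := fun q => (fun q => Nat.beq (f44 q) (wordR W44 q)) q) [(0, 1919), (1919, 1919), (3838, 1919), (5757, 1919), (7676, 1919), (9595, 1919), (11514, 1919), (13433, 1919), (15352, 1919), (17271, 1919), (19190, 1919), (21109, 1919), (23028, 1919), (24947, 1919), (26866, 1919), (28785, 1919), (30704, 1919), (32623, 1919), (34542, 1919), (36461, 1919), (38380, 1919), (40299, 1919), (42218, 1919), (44137, 1919), (46056, 1919), (47975, 1919), (49894, 1919), (51813, 1919), (53732, 1919), (55651, 1919), (57570, 1919), (59489, 1919), (61408, 1919), (63327, 1919), (65246, 1919), (67165, 1919), (69084, 1919), (71003, 1919), (72922, 1919), (74841, 1919), (76760, 1919), (78679, 1919), (80598, 1919), (82517, 1919), (84436, 1919), (86355, 1919), (88274, 1919), (90193, 1919), (92112, 1919), (94031, 1919), (95950, 1919), (97869, 1919), (99788, 1919),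 (101707, 1919), (103626, 1919), (105545, 1919), (107464, 1919), (109383, 1919), (111302, 1919), (113221, 1919), (115140, 1919), (117059, 1919), (118978, 1919), (120897, 1919), (122816, 1919), (124735, 1919), (126654, 1919), (128573, 1919), (130492, 1919), (132411, 1919), (134330, 1919), (136249, 1919), (138168, 1919), (140087, 1919), (142006, 1919), (143925, 1919), (145844, 1919), (147763, 1919), (149682, 1919), (151601, 1919), (153520, 1919), (155439, 1919), (157358, 1919), (159277, 1919), (161196, 1919), (163115, 1919), (165034, 1919), (166953, 1919), (168872, 1919), (170791, 1919), (172710, 1919), (174629, 1919), (176548, 1919), (178467, 1919), (180386, 1919), (182305, 1919), (184224, 1919), (186143, 1919), (188062, 1919), (189981, 1919), (191900, 1919), (193819, 1919), (195738, 1919), (197657, 1919), (199576, 1919), (201495, 1919), (203414, 1919), (205333, 1919), (207252, 1919), (209171, 1919), (211090, 1919), (213009, 1919), (214928, 1919), (216847, 1919), (218766, 1919), (220685, 1919), (222604, 1919), (224523, 1919), (226442, 1919),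 (228361, 1919), (230280, 1919), (232199, 1919), (234118, 1919), (236037, 1919), (237956, 1919), (239875, 1919), (241794, 1919), (243713, 1919), (245632, 1919), (247551, 1919), (249470, 1919), (251389, 1919), (253308, 1919), (255227, 1919), (257146, 1919), (259065, 1919), (260984, 1919), (262903, 1919), (264822, 1919), (266741, 1919), (268660, 1919), (270579, 1919), (272498, 1919), (274417, 1919), (276336, 1919), (278255, 1919), (280174, 1919), (282093, 1919), (284012, 1919), (285931, 1919), (287850, 1919), (289769, 1919), (291688, 1919), (293607, 1919), (295526, 1919), (297445, 1919), (299364, 1919), (301283, 1919), (303202, 1919), (305121, 1815)] (by decide)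
    (all_cons eq44_0 (all_cons eq44_1 (all_cons eq44_2 (all_cons eq44_3 (all_cons eq44_4 (all_cons eq44_5 (all_cons eq44_6 (all_cons eq44_7 (all_cons eq44_8 (all_cons eq44_9 (all_cons eq44_10 (all_cons eq44_11 (all_cons eq44_12 (all_cons eq44_13 (all_cons eq44_14 (all_cons eq44_15 (all_cons eq44_16 (all_cons eq44_17 (all_cons eq44_18 (all_cons eq44_19 (all_cons eq44_20 (all_cons eq44_21 (all_cons eq44_22 (all_cons eq44_23 (all_cons eq44_24 (all_cons eq44_25 (all_cons eq44_26 (all_cons eq44_27 (all_cons eq44_28 (all_cons eq44_29 (all_cons eq44_30 (all_cons eq44_31 (all_cons eq44_32 (all_cons eq44_33 (all_cons eq44_34 (all_cons eq44_35 (all_cons eq44_36 (all_cons eq44_37 (all_cons eq44_38 (all_cons eq44_39 (all_cons eq44_40 (all_cons eq44_41 (all_cons eq44_42 (all_cons eq44_43 (all_cons eq44_44 (all_cons eq44_45 (all_cons eq44_46 (all_cons eq44_47 (all_cons eq44_48 (all_cons eq44_49 (all_cons eq44_50 (all_cons eq44_51 (all_cons eq44_52 (all_cons eq44_53 (all_cons eq44_54 (all_cons eq44_55 (all_cons eq44_56 (all_cons eq44_57 (all_cons eq44_58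 (all_cons eq44_59 (all_cons eq44_60 (all_cons eq44_61 (all_cons eq44_62 (all_cons eq44_63 (all_cons eq44_64 (all_cons eq44_65 (all_cons eq44_66 (all_cons eq44_67 (all_cons eq44_68 (all_cons eq44_69 (all_cons eq44_70 (all_cons eq44_71 (all_cons eq44_72 (all_cons eq44_73 (all_cons eq44_74 (all_cons eq44_75 (all_cons eq44_76 (all_cons eq44_77 (all_cons eq44_78 (all_cons eq44_79 (all_cons eq44_80 (all_cons eq44_81 (all_cons eq44_82 (all_cons eq44_83 (all_cons eq44_84 (all_cons eq44_85 (all_cons eq44_86 (all_cons eq44_87 (all_cons eq44_88 (all_cons eq44_89 (all_cons eq44_90 (all_cons eq44_91 (all_cons eq44_92 (all_cons eq44_93 (all_cons eq44_94 (all_cons eq44_95 (all_cons eq44_96 (all_cons eq44_97 (all_cons eq44_98 (all_cons eq44_99 (all_cons eq44_100 (all_cons eq44_101 (all_cons eq44_102 (all_cons eq44_103 (all_cons eq44_104 (all_cons eq44_105 (all_cons eq44_106 (all_cons eq44_107 (all_cons eq44_108 (all_cons eq44_109 (all_cons eq44_110 (all_cons eq44_111 (all_cons eq44_112 (all_cons eq44_113 (all_cons eq44_114 (all_cons eq44_115 (all_cons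 eq44_116 (all_cons eq44_117 (all_cons eq44_118 (all_cons eq44_119 (all_cons eq44_120 (all_cons eq44_121 (all_cons eq44_122 (all_cons eq44_123 (all_cons eq44_124 (all_cons eq44_125 (all_cons eq44_126 (all_cons eq44_127 (all_cons eq44_128 (all_cons eq44_129 (all_cons eq44_130 (all_cons eq44_131 (all_cons eq44_132 (all_cons eq44_133 (all_cons eq44_134 (all_cons eq44_135 (all_cons eq44_136 (all_cons eq44_137 (all_cons eq44_138 (all_cons eq44_139 (all_cons eq44_140 (all_cons eq44_141 (all_cons eq44_142 (all_cons eq44_143 (all_cons eq44_144 (all_cons eq44_145 (all_cons eq44_146 (all_cons eq44_147 (all_cons eq44_148 (all_cons eq44_149 (all_cons eq44_150 (all_cons eq44_151 (all_cons eq44_152 (all_cons eq44_153 (all_cons eq44_154 (all_cons eq44_155 (all_cons eq44_156 (all_cons eq44_157 (all_cons eq44_158 (all_cons eq44_159 all_nil))))))))))))))))))))))))))))))))))))))))))))))))))))))))))))))))))))))))))))))))))))))))))))))))))))))))))))))))))))))))))))))))))))))))))))))))))))))))))))))))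

/-- the table agrees with the word -/
theorem eq44 : ∀ q < 306936, f44 q = wordR W44 q :=
  fun q hq => Nat.eq_of_beq_eq_true (eq44_all q hq)

end Cfsg.Agent.Fi24Out
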