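import Cfsg.Agent.Lib.Lead.Fi24Out.D44

/-! # The outer automorphism group of Fi₂₄′: the check of the table number 44, slices (generated) -/

set_option autoImplicit false
set_option Elab.async false
set_option maxRecDepth 100000

namespace Cfsg.Agent.Fi24Out

open Cfsg.Agent.PF Cfsg.Agent.Lib.Helper6 Cfsg.Agent.Lib.Helper6.TC
open Cfsg.Agent.PL (Acts evalF)

theorem eq44_0 : allR 0 1919 (fun q => (fun q => Nat.beq (f44 q) (wordR W44 q)) q) = true := by decide +kernel

theorem eq44_1 : allR 1919 1919 (fun q => (fun q => Nat.beq (f44 q) (wordR W44 q)) q) = true := by decide +kernel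

theorem eq44_2 : allR 3838 1919 (fun q => (fun q => Nat.beq (f44 q) (wordR W44 q)) q) = true := by decide +kernel

theorem eq44_3 : allR 5757 1919 (fun q => (fun q => Nat.beq (f44 q) (wordR W44 q)) q) = true := by decide +kernel

theorem eq44_4 : allR 7676 1919 (fun q => (fun q => Nat.beq (f44 q) (wordR W44 q)) q) = true := by decide +kernel

theorem eq44_5 : allR 9595 1919 (fun q => (fun q => Nat.beq (f44 q) (wordR W44 q)) q) = true := by decide +kernel

theorem eq44_6 : allR 11514 1919 (fun q => (fun q => Nat.beq (f44 q) (wordR W44 q)) q) = true := by decide +kernel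

theorem eq44_7 : allR 13433 1919 (fun q => (fun q => Nat.beq (f44 q) (wordR W44 q)) q) = true := by decide +kernel

theorem eq44_8 : allR 15352 1919 (fun q => (fun q => Nat.beq (f44 q) (wordR W44 q)) q) = true := by decide +kernel

theorem eq44_9 : allR 17271 1919 (fun q => (fun q => Nat.beq (f44 q) (wordR W44 q)) q) = true := by decide +kernel

theorem eq44_10 : allR 19190 1919 (fun q => (fun q => Nat.beq (f44 q) (wordR W44 q)) q) = true := by decide +kernel

theorem eq44_11 : allR 21109 1919 (fun q => (fun q => Nat.beq (f44 q) (wordR W44 q)) q) = true := by decide +kernel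

theorem eq44_12 : allR 23028 1919 (fun q => (fun q => Nat.beq (f44 q) (wordR W44 q)) q) = true := by decide +kernel

theorem eq44_13 : allR 24947 1919 (fun q => (fun q => Nat.beq (f44 q) (wordR W44 q)) q) = true := by decide +kernel

theorem eq44_14 : allR 26866 1919 (fun q => (fun q => Nat.beq (f44 q) (wordR W44 q)) q) = true := by decide +kernel

theorem eq44_15 : allR 28785 1919 (fun q => (fun q => Nat.beq (f44 q) (wordR W44 q)) q) = true := by decide +kernel

theorem eq44_16 : allR 30704 1919 (fun q => (fun q => Nat.beq (f44 q) (wordR W44 q)) q) = true := by decide +kernel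

theorem eq44_17 : allR 32623 1919 (fun q => (fun q => Nat.beq (f44 q) (wordR W44 q)) q) = true := by decide +kernel

theorem eq44_18 : allR 34542 1919 (fun q => (fun q => Nat.beq (f44 q) (wordR W44 q)) q) = true := by decide +kernel

theorem eq44_19 : allR 36461 1919 (fun q => (fun q => Nat.beq (f44 q) (wordR W44 q)) q) = true := by decide +kernel


end Cfsg.Agent.Fi24Out
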