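import Cfsg.Agent.Lib.Lead.Fi24Out.D45

/-! # The outer automorphism group of Fi₂₄′: the check of the table number 45, slices (generated) -/

set_option autoImplicit false
set_option Elab.async false
set_option maxRecDepth 100000

namespace Cfsg.Agent.Fi24Out

open Cfsg.Agent.PF Cfsg.Agent.Lib.Helper6 Cfsg.Agent.Lib.Helper6.TC
open Cfsg.Agent.PL (Acts evalF)

theorem eq45_20 : allR 46160 2308 (fun q => (fun q => Nat.beq (f45 q) (wordR W45 q)) q) = true := by decide +kernel

theorem eq45_21 : allR 48468 2308 (fun q => (fun q => Nat.beq (f45 q) (wordR W45 q)) q) = true := by decide +kernel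

theorem eq45_22 : allR 50776 2308 (fun q => (fun q => Nat.beq (f45 q) (wordR W45 q)) q) = true := by decide +kernel

theorem eq45_23 : allR 53084 2308 (fun q => (fun q => Nat.beq (f45 q) (wordR W45 q)) q) = true := by decide +kernel

theorem eq45_24 : allR 55392 2308 (fun q => (fun q => Nat.beq (f45 q) (wordR W45 q)) q) = true := by decide +kernel

theorem eq45_25 : allR 57700 2308 (fun q => (fun q => Nat.beq (f45 q) (wordR W45 q)) q) = true := by decide +kernel

theorem eq45_26 : allR 60008 2308 (fun q => (fun q => Nat.beq (f45 q) (wordR W45 q)) q) = true := by decide +kernel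

theorem eq45_27 : allR 62316 2308 (fun q => (fun q => Nat.beq (f45 q) (wordR W45 q)) q) = true := by decide +kernel

theorem eq45_28 : allR 64624 2308 (fun q => (fun q => Nat.beq (f45 q) (wordR W45 q)) q) = true := by decide +kernel

theorem eq45_29 : allR 66932 2308 (fun q => (fun q => Nat.beq (f45 q) (wordR W45 q)) q) = true := by decide +kernel

theorem eq45_30 : allR 69240 2308 (fun q => (fun q => Nat.beq (f45 q) (wordR W45 q)) q) = true := by decide +kernel

theorem eq45_31 : allR 71548 2308 (fun q => (fun q => Nat.beq (f45 q) (wordR W45 q)) q) = true := by decide +kernel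

theorem eq45_32 : allR 73856 2308 (fun q => (fun q => Nat.beq (f45 q) (wordR W45 q)) q) = true := by decide +kernel

theorem eq45_33 : allR 76164 2308 (fun q => (fun q => Nat.beq (f45 q) (wordR W45 q)) q) = true := by decide +kernel

theorem eq45_34 : allR 78472 2308 (fun q => (fun q => Nat.beq (f45 q) (wordR W45 q)) q) = true := by decide +kernel

theorem eq45_35 : allR 80780 2308 (fun q => (fun q => Nat.beq (f45 q) (wordR W45 q)) q) = true := by decide +kernel

theorem eq45_36 : allR 83088 2308 (fun q => (fun q => Nat.beq (f45 q) (wordR W45 q)) q) = true := by decide +kernel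

theorem eq45_37 : allR 85396 2308 (fun q => (fun q => Nat.beq (f45 q) (wordR W45 q)) q) = true := by decide +kernel

theorem eq45_38 : allR 87704 2308 (fun q => (fun q => Nat.beq (f45 q) (wordR W45 q)) q) = true := by decide +kernel

theorem eq45_39 : allR 90012 2308 (fun q => (fun q => Nat.beq (f45 q) (wordR W45 q)) q) = true := by decide +kernel


end Cfsg.Agent.Fi24Out
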