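import Cfsg.Agent.Lib.Lead.Fi24Out.D45

/-! # The outer automorphism group of Fi₂₄′: the check of the table number 45, slices (generated) -/

set_option autoImplicit false
set_option Elab.async false
set_option maxRecDepth 100000

namespace Cfsg.Agent.Fi24Out

open Cfsg.Agent.PF Cfsg.Agent.Lib.Helper6 Cfsg.Agent.Lib.Helper6.TC
open Cfsg.Agent.PL (Acts evalF)

theorem eq45_40 : allR 92320 2308 (fun q => (fun q => Nat.beq (f45 q) (wordR W45 q)) q) = true := by decide +kernel

theorem eq45_41 : allR 94628 2308 (fun q => (fun q => Nat.beq (f45 q) (wordR W45 q)) q) = true := by decide +kernel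

theorem eq45_42 : allR 96936 2308 (fun q => (fun q => Nat.beq (f45 q) (wordR W45 q)) q) = true := by decide +kernel

theorem eq45_43 : allR 99244 2308 (fun q => (fun q => Nat.beq (f45 q) (wordR W45 q)) q) = true := by decide +kernel

theorem eq45_44 : allR 101552 2308 (fun q => (fun q => Nat.beq (f45 q) (wordR W45 q)) q) = true := by decide +kernel

theorem eq45_45 : allR 103860 2308 (fun q => (fun q => Nat.beq (f45 q) (wordR W45 q)) q) = true := by decide +kernel

theorem eq45_46 : allR 106168 2308 (fun q => (fun q => Nat.beq (f45 q) (wordR W45 q)) q) = true := by decide +kernel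

theorem eq45_47 : allR 108476 2308 (fun q => (fun q => Nat.beq (f45 q) (wordR W45 q)) q) = true := by decide +kernel

theorem eq45_48 : allR 110784 2308 (fun q => (fun q => Nat.beq (f45 q) (wordR W45 q)) q) = true := by decide +kernel

theorem eq45_49 : allR 113092 2308 (fun q => (fun q => Nat.beq (f45 q) (wordR W45 q)) q) = true := by decide +kernel

theorem eq45_50 : allR 115400 2308 (fun q => (fun q => Nat.beq (f45 q) (wordR W45 q)) q) = true := by decide +kernel

theorem eq45_51 : allR 117708 2308 (fun q => (fun q => Nat.beq (f45 q) (wordR W45 q)) q) = true := by decide +kernel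

theorem eq45_52 : allR 120016 2308 (fun q => (fun q => Nat.beq (f45 q) (wordR W45 q)) q) = true := by decide +kernel

theorem eq45_53 : allR 122324 2308 (fun q => (fun q => Nat.beq (f45 q) (wordR W45 q)) q) = true := by decide +kernel

theorem eq45_54 : allR 124632 2308 (fun q => (fun q => Nat.beq (f45 q) (wordR W45 q)) q) = true := by decide +kernel

theorem eq45_55 : allR 126940 2308 (fun q => (fun q => Nat.beq (f45 q) (wordR W45 q)) q) = true := by decide +kernel

theorem eq45_56 : allR 129248 2308 (fun q => (fun q => Nat.beq (f45 q) (wordR W45 q)) q) = true := by decide +kernel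

theorem eq45_57 : allR 131556 2308 (fun q => (fun q => Nat.beq (f45 q) (wordR W45 q)) q) = true := by decide +kernel

theorem eq45_58 : allR 133864 2308 (fun q => (fun q => Nat.beq (f45 q) (wordR W45 q)) q) = true := by decide +kernel

theorem eq45_59 : allR 136172 2308 (fun q => (fun q => Nat.beq (f45 q) (wordR W45 q)) q) = true := by decide +kernel


end Cfsg.Agent.Fi24Out
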