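import Cfsg.Agent.Lib.Lead.Fi24Out.D45

/-! # The outer automorphism group of Fi₂₄′: the check of the table number 45, slices (generated) -/

set_option autoImplicit false
set_option Elab.async false
set_option maxRecDepth 100000

namespace Cfsg.Agent.Fi24Out

open Cfsg.Agent.PF Cfsg.Agent.Lib.Helper6 Cfsg.Agent.Lib.Helper6.TC
open Cfsg.Agent.PL (Acts evalF)

theorem eq45_60 : allR 138480 2308 (fun q => (fun q => Nat.beq (f45 q) (wordR W45 q)) q) = true := by decide +kernel

theorem eq45_61 : allR 140788 2308 (fun q => (fun q => Nat.beq (f45 q) (wordR W45 q)) q) = true := by decide +kernel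

theorem eq45_62 : allR 143096 2308 (fun q => (fun q => Nat.beq (f45 q) (wordR W45 q)) q) = true := by decide +kernel

theorem eq45_63 : allR 145404 2308 (fun q => (fun q => Nat.beq (f45 q) (wordR W45 q)) q) = true := by decide +kernel

theorem eq45_64 : allR 147712 2308 (fun q => (fun q => Nat.beq (f45 q) (wordR W45 q)) q) = true := by decide +kernel

theorem eq45_65 : allR 150020 2308 (fun q => (fun q => Nat.beq (f45 q) (wordR W45 q)) q) = true := by decide +kernel

theorem eq45_66 : allR 152328 2308 (fun q => (fun q => Nat.beq (f45 q) (wordR W45 q)) q) = true := by decide +kernel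

theorem eq45_67 : allR 154636 2308 (fun q => (fun q => Nat.beq (f45 q) (wordR W45 q)) q) = true := by decide +kernel

theorem eq45_68 : allR 156944 2308 (fun q => (fun q => Nat.beq (f45 q) (wordR W45 q)) q) = true := by decide +kernel

theorem eq45_69 : allR 159252 2308 (fun q => (fun q => Nat.beq (f45 q) (wordR W45 q)) q) = true := by decide +kernel

theorem eq45_70 : allR 161560 2308 (fun q => (fun q => Nat.beq (f45 q) (wordR W45 q)) q) = true := by decide +kernel

theorem eq45_71 : allR 163868 2308 (fun q => (fun q => Nat.beq (f45 q) (wordR W45 q)) q) = true := by decide +kernel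

theorem eq45_72 : allR 166176 2308 (fun q => (fun q => Nat.beq (f45 q) (wordR W45 q)) q) = true := by decide +kernel

theorem eq45_73 : allR 168484 2308 (fun q => (fun q => Nat.beq (f45 q) (wordR W45 q)) q) = true := by decide +kernel

theorem eq45_74 : allR 170792 2308 (fun q => (fun q => Nat.beq (f45 q) (wordR W45 q)) q) = true := by decide +kernel

theorem eq45_75 : allR 173100 2308 (fun q => (fun q => Nat.beq (f45 q) (wordR W45 q)) q) = true := by decide +kernel

theorem eq45_76 : allR 175408 2308 (fun q => (fun q => Nat.beq (f45 q) (wordR W45 q)) q) = true := by decide +kernel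

theorem eq45_77 : allR 177716 2308 (fun q => (fun q => Nat.beq (f45 q) (wordR W45 q)) q) = true := by decide +kernel

theorem eq45_78 : allR 180024 2308 (fun q => (fun q => Nat.beq (f45 q) (wordR W45 q)) q) = true := by decide +kernel

theorem eq45_79 : allR 182332 2308 (fun q => (fun q => Nat.beq (f45 q) (wordR W45 q)) q) = true := by decide +kernel


end Cfsg.Agent.Fi24Out
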