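import Cfsg.Agent.Lib.Lead.Fi24Out.D45

/-! # The outer automorphism group of Fi₂₄′: the check of the table number 45, slices (generated) -/

set_option autoImplicit false
set_option Elab.async false
set_option maxRecDepth 100000

namespace Cfsg.Agent.Fi24Out

open Cfsg.Agent.PF Cfsg.Agent.Lib.Helper6 Cfsg.Agent.Lib.Helper6.TC
open Cfsg.Agent.PL (Acts evalF)

theorem eq45_80 : allR 184640 2308 (fun q => (fun q => Nat.beq (f45 q) (wordR W45 q)) q) = true := by decide +kernel

theorem eq45_81 : allR 186948 2308 (fun q => (fun q => Nat.beq (f45 q) (wordR W45 q)) q) = true := by decide +kernel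

theorem eq45_82 : allR 189256 2308 (fun q => (fun q => Nat.beq (f45 q) (wordR W45 q)) q) = true := by decide +kernel

theorem eq45_83 : allR 191564 2308 (fun q => (fun q => Nat.beq (f45 q) (wordR W45 q)) q) = true := by decide +kernel

theorem eq45_84 : allR 193872 2308 (fun q => (fun q => Nat.beq (f45 q) (wordR W45 q)) q) = true := by decide +kernel

theorem eq45_85 : allR 196180 2308 (fun q => (fun q => Nat.beq (f45 q) (wordR W45 q)) q) = true := by decide +kernel

theorem eq45_86 : allR 198488 2308 (fun q => (fun q => Nat.beq (f45 q) (wordR W45 q)) q) = true := by decide +kernel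

theorem eq45_87 : allR 200796 2308 (fun q => (fun q => Nat.beq (f45 q) (wordR W45 q)) q) = true := by decide +kernel

theorem eq45_88 : allR 203104 2308 (fun q => (fun q => Nat.beq (f45 q) (wordR W45 q)) q) = true := by decide +kernel

theorem eq45_89 : allR 205412 2308 (fun q => (fun q => Nat.beq (f45 q) (wordR W45 q)) q) = true := by decide +kernel

theorem eq45_90 : allR 207720 2308 (fun q => (fun q => Nat.beq (f45 q) (wordR W45 q)) q) = true := by decide +kernel

theorem eq45_91 : allR 210028 2308 (fun q => (fun q => Nat.beq (f45 q) (wordR W45 q)) q) = true := by decide +kernel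

theorem eq45_92 : allR 212336 2308 (fun q => (fun q => Nat.beq (f45 q) (wordR W45 q)) q) = true := by decide +kernel

theorem eq45_93 : allR 214644 2308 (fun q => (fun q => Nat.beq (f45 q) (wordR W45 q)) q) = true := by decide +kernel

theorem eq45_94 : allR 216952 2308 (fun q => (fun q => Nat.beq (f45 q) (wordR W45 q)) q) = true := by decide +kernel

theorem eq45_95 : allR 219260 2308 (fun q => (fun q => Nat.beq (f45 q) (wordR W45 q)) q) = true := by decide +kernel

theorem eq45_96 : allR 221568 2308 (fun q => (fun q => Nat.beq (f45 q) (wordR W45 q)) q) = true := by decide +kernel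

theorem eq45_97 : allR 223876 2308 (fun q => (fun q => Nat.beq (f45 q) (wordR W45 q)) q) = true := by decide +kernel

theorem eq45_98 : allR 226184 2308 (fun q => (fun q => Nat.beq (f45 q) (wordR W45 q)) q) = true := by decide +kernel

theorem eq45_99 : allR 228492 2308 (fun q => (fun q => Nat.beq (f45 q) (wordR W45 q)) q) = true := by decide +kernel


end Cfsg.Agent.Fi24Out
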