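import Cfsg.Agent.Lib.Lead.Fi24Out.C45_0
import Cfsg.Agent.Lib.Lead.Fi24Out.C45_1
import Cfsg.Agent.Lib.Lead.Fi24Out.C45_2
import Cfsg.Agent.Lib.Lead.Fi24Out.C45_3
import Cfsg.Agent.Lib.Lead.Fi24Out.C45_4
import Cfsg.Agent.Lib.Lead.Fi24Out.C45_5
import Cfsg.Agent.Lib.Lead.Fi24Out.C45_6
import Cfsg.Agent.Lib.Lead.Fi24Out.Base0

/-! # The outer automorphism group of Fi₂₄′: the check of the table number 45 (generated) -/

set_option autoImplicit false
set_option maxRecDepth 100000

namespace Cfsg.Agent.Fi24Out

open Cfsg.Agent.PF Cfsg.Agent.Lib.Helper6 Cfsg.Agent.Lib.Helper6.TC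
open Cfsg.Agent.PL (Acts evalF)

theorem eq45_all : ∀ q < 306936, (fun q => Nat.beq (f45 q) (wordR W45 q)) q = true :=
  forall_lt_of_chunks (f := fun q => (fun q => Nat.beq (f45 q) (wordR W45 q)) q) [(0, 2308), (2308, 2308), (4616, 2308), (6924, 2308), (9232, 2308), (11540, 2308), (13848, 2308), (16156, 2308), (18464, 2308), (20772, 2308), (23080, 2308), (25388, 2308), (27696, 2308), (30004, 2308), (32312, 2308), (34620, 2308), (36928, 2308), (39236, 2308), (41544, 2308), (43852, 2308), (46160, 2308), (48468, 2308), (50776, 2308), (53084, 2308), (55392, 2308), (57700, 2308), (60008, 2308), (62316, 2308), (64624, 2308), (66932, 2308), (69240, 2308), (71548, 2308), (73856, 2308), (76164, 2308), (78472, 2308), (80780, 2308), (83088, 2308), (85396, 2308), (87704, 2308), (90012, 2308), (92320, 2308), (94628, 2308), (96936, 2308), (99244, 2308), (101552, 2308), (103860, 2308), (106168, 2308), (108476, 2308), (110784, 2308), (113092, 2308), (115400, 2308), (117708, 2308), (120016, 2308), (122324, 2308), (124632, 2308), (126940, 2308), (129248,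 2308), (131556, 2308), (133864, 2308), (136172, 2308), (138480, 2308), (140788, 2308), (143096, 2308), (145404, 2308), (147712, 2308), (150020, 2308), (152328, 2308), (154636, 2308), (156944, 2308), (159252, 2308), (161560, 2308), (163868, 2308), (166176, 2308), (168484, 2308), (170792, 2308), (173100, 2308), (175408, 2308), (177716, 2308), (180024, 2308), (182332, 2308), (184640, 2308), (186948, 2308), (189256, 2308), (191564, 2308), (193872, 2308), (196180, 2308), (198488, 2308), (200796, 2308), (203104, 2308), (205412, 2308), (207720, 2308), (210028, 2308), (212336, 2308), (214644, 2308), (216952, 2308), (219260, 2308), (221568, 2308), (223876, 2308), (226184, 2308), (228492, 2308), (230800, 2308), (233108, 2308), (235416, 2308), (237724, 2308), (240032, 2308), (242340, 2308), (244648, 2308), (246956, 2308), (249264, 2308), (251572, 2308), (253880, 2308), (256188, 2308), (258496, 2308), (260804, 2308), (263112, 2308), (265420, 2308), (267728, 2308), (270036, 2308), (272344, 2308), (274652, 2308), (276960, 2308), (279268, 2308),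 (281576, 2308), (283884, 2308), (286192, 2308), (288500, 2308), (290808, 2308), (293116, 2308), (295424, 2308), (297732, 2308), (300040, 2308), (302348, 2308), (304656, 2280)] (by decide)
    (all_cons eq45_0 (all_cons eq45_1 (all_cons eq45_2 (all_cons eq45_3 (all_cons eq45_4 (all_cons eq45_5 (all_cons eq45_6 (all_cons eq45_7 (all_cons eq45_8 (all_cons eq45_9 (all_cons eq45_10 (all_cons eq45_11 (all_cons eq45_12 (all_cons eq45_13 (all_cons eq45_14 (all_cons eq45_15 (all_cons eq45_16 (all_cons eq45_17 (all_cons eq45_18 (all_cons eq45_19 (all_cons eq45_20 (all_cons eq45_21 (all_cons eq45_22 (all_cons eq45_23 (all_cons eq45_24 (all_cons eq45_25 (all_cons eq45_26 (all_cons eq45_27 (all_cons eq45_28 (all_cons eq45_29 (all_cons eq45_30 (all_cons eq45_31 (all_cons eq45_32 (all_cons eq45_33 (all_cons eq45_34 (all_cons eq45_35 (all_cons eq45_36 (all_cons eq45_37 (all_cons eq45_38 (all_cons eq45_39 (all_cons eq45_40 (all_cons eq45_41 (all_cons eq45_42 (all_cons eq45_43 (all_cons eq45_44 (all_cons eq45_45 (all_cons eq45_46 (all_cons eq45_47 (all_cons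 eq45_48 (all_cons eq45_49 (all_cons eq45_50 (all_cons eq45_51 (all_cons eq45_52 (all_cons eq45_53 (all_cons eq45_54 (all_cons eq45_55 (all_cons eq45_56 (all_cons eq45_57 (all_cons eq45_58 (all_cons eq45_59 (all_cons eq45_60 (all_cons eq45_61 (all_cons eq45_62 (all_cons eq45_63 (all_cons eq45_64 (all_cons eq45_65 (all_cons eq45_66 (all_cons eq45_67 (all_cons eq45_68 (all_cons eq45_69 (all_cons eq45_70 (all_cons eq45_71 (all_cons eq45_72 (all_cons eq45_73 (all_cons eq45_74 (all_cons eq45_75 (all_cons eq45_76 (all_cons eq45_77 (all_cons eq45_78 (all_cons eq45_79 (all_cons eq45_80 (all_cons eq45_81 (all_cons eq45_82 (all_cons eq45_83 (all_cons eq45_84 (all_cons eq45_85 (all_cons eq45_86 (all_cons eq45_87 (all_cons eq45_88 (all_cons eq45_89 (all_cons eq45_90 (all_cons eq45_91 (all_cons eq45_92 (all_cons eq45_93 (all_cons eq45_94 (all_cons eq45_95 (all_cons eq45_96 (all_cons eq45_97 (all_cons eq45_98 (all_cons eq45_99 (all_cons eq45_100 (all_cons eq45_101 (all_cons eq45_102 (all_cons eq45_103 (all_cons eq45_104 (all_cons eq45_105 (all_cons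 eq45_106 (all_cons eq45_107 (all_cons eq45_108 (all_cons eq45_109 (all_cons eq45_110 (all_cons eq45_111 (all_cons eq45_112 (all_cons eq45_113 (all_cons eq45_114 (all_cons eq45_115 (all_cons eq45_116 (all_cons eq45_117 (all_cons eq45_118 (all_cons eq45_119 (all_cons eq45_120 (all_cons eq45_121 (all_cons eq45_122 (all_cons eq45_123 (all_cons eq45_124 (all_cons eq45_125 (all_cons eq45_126 (all_cons eq45_127 (all_cons eq45_128 (all_cons eq45_129 (all_cons eq45_130 (all_cons eq45_131 (all_cons eq45_132 all_nil)))))))))))))))))))))))))))))))))))))))))))))))))))))))))))))))))))))))))))))))))))))))))))))))))))))))))))))))))))))))))))))))))))))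

/-- the table agrees with the word -/
theorem eq45 : ∀ q < 306936, f45 q = wordR W45 q :=
  fun q hq => Nat.eq_of_beq_eq_true (eq45_all q hq)

end Cfsg.Agent.Fi24Out
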