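import Cfsg.Agent.Lib.Lead.Fi24Out.D45

/-! # The outer automorphism group of Fi₂₄′: the check of the table number 45, slices (generated) -/

set_option autoImplicit false
set_option Elab.async false
set_option maxRecDepth 100000

namespace Cfsg.Agent.Fi24Out

open Cfsg.Agent.PF Cfsg.Agent.Lib.Helper6 Cfsg.Agent.Lib.Helper6.TC
open Cfsg.Agent.PL (Acts evalF)

theorem eq45_0 : allR 0 2308 (fun q => (fun q => Nat.beq (f45 q) (wordR W45 q)) q) = true := by decide +kernel

theorem eq45_1 : allR 2308 2308 (fun q => (fun q => Nat.beq (f45 q) (wordR W45 q)) q) = true := by decide +kernel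

theorem eq45_2 : allR 4616 2308 (fun q => (fun q => Nat.beq (f45 q) (wordR W45 q)) q) = true := by decide +kernel

theorem eq45_3 : allR 6924 2308 (fun q => (fun q => Nat.beq (f45 q) (wordR W45 q)) q) = true := by decide +kernel

theorem eq45_4 : allR 9232 2308 (fun q => (fun q => Nat.beq (f45 q) (wordR W45 q)) q) = true := by decide +kernel

theorem eq45_5 : allR 11540 2308 (fun q => (fun q => Nat.beq (f45 q) (wordR W45 q)) q) = true := by decide +kernel

theorem eq45_6 : allR 13848 2308 (fun q => (fun q => Nat.beq (f45 q) (wordR W45 q)) q) = true := by decide +kernel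

theorem eq45_7 : allR 16156 2308 (fun q => (fun q => Nat.beq (f45 q) (wordR W45 q)) q) = true := by decide +kernel

theorem eq45_8 : allR 18464 2308 (fun q => (fun q => Nat.beq (f45 q) (wordR W45 q)) q) = true := by decide +kernel

theorem eq45_9 : allR 20772 2308 (fun q => (fun q => Nat.beq (f45 q) (wordR W45 q)) q) = true := by decide +kernel

theorem eq45_10 : allR 23080 2308 (fun q => (fun q => Nat.beq (f45 q) (wordR W45 q)) q) = true := by decide +kernel

theorem eq45_11 : allR 25388 2308 (fun q => (fun q => Nat.beq (f45 q) (wordR W45 q)) q) = true := by decide +kernel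

theorem eq45_12 : allR 27696 2308 (fun q => (fun q => Nat.beq (f45 q) (wordR W45 q)) q) = true := by decide +kernel

theorem eq45_13 : allR 30004 2308 (fun q => (fun q => Nat.beq (f45 q) (wordR W45 q)) q) = true := by decide +kernel

theorem eq45_14 : allR 32312 2308 (fun q => (fun q => Nat.beq (f45 q) (wordR W45 q)) q) = true := by decide +kernel

theorem eq45_15 : allR 34620 2308 (fun q => (fun q => Nat.beq (f45 q) (wordR W45 q)) q) = true := by decide +kernel

theorem eq45_16 : allR 36928 2308 (fun q => (fun q => Nat.beq (f45 q) (wordR W45 q)) q) = true := by decide +kernel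

theorem eq45_17 : allR 39236 2308 (fun q => (fun q => Nat.beq (f45 q) (wordR W45 q)) q) = true := by decide +kernel

theorem eq45_18 : allR 41544 2308 (fun q => (fun q => Nat.beq (f45 q) (wordR W45 q)) q) = true := by decide +kernel

theorem eq45_19 : allR 43852 2308 (fun q => (fun q => Nat.beq (f45 q) (wordR W45 q)) q) = true := by decide +kernel


end Cfsg.Agent.Fi24Out
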