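import Cfsg.Agent.Lib.Lead.Fi24Out.D46

/-! # The outer automorphism group of Fi₂₄′: the check of the table number 46, slices (generated) -/

set_option autoImplicit false
set_option Elab.async false
set_option maxRecDepth 100000

namespace Cfsg.Agent.Fi24Out

open Cfsg.Agent.PF Cfsg.Agent.Lib.Helper6 Cfsg.Agent.Lib.Helper6.TC
open Cfsg.Agent.PL (Acts evalF)

theorem eq46_20 : allR 60200 3010 (fun q => (fun q => Nat.beq (f46 q) (wordR W46 q)) q) = true := by decide +kernel

theorem eq46_21 : allR 63210 3010 (fun q => (fun q => Nat.beq (f46 q) (wordR W46 q)) q) = true := by decide +kernel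

theorem eq46_22 : allR 66220 3010 (fun q => (fun q => Nat.beq (f46 q) (wordR W46 q)) q) = true := by decide +kernel

theorem eq46_23 : allR 69230 3010 (fun q => (fun q => Nat.beq (f46 q) (wordR W46 q)) q) = true := by decide +kernel

theorem eq46_24 : allR 72240 3010 (fun q => (fun q => Nat.beq (f46 q) (wordR W46 q)) q) = true := by decide +kernel

theorem eq46_25 : allR 75250 3010 (fun q => (fun q => Nat.beq (f46 q) (wordR W46 q)) q) = true := by decide +kernel

theorem eq46_26 : allR 78260 3010 (fun q => (fun q => Nat.beq (f46 q) (wordR W46 q)) q) = true := by decide +kernel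

theorem eq46_27 : allR 81270 3010 (fun q => (fun q => Nat.beq (f46 q) (wordR W46 q)) q) = true := by decide +kernel

theorem eq46_28 : allR 84280 3010 (fun q => (fun q => Nat.beq (f46 q) (wordR W46 q)) q) = true := by decide +kernel

theorem eq46_29 : allR 87290 3010 (fun q => (fun q => Nat.beq (f46 q) (wordR W46 q)) q) = true := by decide +kernel

theorem eq46_30 : allR 90300 3010 (fun q => (fun q => Nat.beq (f46 q) (wordR W46 q)) q) = true := by decide +kernel

theorem eq46_31 : allR 93310 3010 (fun q => (fun q => Nat.beq (f46 q) (wordR W46 q)) q) = true := by decide +kernel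

theorem eq46_32 : allR 96320 3010 (fun q => (fun q => Nat.beq (f46 q) (wordR W46 q)) q) = true := by decide +kernel

theorem eq46_33 : allR 99330 3010 (fun q => (fun q => Nat.beq (f46 q) (wordR W46 q)) q) = true := by decide +kernel

theorem eq46_34 : allR 102340 3010 (fun q => (fun q => Nat.beq (f46 q) (wordR W46 q)) q) = true := by decide +kernel

theorem eq46_35 : allR 105350 3010 (fun q => (fun q => Nat.beq (f46 q) (wordR W46 q)) q) = true := by decide +kernel

theorem eq46_36 : allR 108360 3010 (fun q => (fun q => Nat.beq (f46 q) (wordR W46 q)) q) = true := by decide +kernel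

theorem eq46_37 : allR 111370 3010 (fun q => (fun q => Nat.beq (f46 q) (wordR W46 q)) q) = true := by decide +kernel

theorem eq46_38 : allR 114380 3010 (fun q => (fun q => Nat.beq (f46 q) (wordR W46 q)) q) = true := by decide +kernel

theorem eq46_39 : allR 117390 3010 (fun q => (fun q => Nat.beq (f46 q) (wordR W46 q)) q) = true := by decide +kernel


end Cfsg.Agent.Fi24Out
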