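import Cfsg.Agent.Lib.Lead.Fi24Out.D46

/-! # The outer automorphism group of Fi₂₄′: the check of the table number 46, slices (generated) -/

set_option autoImplicit false
set_option Elab.async false
set_option maxRecDepth 100000

namespace Cfsg.Agent.Fi24Out

open Cfsg.Agent.PF Cfsg.Agent.Lib.Helper6 Cfsg.Agent.Lib.Helper6.TC
open Cfsg.Agent.PL (Acts evalF)

theorem eq46_40 : allR 120400 3010 (fun q => (fun q => Nat.beq (f46 q) (wordR W46 q)) q) = true := by decide +kernel

theorem eq46_41 : allR 123410 3010 (fun q => (fun q => Nat.beq (f46 q) (wordR W46 q)) q) = true := by decide +kernel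

theorem eq46_42 : allR 126420 3010 (fun q => (fun q => Nat.beq (f46 q) (wordR W46 q)) q) = true := by decide +kernel

theorem eq46_43 : allR 129430 3010 (fun q => (fun q => Nat.beq (f46 q) (wordR W46 q)) q) = true := by decide +kernel

theorem eq46_44 : allR 132440 3010 (fun q => (fun q => Nat.beq (f46 q) (wordR W46 q)) q) = true := by decide +kernel

theorem eq46_45 : allR 135450 3010 (fun q => (fun q => Nat.beq (f46 q) (wordR W46 q)) q) = true := by decide +kernel

theorem eq46_46 : allR 138460 3010 (fun q => (fun q => Nat.beq (f46 q) (wordR W46 q)) q) = true := by decide +kernel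

theorem eq46_47 : allR 141470 3010 (fun q => (fun q => Nat.beq (f46 q) (wordR W46 q)) q) = true := by decide +kernel

theorem eq46_48 : allR 144480 3010 (fun q => (fun q => Nat.beq (f46 q) (wordR W46 q)) q) = true := by decide +kernel

theorem eq46_49 : allR 147490 3010 (fun q => (fun q => Nat.beq (f46 q) (wordR W46 q)) q) = true := by decide +kernel

theorem eq46_50 : allR 150500 3010 (fun q => (fun q => Nat.beq (f46 q) (wordR W46 q)) q) = true := by decide +kernel

theorem eq46_51 : allR 153510 3010 (fun q => (fun q => Nat.beq (f46 q) (wordR W46 q)) q) = true := by decide +kernel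

theorem eq46_52 : allR 156520 3010 (fun q => (fun q => Nat.beq (f46 q) (wordR W46 q)) q) = true := by decide +kernel

theorem eq46_53 : allR 159530 3010 (fun q => (fun q => Nat.beq (f46 q) (wordR W46 q)) q) = true := by decide +kernel

theorem eq46_54 : allR 162540 3010 (fun q => (fun q => Nat.beq (f46 q) (wordR W46 q)) q) = true := by decide +kernel

theorem eq46_55 : allR 165550 3010 (fun q => (fun q => Nat.beq (f46 q) (wordR W46 q)) q) = true := by decide +kernel

theorem eq46_56 : allR 168560 3010 (fun q => (fun q => Nat.beq (f46 q) (wordR W46 q)) q) = true := by decide +kernel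

theorem eq46_57 : allR 171570 3010 (fun q => (fun q => Nat.beq (f46 q) (wordR W46 q)) q) = true := by decide +kernel

theorem eq46_58 : allR 174580 3010 (fun q => (fun q => Nat.beq (f46 q) (wordR W46 q)) q) = true := by decide +kernel

theorem eq46_59 : allR 177590 3010 (fun q => (fun q => Nat.beq (f46 q) (wordR W46 q)) q) = true := by decide +kernel


end Cfsg.Agent.Fi24Out
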