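import Cfsg.Agent.Lib.Lead.Fi24Out.D46

/-! # The outer automorphism group of Fi₂₄′: the check of the table number 46, slices (generated) -/

set_option autoImplicit false
set_option Elab.async false
set_option maxRecDepth 100000

namespace Cfsg.Agent.Fi24Out

open Cfsg.Agent.PF Cfsg.Agent.Lib.Helper6 Cfsg.Agent.Lib.Helper6.TC
open Cfsg.Agent.PL (Acts evalF)

theorem eq46_60 : allR 180600 3010 (fun q => (fun q => Nat.beq (f46 q) (wordR W46 q)) q) = true := by decide +kernel

theorem eq46_61 : allR 183610 3010 (fun q => (fun q => Nat.beq (f46 q) (wordR W46 q)) q) = true := by decide +kernel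

theorem eq46_62 : allR 186620 3010 (fun q => (fun q => Nat.beq (f46 q) (wordR W46 q)) q) = true := by decide +kernel

theorem eq46_63 : allR 189630 3010 (fun q => (fun q => Nat.beq (f46 q) (wordR W46 q)) q) = true := by decide +kernel

theorem eq46_64 : allR 192640 3010 (fun q => (fun q => Nat.beq (f46 q) (wordR W46 q)) q) = true := by decide +kernel

theorem eq46_65 : allR 195650 3010 (fun q => (fun q => Nat.beq (f46 q) (wordR W46 q)) q) = true := by decide +kernel

theorem eq46_66 : allR 198660 3010 (fun q => (fun q => Nat.beq (f46 q) (wordR W46 q)) q) = true := by decide +kernel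

theorem eq46_67 : allR 201670 3010 (fun q => (fun q => Nat.beq (f46 q) (wordR W46 q)) q) = true := by decide +kernel

theorem eq46_68 : allR 204680 3010 (fun q => (fun q => Nat.beq (f46 q) (wordR W46 q)) q) = true := by decide +kernel

theorem eq46_69 : allR 207690 3010 (fun q => (fun q => Nat.beq (f46 q) (wordR W46 q)) q) = true := by decide +kernel

theorem eq46_70 : allR 210700 3010 (fun q => (fun q => Nat.beq (f46 q) (wordR W46 q)) q) = true := by decide +kernel

theorem eq46_71 : allR 213710 3010 (fun q => (fun q => Nat.beq (f46 q) (wordR W46 q)) q) = true := by decide +kernel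

theorem eq46_72 : allR 216720 3010 (fun q => (fun q => Nat.beq (f46 q) (wordR W46 q)) q) = true := by decide +kernel

theorem eq46_73 : allR 219730 3010 (fun q => (fun q => Nat.beq (f46 q) (wordR W46 q)) q) = true := by decide +kernel

theorem eq46_74 : allR 222740 3010 (fun q => (fun q => Nat.beq (f46 q) (wordR W46 q)) q) = true := by decide +kernel

theorem eq46_75 : allR 225750 3010 (fun q => (fun q => Nat.beq (f46 q) (wordR W46 q)) q) = true := by decide +kernel

theorem eq46_76 : allR 228760 3010 (fun q => (fun q => Nat.beq (f46 q) (wordR W46 q)) q) = true := by decide +kernel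

theorem eq46_77 : allR 231770 3010 (fun q => (fun q => Nat.beq (f46 q) (wordR W46 q)) q) = true := by decide +kernel

theorem eq46_78 : allR 234780 3010 (fun q => (fun q => Nat.beq (f46 q) (wordR W46 q)) q) = true := by decide +kernel

theorem eq46_79 : allR 237790 3010 (fun q => (fun q => Nat.beq (f46 q) (wordR W46 q)) q) = true := by decide +kernel


end Cfsg.Agent.Fi24Out
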