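import Cfsg.Agent.Lib.Lead.Fi24Out.D46

/-! # The outer automorphism group of Fi₂₄′: the check of the table number 46, slices (generated) -/

set_option autoImplicit false
set_option Elab.async false
set_option maxRecDepth 100000

namespace Cfsg.Agent.Fi24Out

open Cfsg.Agent.PF Cfsg.Agent.Lib.Helper6 Cfsg.Agent.Lib.Helper6.TC
open Cfsg.Agent.PL (Acts evalF)

theorem eq46_80 : allR 240800 3010 (fun q => (fun q => Nat.beq (f46 q) (wordR W46 q)) q) = true := by decide +kernel

theorem eq46_81 : allR 243810 3010 (fun q => (fun q => Nat.beq (f46 q) (wordR W46 q)) q) = true := by decide +kernel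

theorem eq46_82 : allR 246820 3010 (fun q => (fun q => Nat.beq (f46 q) (wordR W46 q)) q) = true := by decide +kernel

theorem eq46_83 : allR 249830 3010 (fun q => (fun q => Nat.beq (f46 q) (wordR W46 q)) q) = true := by decide +kernel

theorem eq46_84 : allR 252840 3010 (fun q => (fun q => Nat.beq (f46 q) (wordR W46 q)) q) = true := by decide +kernel

theorem eq46_85 : allR 255850 3010 (fun q => (fun q => Nat.beq (f46 q) (wordR W46 q)) q) = true := by decide +kernel

theorem eq46_86 : allR 258860 3010 (fun q => (fun q => Nat.beq (f46 q) (wordR W46 q)) q) = true := by decide +kernel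

theorem eq46_87 : allR 261870 3010 (fun q => (fun q => Nat.beq (f46 q) (wordR W46 q)) q) = true := by decide +kernel

theorem eq46_88 : allR 264880 3010 (fun q => (fun q => Nat.beq (f46 q) (wordR W46 q)) q) = true := by decide +kernel

theorem eq46_89 : allR 267890 3010 (fun q => (fun q => Nat.beq (f46 q) (wordR W46 q)) q) = true := by decide +kernel

theorem eq46_90 : allR 270900 3010 (fun q => (fun q => Nat.beq (f46 q) (wordR W46 q)) q) = true := by decide +kernel

theorem eq46_91 : allR 273910 3010 (fun q => (fun q => Nat.beq (f46 q) (wordR W46 q)) q) = true := by decide +kernel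

theorem eq46_92 : allR 276920 3010 (fun q => (fun q => Nat.beq (f46 q) (wordR W46 q)) q) = true := by decide +kernel

theorem eq46_93 : allR 279930 3010 (fun q => (fun q => Nat.beq (f46 q) (wordR W46 q)) q) = true := by decide +kernel

theorem eq46_94 : allR 282940 3010 (fun q => (fun q => Nat.beq (f46 q) (wordR W46 q)) q) = true := by decide +kernel

theorem eq46_95 : allR 285950 3010 (fun q => (fun q => Nat.beq (f46 q) (wordR W46 q)) q) = true := by decide +kernel

theorem eq46_96 : allR 288960 3010 (fun q => (fun q => Nat.beq (f46 q) (wordR W46 q)) q) = true := by decide +kernel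

theorem eq46_97 : allR 291970 3010 (fun q => (fun q => Nat.beq (f46 q) (wordR W46 q)) q) = true := by decide +kernel

theorem eq46_98 : allR 294980 3010 (fun q => (fun q => Nat.beq (f46 q) (wordR W46 q)) q) = true := by decide +kernel

theorem eq46_99 : allR 297990 3010 (fun q => (fun q => Nat.beq (f46 q) (wordR W46 q)) q) = true := by decide +kernel


end Cfsg.Agent.Fi24Out
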