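import Cfsg.Agent.Lib.Lead.Fi24Out.C46_0
import Cfsg.Agent.Lib.Lead.Fi24Out.C46_1
import Cfsg.Agent.Lib.Lead.Fi24Out.C46_2
import Cfsg.Agent.Lib.Lead.Fi24Out.C46_3
import Cfsg.Agent.Lib.Lead.Fi24Out.C46_4
import Cfsg.Agent.Lib.Lead.Fi24Out.C46_5
import Cfsg.Agent.Lib.Lead.Fi24Out.Base0

/-! # The outer automorphism group of Fi₂₄′: the check of the table number 46 (generated) -/

set_option autoImplicit false
set_option maxRecDepth 100000

namespace Cfsg.Agent.Fi24Out

open Cfsg.Agent.PF Cfsg.Agent.Lib.Helper6 Cfsg.Agent.Lib.Helper6.TC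
open Cfsg.Agent.PL (Acts evalF)

theorem eq46_all : ∀ q < 306936, (fun q => Nat.beq (f46 q) (wordR W46 q)) q = true :=
  forall_lt_of_chunks (f := fun q => (fun q => Nat.beq (f46 q) (wordR W46 q)) q) [(0, 3010), (3010, 3010), (6020, 3010), (9030, 3010), (12040, 3010), (15050, 3010), (18060, 3010), (21070, 3010), (24080, 3010), (27090, 3010), (30100, 3010), (33110, 3010), (36120, 3010), (39130, 3010), (42140, 3010), (45150, 3010), (48160, 3010), (51170, 3010), (54180, 3010), (57190, 3010), (60200, 3010), (63210, 3010), (66220, 3010), (69230, 3010), (72240, 3010), (75250, 3010), (78260, 3010), (81270, 3010), (84280, 3010), (87290, 3010), (90300, 3010), (93310, 3010), (96320, 3010), (99330, 3010), (102340, 3010), (105350, 3010), (108360, 3010), (111370, 3010), (114380, 3010), (117390, 3010), (120400, 3010), (123410, 3010), (126420, 3010), (129430, 3010), (132440, 3010), (135450, 3010), (138460, 3010), (141470, 3010), (144480, 3010), (147490, 3010), (150500, 3010), (153510, 3010), (156520, 3010), (159530, 3010), (162540, 3010),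 (165550, 3010), (168560, 3010), (171570, 3010), (174580, 3010), (177590, 3010), (180600, 3010), (183610, 3010), (186620, 3010), (189630, 3010), (192640, 3010), (195650, 3010), (198660, 3010), (201670, 3010), (204680, 3010), (207690, 3010), (210700, 3010), (213710, 3010), (216720, 3010), (219730, 3010), (222740, 3010), (225750, 3010), (228760, 3010), (231770, 3010), (234780, 3010), (237790, 3010), (240800, 3010), (243810, 3010), (246820, 3010), (249830, 3010), (252840, 3010), (255850, 3010), (258860, 3010), (261870, 3010), (264880, 3010), (267890, 3010), (270900, 3010), (273910, 3010), (276920, 3010), (279930, 3010), (282940, 3010), (285950, 3010), (288960, 3010), (291970, 3010), (294980, 3010), (297990, 3010), (301000, 3010), (304010, 2926)] (by decide)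
    (all_cons eq46_0 (all_cons eq46_1 (all_cons eq46_2 (all_cons eq46_3 (all_cons eq46_4 (all_cons eq46_5 (all_cons eq46_6 (all_cons eq46_7 (all_cons eq46_8 (all_cons eq46_9 (all_cons eq46_10 (all_cons eq46_11 (all_cons eq46_12 (all_cons eq46_13 (all_cons eq46_14 (all_cons eq46_15 (all_cons eq46_16 (all_cons eq46_17 (all_cons eq46_18 (all_cons eq46_19 (all_cons eq46_20 (all_cons eq46_21 (all_cons eq46_22 (all_cons eq46_23 (all_cons eq46_24 (all_cons eq46_25 (all_cons eq46_26 (all_cons eq46_27 (all_cons eq46_28 (all_cons eq46_29 (all_cons eq46_30 (all_cons eq46_31 (all_cons eq46_32 (all_cons eq46_33 (all_cons eq46_34 (all_cons eq46_35 (all_cons eq46_36 (all_cons eq46_37 (all_cons eq46_38 (all_cons eq46_39 (all_cons eq46_40 (all_cons eq46_41 (all_cons eq46_42 (all_cons eq46_43 (all_cons eq46_44 (all_cons eq46_45 (all_cons eq46_46 (all_cons eq46_47 (all_cons eq46_48 (all_cons eq46_49 (all_cons eq46_50 (all_cons eq46_51 (all_cons eq46_52 (all_cons eq46_53 (all_cons eq46_54 (all_cons eq46_55 (all_cons eq46_56 (all_cons eq46_57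 (all_cons eq46_58 (all_cons eq46_59 (all_cons eq46_60 (all_cons eq46_61 (all_cons eq46_62 (all_cons eq46_63 (all_cons eq46_64 (all_cons eq46_65 (all_cons eq46_66 (all_cons eq46_67 (all_cons eq46_68 (all_cons eq46_69 (all_cons eq46_70 (all_cons eq46_71 (all_cons eq46_72 (all_cons eq46_73 (all_cons eq46_74 (all_cons eq46_75 (all_cons eq46_76 (all_cons eq46_77 (all_cons eq46_78 (all_cons eq46_79 (all_cons eq46_80 (all_cons eq46_81 (all_cons eq46_82 (all_cons eq46_83 (all_cons eq46_84 (all_cons eq46_85 (all_cons eq46_86 (all_cons eq46_87 (all_cons eq46_88 (all_cons eq46_89 (all_cons eq46_90 (all_cons eq46_91 (all_cons eq46_92 (all_cons eq46_93 (all_cons eq46_94 (all_cons eq46_95 (all_cons eq46_96 (all_cons eq46_97 (all_cons eq46_98 (all_cons eq46_99 (all_cons eq46_100 (all_cons eq46_101 all_nil))))))))))))))))))))))))))))))))))))))))))))))))))))))))))))))))))))))))))))))))))))))))))))))))))))))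

/-- the table agrees with the word -/
theorem eq46 : ∀ q < 306936, f46 q = wordR W46 q :=
  fun q hq => Nat.eq_of_beq_eq_true (eq46_all q hq)

end Cfsg.Agent.Fi24Out
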