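import Cfsg.Agent.Lib.Lead.Fi24Out.D46

/-! # The outer automorphism group of Fi₂₄′: the check of the table number 46, slices (generated) -/

set_option autoImplicit false
set_option Elab.async false
set_option maxRecDepth 100000

namespace Cfsg.Agent.Fi24Out

open Cfsg.Agent.PF Cfsg.Agent.Lib.Helper6 Cfsg.Agent.Lib.Helper6.TC
open Cfsg.Agent.PL (Acts evalF)

theorem eq46_0 : allR 0 3010 (fun q => (fun q => Nat.beq (f46 q) (wordR W46 q)) q) = true := by decide +kernel

theorem eq46_1 : allR 3010 3010 (fun q => (fun q => Nat.beq (f46 q) (wordR W46 q)) q) = true := by decide +kernel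

theorem eq46_2 : allR 6020 3010 (fun q => (fun q => Nat.beq (f46 q) (wordR W46 q)) q) = true := by decide +kernel

theorem eq46_3 : allR 9030 3010 (fun q => (fun q => Nat.beq (f46 q) (wordR W46 q)) q) = true := by decide +kernel

theorem eq46_4 : allR 12040 3010 (fun q => (fun q => Nat.beq (f46 q) (wordR W46 q)) q) = true := by decide +kernel

theorem eq46_5 : allR 15050 3010 (fun q => (fun q => Nat.beq (f46 q) (wordR W46 q)) q) = true := by decide +kernel

theorem eq46_6 : allR 18060 3010 (fun q => (fun q => Nat.beq (f46 q) (wordR W46 q)) q) = true := by decide +kernel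

theorem eq46_7 : allR 21070 3010 (fun q => (fun q => Nat.beq (f46 q) (wordR W46 q)) q) = true := by decide +kernel

theorem eq46_8 : allR 24080 3010 (fun q => (fun q => Nat.beq (f46 q) (wordR W46 q)) q) = true := by decide +kernel

theorem eq46_9 : allR 27090 3010 (fun q => (fun q => Nat.beq (f46 q) (wordR W46 q)) q) = true := by decide +kernel

theorem eq46_10 : allR 30100 3010 (fun q => (fun q => Nat.beq (f46 q) (wordR W46 q)) q) = true := by decide +kernel

theorem eq46_11 : allR 33110 3010 (fun q => (fun q => Nat.beq (f46 q) (wordR W46 q)) q) = true := by decide +kernel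

theorem eq46_12 : allR 36120 3010 (fun q => (fun q => Nat.beq (f46 q) (wordR W46 q)) q) = true := by decide +kernel

theorem eq46_13 : allR 39130 3010 (fun q => (fun q => Nat.beq (f46 q) (wordR W46 q)) q) = true := by decide +kernel

theorem eq46_14 : allR 42140 3010 (fun q => (fun q => Nat.beq (f46 q) (wordR W46 q)) q) = true := by decide +kernel

theorem eq46_15 : allR 45150 3010 (fun q => (fun q => Nat.beq (f46 q) (wordR W46 q)) q) = true := by decide +kernel

theorem eq46_16 : allR 48160 3010 (fun q => (fun q => Nat.beq (f46 q) (wordR W46 q)) q) = true := by decide +kernel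

theorem eq46_17 : allR 51170 3010 (fun q => (fun q => Nat.beq (f46 q) (wordR W46 q)) q) = true := by decide +kernel

theorem eq46_18 : allR 54180 3010 (fun q => (fun q => Nat.beq (f46 q) (wordR W46 q)) q) = true := by decide +kernel

theorem eq46_19 : allR 57190 3010 (fun q => (fun q => Nat.beq (f46 q) (wordR W46 q)) q) = true := by decide +kernel


end Cfsg.Agent.Fi24Out
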