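import Cfsg.Agent.Lib.Lead.Fi24Out.CG0_0
import Cfsg.Agent.Lib.Lead.Fi24Out.Base0

/-! # The outer automorphism group of Fi₂₄′: the check of the table of the generator `l` (generated) -/

set_option autoImplicit false
set_option maxRecDepth 100000

namespace Cfsg.Agent.Fi24Out

open Cfsg.Agent.PF Cfsg.Agent.Lib.Helper6 Cfsg.Agent.Lib.Helper6.TC
open Cfsg.Agent.PL (Acts evalF)

theorem eqG0_all : ∀ q < 306936, (fun q => Nat.beq (fg0 q) (fgen 0 q)) q = true :=
  forall_lt_of_chunks (f := fun q => (fun q => Nat.beq (fg0 q) (fgen 0 q)) q) [(0, 16155), (16155, 16155), (32310, 16155), (48465, 16155), (64620, 16155), (80775, 16155), (96930, 16155), (113085, 16155), (129240, 16155), (145395, 16155), (161550, 16155), (177705, 16155), (193860, 16155), (210015, 16155), (226170, 16155), (242325, 16155), (258480, 16155), (274635, 16155), (290790, 16146)] (by decide)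
    (all_cons eqG0_0 (all_cons eqG0_1 (all_cons eqG0_2 (all_cons eqG0_3 (all_cons eqG0_4 (all_cons eqG0_5 (all_cons eqG0_6 (all_cons eqG0_7 (all_cons eqG0_8 (all_cons eqG0_9 (all_cons eqG0_10 (all_cons eqG0_11 (all_cons eqG0_12 (all_cons eqG0_13 (all_cons eqG0_14 (all_cons eqG0_15 (all_cons eqG0_16 (all_cons eqG0_17 (all_cons eqG0_18 all_nil)))))))))))))))))))

/-- the table agrees with the column of the coset table -/
theorem eqG0 : ∀ q < 306936, fg0 q = fgen 0 q :=
  fun q hq => Nat.eq_of_beq_eq_true (eqG0_all q hq)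

end Cfsg.Agent.Fi24Out
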