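import Cfsg.Agent.Lib.Lead.Fi24Out.DG0

/-! # The outer automorphism group of Fi₂₄′: the check of the table of the generator `l`, slices (generated) -/

set_option autoImplicit false
set_option Elab.async false
set_option maxRecDepth 100000

namespace Cfsg.Agent.Fi24Out

open Cfsg.Agent.PF Cfsg.Agent.Lib.Helper6 Cfsg.Agent.Lib.Helper6.TC
open Cfsg.Agent.PL (Acts evalF)

theorem eqG0_0 : allR 0 16155 (fun q => (fun q => Nat.beq (fg0 q) (fgen 0 q)) q) = true := by decide +kernel

theorem eqG0_1 : allR 16155 16155 (fun q => (fun q => Nat.beq (fg0 q) (fgen 0 q)) q) = true := by decide +kernel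

theorem eqG0_2 : allR 32310 16155 (fun q => (fun q => Nat.beq (fg0 q) (fgen 0 q)) q) = true := by decide +kernel

theorem eqG0_3 : allR 48465 16155 (fun q => (fun q => Nat.beq (fg0 q) (fgen 0 q)) q) = true := by decide +kernel

theorem eqG0_4 : allR 64620 16155 (fun q => (fun q => Nat.beq (fg0 q) (fgen 0 q)) q) = true := by decide +kernel

theorem eqG0_5 : allR 80775 16155 (fun q => (fun q => Nat.beq (fg0 q) (fgen 0 q)) q) = true := by decide +kernel

theorem eqG0_6 : allR 96930 16155 (fun q => (fun q => Nat.beq (fg0 q) (fgen 0 q)) q) = true := by decide +kernel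

theorem eqG0_7 : allR 113085 16155 (fun q => (fun q => Nat.beq (fg0 q) (fgen 0 q)) q) = true := by decide +kernel

theorem eqG0_8 : allR 129240 16155 (fun q => (fun q => Nat.beq (fg0 q) (fgen 0 q)) q) = true := by decide +kernel

theorem eqG0_9 : allR 145395 16155 (fun q => (fun q => Nat.beq (fg0 q) (fgen 0 q)) q) = true := by decide +kernel

theorem eqG0_10 : allR 161550 16155 (fun q => (fun q => Nat.beq (fg0 q) (fgen 0 q)) q) = true := by decide +kernel

theorem eqG0_11 : allR 177705 16155 (fun q => (fun q => Nat.beq (fg0 q) (fgen 0 q)) q) = true := by decide +kernel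

theorem eqG0_12 : allR 193860 16155 (fun q => (fun q => Nat.beq (fg0 q) (fgen 0 q)) q) = true := by decide +kernel

theorem eqG0_13 : allR 210015 16155 (fun q => (fun q => Nat.beq (fg0 q) (fgen 0 q)) q) = true := by decide +kernel

theorem eqG0_14 : allR 226170 16155 (fun q => (fun q => Nat.beq (fg0 q) (fgen 0 q)) q) = true := by decide +kernel

theorem eqG0_15 : allR 242325 16155 (fun q => (fun q => Nat.beq (fg0 q) (fgen 0 q)) q) = true := by decide +kernel

theorem eqG0_16 : allR 258480 16155 (fun q => (fun q => Nat.beq (fg0 q) (fgen 0 q)) q) = true := by decide +kernel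

theorem eqG0_17 : allR 274635 16155 (fun q => (fun q => Nat.beq (fg0 q) (fgen 0 q)) q) = true := by decide +kernel

theorem eqG0_18 : allR 290790 16146 (fun q => (fun q => Nat.beq (fg0 q) (fgen 0 q)) q) = true := by decide +kernel


end Cfsg.Agent.Fi24Out
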