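import Cfsg.Agent.Lib.Lead.Fi24Out.LevAD

/-! # The outer automorphism group of Fi₂₄′: the centraliser of `x`, slices (generated) -/

set_option autoImplicit false
set_option Elab.async false
set_option maxRecDepth 100000

namespace Cfsg.Agent.Fi24Out

open Cfsg.Agent.PF Cfsg.Agent.Lib.Helper6 Cfsg.Agent.Lib.Helper6.TC
open Cfsg.Agent.PL (Acts evalF)

theorem chk_centX_220 : allR 146520 666 (fun q => centP 306936 10 f26 [0, 1] 29 LA0 LsA q) = true := by decide +kernel

theorem chk_centX_221 : allR 147186 666 (fun q => centP 306936 10 f26 [0, 1] 29 LA0 LsA q) = true := by decide +kernel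

theorem chk_centX_222 : allR 147852 666 (fun q => centP 306936 10 f26 [0, 1] 29 LA0 LsA q) = true := by decide +kernel

theorem chk_centX_223 : allR 148518 666 (fun q => centP 306936 10 f26 [0, 1] 29 LA0 LsA q) = true := by decide +kernel

theorem chk_centX_224 : allR 149184 666 (fun q => centP 306936 10 f26 [0, 1] 29 LA0 LsA q) = true := by decide +kernel

theorem chk_centX_225 : allR 149850 666 (fun q => centP 306936 10 f26 [0, 1] 29 LA0 LsA q) = true := by decide +kernel

theorem chk_centX_226 : allR 150516 666 (fun q => centP 306936 10 f26 [0, 1] 29 LA0 LsA q) = true := by decide +kernel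

theorem chk_centX_227 : allR 151182 666 (fun q => centP 306936 10 f26 [0, 1] 29 LA0 LsA q) = true := by decide +kernel

theorem chk_centX_228 : allR 151848 666 (fun q => centP 306936 10 f26 [0, 1] 29 LA0 LsA q) = true := by decide +kernel

theorem chk_centX_229 : allR 152514 666 (fun q => centP 306936 10 f26 [0, 1] 29 LA0 LsA q) = true := by decide +kernel

theorem chk_centX_230 : allR 153180 666 (fun q => centP 306936 10 f26 [0, 1] 29 LA0 LsA q) = true := by decide +kernel

theorem chk_centX_231 : allR 153846 666 (fun q => centP 306936 10 f26 [0, 1] 29 LA0 LsA q) = true := by decide +kernel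

theorem chk_centX_232 : allR 154512 666 (fun q => centP 306936 10 f26 [0, 1] 29 LA0 LsA q) = true := by decide +kernel

theorem chk_centX_233 : allR 155178 666 (fun q => centP 306936 10 f26 [0, 1] 29 LA0 LsA q) = true := by decide +kernel

theorem chk_centX_234 : allR 155844 666 (fun q => centP 306936 10 f26 [0, 1] 29 LA0 LsA q) = true := by decide +kernel

theorem chk_centX_235 : allR 156510 666 (fun q => centP 306936 10 f26 [0, 1] 29 LA0 LsA q) = true := by decide +kernel

theorem chk_centX_236 : allR 157176 666 (fun q => centP 306936 10 f26 [0, 1] 29 LA0 LsA q) = true := by decide +kernel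

theorem chk_centX_237 : allR 157842 666 (fun q => centP 306936 10 f26 [0, 1] 29 LA0 LsA q) = true := by decide +kernel

theorem chk_centX_238 : allR 158508 666 (fun q => centP 306936 10 f26 [0, 1] 29 LA0 LsA q) = true := by decide +kernel

theorem chk_centX_239 : allR 159174 666 (fun q => centP 306936 10 f26 [0, 1] 29 LA0 LsA q) = true := by decide +kernel


end Cfsg.Agent.Fi24Out
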