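import Cfsg.Agent.Lib.Lead.Fi24Out.LevAD

/-! # The outer automorphism group of Fi₂₄′: the centraliser of `x`, slices (generated) -/

set_option autoImplicit false
set_option Elab.async false
set_option maxRecDepth 100000

namespace Cfsg.Agent.Fi24Out

open Cfsg.Agent.PF Cfsg.Agent.Lib.Helper6 Cfsg.Agent.Lib.Helper6.TC
open Cfsg.Agent.PL (Acts evalF)

theorem chk_centX_240 : allR 159840 666 (fun q => centP 306936 10 f26 [0, 1] 29 LA0 LsA q) = true := by decide +kernel

theorem chk_centX_241 : allR 160506 666 (fun q => centP 306936 10 f26 [0, 1] 29 LA0 LsA q) = true := by decide +kernel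

theorem chk_centX_242 : allR 161172 666 (fun q => centP 306936 10 f26 [0, 1] 29 LA0 LsA q) = true := by decide +kernel

theorem chk_centX_243 : allR 161838 666 (fun q => centP 306936 10 f26 [0, 1] 29 LA0 LsA q) = true := by decide +kernel

theorem chk_centX_244 : allR 162504 666 (fun q => centP 306936 10 f26 [0, 1] 29 LA0 LsA q) = true := by decide +kernel

theorem chk_centX_245 : allR 163170 666 (fun q => centP 306936 10 f26 [0, 1] 29 LA0 LsA q) = true := by decide +kernel

theorem chk_centX_246 : allR 163836 666 (fun q => centP 306936 10 f26 [0, 1] 29 LA0 LsA q) = true := by decide +kernel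

theorem chk_centX_247 : allR 164502 666 (fun q => centP 306936 10 f26 [0, 1] 29 LA0 LsA q) = true := by decide +kernel

theorem chk_centX_248 : allR 165168 666 (fun q => centP 306936 10 f26 [0, 1] 29 LA0 LsA q) = true := by decide +kernel

theorem chk_centX_249 : allR 165834 666 (fun q => centP 306936 10 f26 [0, 1] 29 LA0 LsA q) = true := by decide +kernel

theorem chk_centX_250 : allR 166500 666 (fun q => centP 306936 10 f26 [0, 1] 29 LA0 LsA q) = true := by decide +kernel

theorem chk_centX_251 : allR 167166 666 (fun q => centP 306936 10 f26 [0, 1] 29 LA0 LsA q) = true := by decide +kernel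

theorem chk_centX_252 : allR 167832 666 (fun q => centP 306936 10 f26 [0, 1] 29 LA0 LsA q) = true := by decide +kernel

theorem chk_centX_253 : allR 168498 666 (fun q => centP 306936 10 f26 [0, 1] 29 LA0 LsA q) = true := by decide +kernel

theorem chk_centX_254 : allR 169164 666 (fun q => centP 306936 10 f26 [0, 1] 29 LA0 LsA q) = true := by decide +kernel

theorem chk_centX_255 : allR 169830 666 (fun q => centP 306936 10 f26 [0, 1] 29 LA0 LsA q) = true := by decide +kernel

theorem chk_centX_256 : allR 170496 666 (fun q => centP 306936 10 f26 [0, 1] 29 LA0 LsA q) = true := by decide +kernel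

theorem chk_centX_257 : allR 171162 666 (fun q => centP 306936 10 f26 [0, 1] 29 LA0 LsA q) = true := by decide +kernel

theorem chk_centX_258 : allR 171828 666 (fun q => centP 306936 10 f26 [0, 1] 29 LA0 LsA q) = true := by decide +kernel

theorem chk_centX_259 : allR 172494 666 (fun q => centP 306936 10 f26 [0, 1] 29 LA0 LsA q) = true := by decide +kernel


end Cfsg.Agent.Fi24Out
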