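import Cfsg.Agent.Lib.Lead.Fi24Out.ChkWY_0
import Cfsg.Agent.Lib.Lead.Fi24Out.Base0

/-! # The outer automorphism group of Fi₂₄′: the action of `w` on `y` (generated) -/

set_option autoImplicit false
set_option maxRecDepth 100000

namespace Cfsg.Agent.Fi24Out

open Cfsg.Agent.PF Cfsg.Agent.Lib.Helper6 Cfsg.Agent.Lib.Helper6.TC
open Cfsg.Agent.PL (Acts evalF)

theorem chk_wy_all : ∀ q < 306936, (fun q => Nat.beq ((fun q => f37 (f27 q)) q) ((fun q => f27^[1] (f37 q)) q)) q = true :=
  forall_lt_of_chunks (f := fun q => (fun q => Nat.beq ((fun q => f37 (f27 q)) q) ((fun q => f27^[1] (f37 q)) q)) q) [(0, 23611), (23611, 23611), (47222, 23611), (70833, 23611), (94444, 23611), (118055, 23611), (141666, 23611), (165277, 23611), (188888, 23611), (212499, 23611), (236110, 23611), (259721, 23611), (283332, 23604)] (by decide)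
    (all_cons chk_wy_0 (all_cons chk_wy_1 (all_cons chk_wy_2 (all_cons chk_wy_3 (all_cons chk_wy_4 (all_cons chk_wy_5 (all_cons chk_wy_6 (all_cons chk_wy_7 (all_cons chk_wy_8 (all_cons chk_wy_9 (all_cons chk_wy_10 (all_cons chk_wy_11 (all_cons chk_wy_12 all_nil)))))))))))))

/-- `w y = y ^ 1 w` -/
theorem chk_wy : ∀ q < 306936, (fun q => f37 (f27 q)) q = (fun q => f27^[1] (f37 q)) q :=
  fun q hq => Nat.eq_of_beq_eq_true (chk_wy_all q hq)

end Cfsg.Agent.Fi24Out
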