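import Cfsg.Agent.Lib.Lead.Fi24Out.D37
import Cfsg.Agent.Lib.Lead.Fi24Out.D27

/-! # The outer automorphism group of Fi₂₄′: the action of `w` on `y`, slices (generated) -/

set_option autoImplicit false
set_option Elab.async false
set_option maxRecDepth 100000

namespace Cfsg.Agent.Fi24Out

open Cfsg.Agent.PF Cfsg.Agent.Lib.Helper6 Cfsg.Agent.Lib.Helper6.TC
open Cfsg.Agent.PL (Acts evalF)

theorem chk_wy_0 : allR 0 23611 (fun q => (fun q => Nat.beq ((fun q => f37 (f27 q)) q) ((fun q => f27^[1] (f37 q)) q)) q) = true := by decide +kernel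

theorem chk_wy_1 : allR 23611 23611 (fun q => (fun q => Nat.beq ((fun q => f37 (f27 q)) q) ((fun q => f27^[1] (f37 q)) q)) q) = true := by decide +kernel

theorem chk_wy_2 : allR 47222 23611 (fun q => (fun q => Nat.beq ((fun q => f37 (f27 q)) q) ((fun q => f27^[1] (f37 q)) q)) q) = true := by decide +kernel

theorem chk_wy_3 : allR 70833 23611 (fun q => (fun q => Nat.beq ((fun q => f37 (f27 q)) q) ((fun q => f27^[1] (f37 q)) q)) q) = true := by decide +kernel

theorem chk_wy_4 : allR 94444 23611 (fun q => (fun q => Nat.beq ((fun q => f37 (f27 q)) q) ((fun q => f27^[1] (f37 q)) q)) q) = true := by decide +kernel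

theorem chk_wy_5 : allR 118055 23611 (fun q => (fun q => Nat.beq ((fun q => f37 (f27 q)) q) ((fun q => f27^[1] (f37 q)) q)) q) = true := by decide +kernel

theorem chk_wy_6 : allR 141666 23611 (fun q => (fun q => Nat.beq ((fun q => f37 (f27 q)) q) ((fun q => f27^[1] (f37 q)) q)) q) = true := by decide +kernel

theorem chk_wy_7 : allR 165277 23611 (fun q => (fun q => Nat.beq ((fun q => f37 (f27 q)) q) ((fun q => f27^[1] (f37 q)) q)) q) = true := by decide +kernel

theorem chk_wy_8 : allR 188888 23611 (fun q => (fun q => Nat.beq ((fun q => f37 (f27 q)) q) ((fun q => f27^[1] (f37 q)) q)) q) = true := by decide +kernel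

theorem chk_wy_9 : allR 212499 23611 (fun q => (fun q => Nat.beq ((fun q => f37 (f27 q)) q) ((fun q => f27^[1] (f37 q)) q)) q) = true := by decide +kernel

theorem chk_wy_10 : allR 236110 23611 (fun q => (fun q => Nat.beq ((fun q => f37 (f27 q)) q) ((fun q => f27^[1] (f37 q)) q)) q) = true := by decide +kernel

theorem chk_wy_11 : allR 259721 23611 (fun q => (fun q => Nat.beq ((fun q => f37 (f27 q)) q) ((fun q => f27^[1] (f37 q)) q)) q) = true := by decide +kernel

theorem chk_wy_12 : allR 283332 23604 (fun q => (fun q => Nat.beq ((fun q => f37 (f27 q)) q) ((fun q => f27^[1] (f37 q)) q)) q) = true := by decide +kernel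


end Cfsg.Agent.Fi24Out
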