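import Cfsg.Agent.Lib.Lead.Fi24Out.D26

/-! # The outer automorphism group of Fi₂₄′: the order of `x`, slices (generated) -/

set_option autoImplicit false
set_option Elab.async false
set_option maxRecDepth 100000

namespace Cfsg.Agent.Fi24Out

open Cfsg.Agent.PF Cfsg.Agent.Lib.Helper6 Cfsg.Agent.Lib.Helper6.TC
open Cfsg.Agent.PL (Acts evalF)

theorem chk_x_40 : allR 132040 3301 (fun q => (fun q => Nat.beq (f26^[29] q) ((fun q => q) q)) q) = true := by decide +kernel

theorem chk_x_41 : allR 135341 3301 (fun q => (fun q => Nat.beq (f26^[29] q) ((fun q => q) q)) q) = true := by decide +kernel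

theorem chk_x_42 : allR 138642 3301 (fun q => (fun q => Nat.beq (f26^[29] q) ((fun q => q) q)) q) = true := by decide +kernel

theorem chk_x_43 : allR 141943 3301 (fun q => (fun q => Nat.beq (f26^[29] q) ((fun q => q) q)) q) = true := by decide +kernel

theorem chk_x_44 : allR 145244 3301 (fun q => (fun q => Nat.beq (f26^[29] q) ((fun q => q) q)) q) = true := by decide +kernel

theorem chk_x_45 : allR 148545 3301 (fun q => (fun q => Nat.beq (f26^[29] q) ((fun q => q) q)) q) = true := by decide +kernel

theorem chk_x_46 : allR 151846 3301 (fun q => (fun q => Nat.beq (f26^[29] q) ((fun q => q) q)) q) = true := by decide +kernel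

theorem chk_x_47 : allR 155147 3301 (fun q => (fun q => Nat.beq (f26^[29] q) ((fun q => q) q)) q) = true := by decide +kernel

theorem chk_x_48 : allR 158448 3301 (fun q => (fun q => Nat.beq (f26^[29] q) ((fun q => q) q)) q) = true := by decide +kernel

theorem chk_x_49 : allR 161749 3301 (fun q => (fun q => Nat.beq (f26^[29] q) ((fun q => q) q)) q) = true := by decide +kernel

theorem chk_x_50 : allR 165050 3301 (fun q => (fun q => Nat.beq (f26^[29] q) ((fun q => q) q)) q) = true := by decide +kernel

theorem chk_x_51 : allR 168351 3301 (fun q => (fun q => Nat.beq (f26^[29] q) ((fun q => q) q)) q) = true := by decide +kernel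

theorem chk_x_52 : allR 171652 3301 (fun q => (fun q => Nat.beq (f26^[29] q) ((fun q => q) q)) q) = true := by decide +kernel

theorem chk_x_53 : allR 174953 3301 (fun q => (fun q => Nat.beq (f26^[29] q) ((fun q => q) q)) q) = true := by decide +kernel

theorem chk_x_54 : allR 178254 3301 (fun q => (fun q => Nat.beq (f26^[29] q) ((fun q => q) q)) q) = true := by decide +kernel

theorem chk_x_55 : allR 181555 3301 (fun q => (fun q => Nat.beq (f26^[29] q) ((fun q => q) q)) q) = true := by decide +kernel

theorem chk_x_56 : allR 184856 3301 (fun q => (fun q => Nat.beq (f26^[29] q) ((fun q => q) q)) q) = true := by decide +kernel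

theorem chk_x_57 : allR 188157 3301 (fun q => (fun q => Nat.beq (f26^[29] q) ((fun q => q) q)) q) = true := by decide +kernel

theorem chk_x_58 : allR 191458 3301 (fun q => (fun q => Nat.beq (f26^[29] q) ((fun q => q) q)) q) = true := by decide +kernel

theorem chk_x_59 : allR 194759 3301 (fun q => (fun q => Nat.beq (f26^[29] q) ((fun q => q) q)) q) = true := by decide +kernel


end Cfsg.Agent.Fi24Out
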