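import Cfsg.Agent.Lib.Lead.Fi24Out.D26

/-! # The outer automorphism group of Fi₂₄′: the order of `x`, slices (generated) -/

set_option autoImplicit false
set_option Elab.async false
set_option maxRecDepth 100000

namespace Cfsg.Agent.Fi24Out

open Cfsg.Agent.PF Cfsg.Agent.Lib.Helper6 Cfsg.Agent.Lib.Helper6.TC
open Cfsg.Agent.PL (Acts evalF)

theorem chk_x_60 : allR 198060 3301 (fun q => (fun q => Nat.beq (f26^[29] q) ((fun q => q) q)) q) = true := by decide +kernel

theorem chk_x_61 : allR 201361 3301 (fun q => (fun q => Nat.beq (f26^[29] q) ((fun q => q) q)) q) = true := by decide +kernel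

theorem chk_x_62 : allR 204662 3301 (fun q => (fun q => Nat.beq (f26^[29] q) ((fun q => q) q)) q) = true := by decide +kernel

theorem chk_x_63 : allR 207963 3301 (fun q => (fun q => Nat.beq (f26^[29] q) ((fun q => q) q)) q) = true := by decide +kernel

theorem chk_x_64 : allR 211264 3301 (fun q => (fun q => Nat.beq (f26^[29] q) ((fun q => q) q)) q) = true := by decide +kernel

theorem chk_x_65 : allR 214565 3301 (fun q => (fun q => Nat.beq (f26^[29] q) ((fun q => q) q)) q) = true := by decide +kernel

theorem chk_x_66 : allR 217866 3301 (fun q => (fun q => Nat.beq (f26^[29] q) ((fun q => q) q)) q) = true := by decide +kernel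

theorem chk_x_67 : allR 221167 3301 (fun q => (fun q => Nat.beq (f26^[29] q) ((fun q => q) q)) q) = true := by decide +kernel

theorem chk_x_68 : allR 224468 3301 (fun q => (fun q => Nat.beq (f26^[29] q) ((fun q => q) q)) q) = true := by decide +kernel

theorem chk_x_69 : allR 227769 3301 (fun q => (fun q => Nat.beq (f26^[29] q) ((fun q => q) q)) q) = true := by decide +kernel

theorem chk_x_70 : allR 231070 3301 (fun q => (fun q => Nat.beq (f26^[29] q) ((fun q => q) q)) q) = true := by decide +kernel

theorem chk_x_71 : allR 234371 3301 (fun q => (fun q => Nat.beq (f26^[29] q) ((fun q => q) q)) q) = true := by decide +kernel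

theorem chk_x_72 : allR 237672 3301 (fun q => (fun q => Nat.beq (f26^[29] q) ((fun q => q) q)) q) = true := by decide +kernel

theorem chk_x_73 : allR 240973 3301 (fun q => (fun q => Nat.beq (f26^[29] q) ((fun q => q) q)) q) = true := by decide +kernel

theorem chk_x_74 : allR 244274 3301 (fun q => (fun q => Nat.beq (f26^[29] q) ((fun q => q) q)) q) = true := by decide +kernel

theorem chk_x_75 : allR 247575 3301 (fun q => (fun q => Nat.beq (f26^[29] q) ((fun q => q) q)) q) = true := by decide +kernel

theorem chk_x_76 : allR 250876 3301 (fun q => (fun q => Nat.beq (f26^[29] q) ((fun q => q) q)) q) = true := by decide +kernel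

theorem chk_x_77 : allR 254177 3301 (fun q => (fun q => Nat.beq (f26^[29] q) ((fun q => q) q)) q) = true := by decide +kernel

theorem chk_x_78 : allR 257478 3301 (fun q => (fun q => Nat.beq (f26^[29] q) ((fun q => q) q)) q) = true := by decide +kernel

theorem chk_x_79 : allR 260779 3301 (fun q => (fun q => Nat.beq (f26^[29] q) ((fun q => q) q)) q) = true := by decide +kernel


end Cfsg.Agent.Fi24Out
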