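import Cfsg.Agent.Lib.Lead.Fi24Out.D26

/-! # The outer automorphism group of Fi₂₄′: the order of `x`, slices (generated) -/

set_option autoImplicit false
set_option Elab.async false
set_option maxRecDepth 100000

namespace Cfsg.Agent.Fi24Out

open Cfsg.Agent.PF Cfsg.Agent.Lib.Helper6 Cfsg.Agent.Lib.Helper6.TC
open Cfsg.Agent.PL (Acts evalF)

theorem chk_x_80 : allR 264080 3301 (fun q => (fun q => Nat.beq (f26^[29] q) ((fun q => q) q)) q) = true := by decide +kernel

theorem chk_x_81 : allR 267381 3301 (fun q => (fun q => Nat.beq (f26^[29] q) ((fun q => q) q)) q) = true := by decide +kernel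

theorem chk_x_82 : allR 270682 3301 (fun q => (fun q => Nat.beq (f26^[29] q) ((fun q => q) q)) q) = true := by decide +kernel

theorem chk_x_83 : allR 273983 3301 (fun q => (fun q => Nat.beq (f26^[29] q) ((fun q => q) q)) q) = true := by decide +kernel

theorem chk_x_84 : allR 277284 3301 (fun q => (fun q => Nat.beq (f26^[29] q) ((fun q => q) q)) q) = true := by decide +kernel

theorem chk_x_85 : allR 280585 3301 (fun q => (fun q => Nat.beq (f26^[29] q) ((fun q => q) q)) q) = true := by decide +kernel

theorem chk_x_86 : allR 283886 3301 (fun q => (fun q => Nat.beq (f26^[29] q) ((fun q => q) q)) q) = true := by decide +kernel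

theorem chk_x_87 : allR 287187 3301 (fun q => (fun q => Nat.beq (f26^[29] q) ((fun q => q) q)) q) = true := by decide +kernel

theorem chk_x_88 : allR 290488 3301 (fun q => (fun q => Nat.beq (f26^[29] q) ((fun q => q) q)) q) = true := by decide +kernel

theorem chk_x_89 : allR 293789 3301 (fun q => (fun q => Nat.beq (f26^[29] q) ((fun q => q) q)) q) = true := by decide +kernel

theorem chk_x_90 : allR 297090 3301 (fun q => (fun q => Nat.beq (f26^[29] q) ((fun q => q) q)) q) = true := by decide +kernel

theorem chk_x_91 : allR 300391 3301 (fun q => (fun q => Nat.beq (f26^[29] q) ((fun q => q) q)) q) = true := by decide +kernel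

theorem chk_x_92 : allR 303692 3244 (fun q => (fun q => Nat.beq (f26^[29] q) ((fun q => q) q)) q) = true := by decide +kernel


end Cfsg.Agent.Fi24Out
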