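import Cfsg.Agent.Lib.Lead.Fi24Out.ChkX_0
import Cfsg.Agent.Lib.Lead.Fi24Out.ChkX_1
import Cfsg.Agent.Lib.Lead.Fi24Out.ChkX_2
import Cfsg.Agent.Lib.Lead.Fi24Out.ChkX_3
import Cfsg.Agent.Lib.Lead.Fi24Out.ChkX_4
import Cfsg.Agent.Lib.Lead.Fi24Out.Base0

/-! # The outer automorphism group of Fi₂₄′: the order of `x` (generated) -/

set_option autoImplicit false
set_option maxRecDepth 100000

namespace Cfsg.Agent.Fi24Out

open Cfsg.Agent.PF Cfsg.Agent.Lib.Helper6 Cfsg.Agent.Lib.Helper6.TC
open Cfsg.Agent.PL (Acts evalF)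

theorem chk_x_all : ∀ q < 306936, (fun q => Nat.beq (f26^[29] q) ((fun q => q) q)) q = true :=
  forall_lt_of_chunks (f := fun q => (fun q => Nat.beq (f26^[29] q) ((fun q => q) q)) q) [(0, 3301), (3301, 3301), (6602, 3301), (9903, 3301), (13204, 3301), (16505, 3301), (19806, 3301), (23107, 3301), (26408, 3301), (29709, 3301), (33010, 3301), (36311, 3301), (39612, 3301), (42913, 3301), (46214, 3301), (49515, 3301), (52816, 3301), (56117, 3301), (59418, 3301), (62719, 3301), (66020, 3301), (69321, 3301), (72622, 3301), (75923, 3301), (79224, 3301), (82525, 3301), (85826, 3301), (89127, 3301), (92428, 3301), (95729, 3301), (99030, 3301), (102331, 3301), (105632, 3301), (108933, 3301), (112234, 3301), (115535, 3301), (118836, 3301), (122137, 3301), (125438, 3301), (128739, 3301), (132040, 3301), (135341, 3301), (138642, 3301), (141943, 3301), (145244, 3301), (148545, 3301), (151846, 3301), (155147, 3301), (158448, 3301), (161749, 3301), (165050, 3301), (168351, 3301), (171652, 3301), (174953, 3301), (178254,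 3301), (181555, 3301), (184856, 3301), (188157, 3301), (191458, 3301), (194759, 3301), (198060, 3301), (201361, 3301), (204662, 3301), (207963, 3301), (211264, 3301), (214565, 3301), (217866, 3301), (221167, 3301), (224468, 3301), (227769, 3301), (231070, 3301), (234371, 3301), (237672, 3301), (240973, 3301), (244274, 3301), (247575, 3301), (250876, 3301), (254177, 3301), (257478, 3301), (260779, 3301), (264080, 3301), (267381, 3301), (270682, 3301), (273983, 3301), (277284, 3301), (280585, 3301), (283886, 3301), (287187, 3301), (290488, 3301), (293789, 3301), (297090, 3301), (300391, 3301), (303692, 3244)] (by decide)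
    (all_cons chk_x_0 (all_cons chk_x_1 (all_cons chk_x_2 (all_cons chk_x_3 (all_cons chk_x_4 (all_cons chk_x_5 (all_cons chk_x_6 (all_cons chk_x_7 (all_cons chk_x_8 (all_cons chk_x_9 (all_cons chk_x_10 (all_cons chk_x_11 (all_cons chk_x_12 (all_cons chk_x_13 (all_cons chk_x_14 (all_cons chk_x_15 (all_cons chk_x_16 (all_cons chk_x_17 (all_cons chk_x_18 (all_cons chk_x_19 (all_cons chk_x_20 (all_cons chk_x_21 (all_cons chk_x_22 (all_cons chk_x_23 (all_cons chk_x_24 (all_cons chk_x_25 (all_cons chk_x_26 (all_cons chk_x_27 (all_cons chk_x_28 (all_cons chk_x_29 (all_cons chk_x_30 (all_cons chk_x_31 (all_cons chk_x_32 (all_cons chk_x_33 (all_cons chk_x_34 (all_cons chk_x_35 (all_cons chk_x_36 (all_cons chk_x_37 (all_cons chk_x_38 (all_cons chk_x_39 (all_cons chk_x_40 (all_cons chk_x_41 (all_cons chk_x_42 (all_cons chk_x_43 (all_cons chk_x_44 (all_cons chk_x_45 (all_cons chk_x_46 (all_cons chk_x_47 (all_cons chk_x_48 (all_cons chk_x_49 (all_cons chk_x_50 (all_cons chk_x_51 (all_cons chk_x_52 (all_cons chk_x_53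 (all_cons chk_x_54 (all_cons chk_x_55 (all_cons chk_x_56 (all_cons chk_x_57 (all_cons chk_x_58 (all_cons chk_x_59 (all_cons chk_x_60 (all_cons chk_x_61 (all_cons chk_x_62 (all_cons chk_x_63 (all_cons chk_x_64 (all_cons chk_x_65 (all_cons chk_x_66 (all_cons chk_x_67 (all_cons chk_x_68 (all_cons chk_x_69 (all_cons chk_x_70 (all_cons chk_x_71 (all_cons chk_x_72 (all_cons chk_x_73 (all_cons chk_x_74 (all_cons chk_x_75 (all_cons chk_x_76 (all_cons chk_x_77 (all_cons chk_x_78 (all_cons chk_x_79 (all_cons chk_x_80 (all_cons chk_x_81 (all_cons chk_x_82 (all_cons chk_x_83 (all_cons chk_x_84 (all_cons chk_x_85 (all_cons chk_x_86 (all_cons chk_x_87 (all_cons chk_x_88 (all_cons chk_x_89 (all_cons chk_x_90 (all_cons chk_x_91 (all_cons chk_x_92 all_nil)))))))))))))))))))))))))))))))))))))))))))))))))))))))))))))))))))))))))))))))))))))))))))))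

/-- the order of `x` divides 29 -/
theorem chk_x : ∀ q < 306936, f26^[29] q = (fun q => q) q :=
  fun q hq => Nat.eq_of_beq_eq_true (chk_x_all q hq)

end Cfsg.Agent.Fi24Out
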