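import Cfsg.Agent.Lib.Lead.Fi24Out.D26
import Cfsg.Agent.Lib.Lead.Fi24Out.D27

/-! # The outer automorphism group of Fi₂₄′: the action of `y` on `x`, slices (generated) -/

set_option autoImplicit false
set_option Elab.async false
set_option maxRecDepth 100000

namespace Cfsg.Agent.Fi24Out

open Cfsg.Agent.PF Cfsg.Agent.Lib.Helper6 Cfsg.Agent.Lib.Helper6.TC
open Cfsg.Agent.PL (Acts evalF)

theorem chk_yx_20 : allR 279040 13952 (fun q => (fun q => Nat.beq ((fun q => f27 (f26 q)) q) ((fun q => f26^[4] (f27 q)) q)) q) = true := by decide +kernel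

theorem chk_yx_21 : allR 292992 13944 (fun q => (fun q => Nat.beq ((fun q => f27 (f26 q)) q) ((fun q => f26^[4] (f27 q)) q)) q) = true := by decide +kernel


end Cfsg.Agent.Fi24Out
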