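import Cfsg.Agent.Lib.Lead.Fi24Out.ChkYX_0
import Cfsg.Agent.Lib.Lead.Fi24Out.ChkYX_1
import Cfsg.Agent.Lib.Lead.Fi24Out.Base0

/-! # The outer automorphism group of Fi₂₄′: the action of `y` on `x` (generated) -/

set_option autoImplicit false
set_option maxRecDepth 100000

namespace Cfsg.Agent.Fi24Out

open Cfsg.Agent.PF Cfsg.Agent.Lib.Helper6 Cfsg.Agent.Lib.Helper6.TC
open Cfsg.Agent.PL (Acts evalF)

theorem chk_yx_all : ∀ q < 306936, (fun q => Nat.beq ((fun q => f27 (f26 q)) q) ((fun q => f26^[4] (f27 q)) q)) q = true :=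
  forall_lt_of_chunks (f := fun q => (fun q => Nat.beq ((fun q => f27 (f26 q)) q) ((fun q => f26^[4] (f27 q)) q)) q) [(0, 13952), (13952, 13952), (27904, 13952), (41856, 13952), (55808, 13952), (69760, 13952), (83712, 13952), (97664, 13952), (111616, 13952), (125568, 13952), (139520, 13952), (153472, 13952), (167424, 13952), (181376, 13952), (195328, 13952), (209280, 13952), (223232, 13952), (237184, 13952), (251136, 13952), (265088, 13952), (279040, 13952), (292992, 13944)] (by decide)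
    (all_cons chk_yx_0 (all_cons chk_yx_1 (all_cons chk_yx_2 (all_cons chk_yx_3 (all_cons chk_yx_4 (all_cons chk_yx_5 (all_cons chk_yx_6 (all_cons chk_yx_7 (all_cons chk_yx_8 (all_cons chk_yx_9 (all_cons chk_yx_10 (all_cons chk_yx_11 (all_cons chk_yx_12 (all_cons chk_yx_13 (all_cons chk_yx_14 (all_cons chk_yx_15 (all_cons chk_yx_16 (all_cons chk_yx_17 (all_cons chk_yx_18 (all_cons chk_yx_19 (all_cons chk_yx_20 (all_cons chk_yx_21 all_nil))))))))))))))))))))))

/-- `y x = x ^ 4 y` -/
theorem chk_yx : ∀ q < 306936, (fun q => f27 (f26 q)) q = (fun q => f26^[4] (f27 q)) q :=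
  fun q hq => Nat.eq_of_beq_eq_true (chk_yx_all q hq)

end Cfsg.Agent.Fi24Out
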