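import Cfsg.Agent.Lib.Lead.Fi24Out.LevAD

/-! # The outer automorphism group of Fi₂₄′: the number of points of the tree number 1 of the chain `A`, slices (generated) -/

set_option autoImplicit false
set_option Elab.async false
set_option maxRecDepth 100000

namespace Cfsg.Agent.Fi24Out

open Cfsg.Agent.PF Cfsg.Agent.Lib.Helper6 Cfsg.Agent.Lib.Helper6.TC
open Cfsg.Agent.PL (Acts evalF)

theorem cntA1_20 : countR 94460 4723 (traceTo LA1.2.1 LA1.2.2 LA1.1 10) = 4380 := by decide +kernel

theorem cntA1_21 : countR 99183 4723 (traceTo LA1.2.1 LA1.2.2 LA1.1 10) = 4723 := by decide +kernel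

theorem cntA1_22 : countR 103906 4723 (traceTo LA1.2.1 LA1.2.2 LA1.1 10) = 3126 := by decide +kernel

theorem cntA1_23 : countR 108629 4723 (traceTo LA1.2.1 LA1.2.2 LA1.1 10) = 4635 := by decide +kernel

theorem cntA1_24 : countR 113352 4723 (traceTo LA1.2.1 LA1.2.2 LA1.1 10) = 4413 := by decide +kernel

theorem cntA1_25 : countR 118075 4723 (traceTo LA1.2.1 LA1.2.2 LA1.1 10) = 4723 := by decide +kernel

theorem cntA1_26 : countR 122798 4723 (traceTo LA1.2.1 LA1.2.2 LA1.1 10) = 3915 := by decide +kernel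

theorem cntA1_27 : countR 127521 4723 (traceTo LA1.2.1 LA1.2.2 LA1.1 10) = 4017 := by decide +kernel

theorem cntA1_28 : countR 132244 4723 (traceTo LA1.2.1 LA1.2.2 LA1.1 10) = 4453 := by decide +kernel

theorem cntA1_29 : countR 136967 4723 (traceTo LA1.2.1 LA1.2.2 LA1.1 10) = 4723 := by decide +kernel

theorem cntA1_30 : countR 141690 4723 (traceTo LA1.2.1 LA1.2.2 LA1.1 10) = 4723 := by decide +kernel

theorem cntA1_31 : countR 146413 4723 (traceTo LA1.2.1 LA1.2.2 LA1.1 10) = 3366 := by decide +kernel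

theorem cntA1_32 : countR 151136 4723 (traceTo LA1.2.1 LA1.2.2 LA1.1 10) = 4723 := by decide +kernel

theorem cntA1_33 : countR 155859 4723 (traceTo LA1.2.1 LA1.2.2 LA1.1 10) = 4492 := by decide +kernel

theorem cntA1_34 : countR 160582 4723 (traceTo LA1.2.1 LA1.2.2 LA1.1 10) = 4723 := by decide +kernel

theorem cntA1_35 : countR 165305 4723 (traceTo LA1.2.1 LA1.2.2 LA1.1 10) = 4723 := by decide +kernel

theorem cntA1_36 : countR 170028 4723 (traceTo LA1.2.1 LA1.2.2 LA1.1 10) = 3509 := by decide +kernel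

theorem cntA1_37 : countR 174751 4723 (traceTo LA1.2.1 LA1.2.2 LA1.1 10) = 4723 := by decide +kernel

theorem cntA1_38 : countR 179474 4723 (traceTo LA1.2.1 LA1.2.2 LA1.1 10) = 4527 := by decide +kernel

theorem cntA1_39 : countR 184197 4723 (traceTo LA1.2.1 LA1.2.2 LA1.1 10) = 4723 := by decide +kernel


end Cfsg.Agent.Fi24Out
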