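import Cfsg.Agent.Lib.Lead.Fi24Out.CntA1_0
import Cfsg.Agent.Lib.Lead.Fi24Out.CntA1_1
import Cfsg.Agent.Lib.Lead.Fi24Out.CntA1_2
import Cfsg.Agent.Lib.Lead.Fi24Out.CntA1_3

/-! # The outer automorphism group of Fi₂₄′: the number of points of the tree number 1 of the chain `A` (generated) -/

set_option autoImplicit false
set_option maxRecDepth 100000

namespace Cfsg.Agent.Fi24Out

open Cfsg.Agent.PF Cfsg.Agent.Lib.Helper6 Cfsg.Agent.Lib.Helper6.TC
open Cfsg.Agent.PL (Acts evalF)

/-- the number of points of the tree number 1 of the chain `A` -/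
theorem lenA1 : (orbitL 306936 LA1.2.1 LA1.2.2 LA1.1 10).length = 275264 := by
  rw [length_orbitL]
  exact (countR_append cntA1_0 (countR_append cntA1_1 (countR_append cntA1_2 (countR_append cntA1_3 (countR_append cntA1_4 (countR_append cntA1_5 (countR_append cntA1_6 (countR_append cntA1_7 (countR_append cntA1_8 (countR_append cntA1_9 (countR_append cntA1_10 (countR_append cntA1_11 (countR_append cntA1_12 (countR_append cntA1_13 (countR_append cntA1_14 (countR_append cntA1_15 (countR_append cntA1_16 (countR_append cntA1_17 (countR_append cntA1_18 (countR_append cntA1_19 (countR_append cntA1_20 (countR_append cntA1_21 (countR_append cntA1_22 (countR_append cntA1_23 (countR_append cntA1_24 (countR_append cntA1_25 (countR_append cntA1_26 (countR_append cntA1_27 (countR_append cntA1_28 (countR_append cntA1_29 (countR_append cntA1_30 (countR_append cntA1_31 (countR_append cntA1_32 (countR_append cntA1_33 (countR_append cntA1_34 (countR_append cntA1_35 (countR_append cntA1_36 (countR_append cntA1_37 (countR_append cntA1_38 (countR_append cntA1_39 (countR_append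 cntA1_40 (countR_append cntA1_41 (countR_append cntA1_42 (countR_append cntA1_43 (countR_append cntA1_44 (countR_append cntA1_45 (countR_append cntA1_46 (countR_append cntA1_47 (countR_append cntA1_48 (countR_append cntA1_49 (countR_append cntA1_50 (countR_append cntA1_51 (countR_append cntA1_52 (countR_append cntA1_53 (countR_append cntA1_54 (countR_append cntA1_55 (countR_append cntA1_56 (countR_append cntA1_57 (countR_append cntA1_58 (countR_append cntA1_59 (countR_append cntA1_60 (countR_append cntA1_61 (countR_append cntA1_62 (countR_append cntA1_63 (cntA1_64)))))))))))))))))))))))))))))))))))))))))))))))))))))))))))))))) :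
    countR 0 (4723 + (4723 + (4723 + (4723 + (4723 + (4723 + (4723 + (4723 + (4723 + (4723 + (4723 + (4723 + (4723 + (4723 + (4723 + (4723 + (4723 + (4723 + (4723 + (4723 + (4723 + (4723 + (4723 + (4723 + (4723 + (4723 + (4723 + (4723 + (4723 + (4723 + (4723 + (4723 + (4723 + (4723 + (4723 + (4723 + (4723 + (4723 + (4723 + (4723 + (4723 + (4723 + (4723 + (4723 + (4723 + (4723 + (4723 + (4723 + (4723 + (4723 + (4723 + (4723 + (4723 + (4723 + (4723 + (4723 + (4723 + (4723 + (4723 + (4723 + (4723 + (4723 + (4723 + (4723 + (4664))))))))))))))))))))))))))))))))))))))))))))))))))))))))))))))))) (traceTo LA1.2.1 LA1.2.2 LA1.1 10) = 3096 + (3580 + (3513 + (3720 + (3712 + (4551 + (3542 + (3776 + (4242 + (4040 + (4016 + (4454 + (3180 + (4384 + (4720 + (3049 + (4466 + (4614 + (3678 + (4019 + (4380 + (4723 + (3126 + (4635 + (4413 + (4723 + (3915 + (4017 + (4453 + (4723 + (4723 + (3366 + (4723 + (4492 + (4723 + (4723 + (3509 + (4723 + (4527 + (4723 + (4723 + (3655 + (4723 + (4538 + (4723 + (4723 + (3737 + (4723 + (4723 + (4533 + (4723 + (4723 + (3739 + (4723 + (4520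 + (4723 + (3728 + (4723 + (4533 + (4723 + (3804 + (4568 + (3975 + (4417 + (3149)))))))))))))))))))))))))))))))))))))))))))))))))))))))))))))))))

end Cfsg.Agent.Fi24Out
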