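import Cfsg.Agent.Lib.Lead.Fi24Out.CntA2_0
import Cfsg.Agent.Lib.Lead.Fi24Out.CntA2_1
import Cfsg.Agent.Lib.Lead.Fi24Out.CntA2_2
import Cfsg.Agent.Lib.Lead.Fi24Out.CntA2_3

/-! # The outer automorphism group of Fi₂₄′: the number of points of the tree number 2 of the chain `A` (generated) -/

set_option autoImplicit false
set_option maxRecDepth 100000

namespace Cfsg.Agent.Fi24Out

open Cfsg.Agent.PF Cfsg.Agent.Lib.Helper6 Cfsg.Agent.Lib.Helper6.TC
open Cfsg.Agent.PL (Acts evalF)

/-- the number of points of the tree number 2 of the chain `A` -/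
theorem lenA2 : (orbitL 306936 LA2.2.1 LA2.2.2 LA2.1 10).length = 218400 := by
  rw [length_orbitL]
  exact (countR_append cntA2_0 (countR_append cntA2_1 (countR_append cntA2_2 (countR_append cntA2_3 (countR_append cntA2_4 (countR_append cntA2_5 (countR_append cntA2_6 (countR_append cntA2_7 (countR_append cntA2_8 (countR_append cntA2_9 (countR_append cntA2_10 (countR_append cntA2_11 (countR_append cntA2_12 (countR_append cntA2_13 (countR_append cntA2_14 (countR_append cntA2_15 (countR_append cntA2_16 (countR_append cntA2_17 (countR_append cntA2_18 (countR_append cntA2_19 (countR_append cntA2_20 (countR_append cntA2_21 (countR_append cntA2_22 (countR_append cntA2_23 (countR_append cntA2_24 (countR_append cntA2_25 (countR_append cntA2_26 (countR_append cntA2_27 (countR_append cntA2_28 (countR_append cntA2_29 (countR_append cntA2_30 (countR_append cntA2_31 (countR_append cntA2_32 (countR_append cntA2_33 (countR_append cntA2_34 (countR_append cntA2_35 (countR_append cntA2_36 (countR_append cntA2_37 (countR_append cntA2_38 (countR_append cntA2_39 (countR_append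 cntA2_40 (countR_append cntA2_41 (countR_append cntA2_42 (countR_append cntA2_43 (countR_append cntA2_44 (countR_append cntA2_45 (countR_append cntA2_46 (countR_append cntA2_47 (countR_append cntA2_48 (countR_append cntA2_49 (countR_append cntA2_50 (countR_append cntA2_51 (countR_append cntA2_52 (countR_append cntA2_53 (countR_append cntA2_54 (countR_append cntA2_55 (countR_append cntA2_56 (countR_append cntA2_57 (countR_append cntA2_58 (countR_append cntA2_59 (countR_append cntA2_60 (countR_append cntA2_61 (countR_append cntA2_62 (countR_append cntA2_63 (cntA2_64)))))))))))))))))))))))))))))))))))))))))))))))))))))))))))))))) :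
    countR 0 (4723 + (4723 + (4723 + (4723 + (4723 + (4723 + (4723 + (4723 + (4723 + (4723 + (4723 + (4723 + (4723 + (4723 + (4723 + (4723 + (4723 + (4723 + (4723 + (4723 + (4723 + (4723 + (4723 + (4723 + (4723 + (4723 + (4723 + (4723 + (4723 + (4723 + (4723 + (4723 + (4723 + (4723 + (4723 + (4723 + (4723 + (4723 + (4723 + (4723 + (4723 + (4723 + (4723 + (4723 + (4723 + (4723 + (4723 + (4723 + (4723 + (4723 + (4723 + (4723 + (4723 + (4723 + (4723 + (4723 + (4723 + (4723 + (4723 + (4723 + (4723 + (4723 + (4723 + (4723 + (4664))))))))))))))))))))))))))))))))))))))))))))))))))))))))))))))))) (traceTo LA2.2.1 LA2.2.2 LA2.1 10) = 2403 + (2796 + (2834 + (3018 + (2914 + (3546 + (2758 + (2976 + (3301 + (3213 + (3153 + (3543 + (2555 + (3493 + (3756 + (2422 + (3559 + (3691 + (2926 + (3212 + (3486 + (3759 + (2476 + (3696 + (3504 + (3737 + (3148 + (3182 + (3548 + (3781 + (3727 + (2697 + (3748 + (3564 + (3752 + (3735 + (2767 + (3762 + (3604 + (3753 + (3734 + (2929 + (3749 + (3615 + (3751 + (3740 + (2972 + (3748 + (3739 + (3606 + (3759 + (3727 + (2991 + (3735 + (3591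 + (3771 + (2934 + (3783 + (3559 + (3781 + (2991 + (3619 + (3155 + (3476 + (2450)))))))))))))))))))))))))))))))))))))))))))))))))))))))))))))))))

end Cfsg.Agent.Fi24Out
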