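import Cfsg.Agent.Lib.Lead.Fi24Out.LevAD

/-! # The outer automorphism group of Fi₂₄′: the number of points of the tree number 3 of the chain `A`, slices (generated) -/

set_option autoImplicit false
set_option Elab.async false
set_option maxRecDepth 100000

namespace Cfsg.Agent.Fi24Out

open Cfsg.Agent.PF Cfsg.Agent.Lib.Helper6 Cfsg.Agent.Lib.Helper6.TC
open Cfsg.Agent.PL (Acts evalF)

theorem cntA3_20 : countR 73980 3699 (traceTo LA3.2.1 LA3.2.2 LA3.1 10) = 1214 := by decide +kernel

theorem cntA3_21 : countR 77679 3699 (traceTo LA3.2.1 LA3.2.2 LA3.1 10) = 1141 := by decide +kernel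

theorem cntA3_22 : countR 81378 3699 (traceTo LA3.2.1 LA3.2.2 LA3.1 10) = 1253 := by decide +kernel

theorem cntA3_23 : countR 85077 3699 (traceTo LA3.2.1 LA3.2.2 LA3.1 10) = 1185 := by decide +kernel

theorem cntA3_24 : countR 88776 3699 (traceTo LA3.2.1 LA3.2.2 LA3.1 10) = 714 := by decide +kernel

theorem cntA3_25 : countR 92475 3699 (traceTo LA3.2.1 LA3.2.2 LA3.1 10) = 1210 := by decide +kernel

theorem cntA3_26 : countR 96174 3699 (traceTo LA3.2.1 LA3.2.2 LA3.1 10) = 1151 := by decide +kernel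

theorem cntA3_27 : countR 99873 3699 (traceTo LA3.2.1 LA3.2.2 LA3.1 10) = 1287 := by decide +kernel

theorem cntA3_28 : countR 103572 3699 (traceTo LA3.2.1 LA3.2.2 LA3.1 10) = 1173 := by decide +kernel

theorem cntA3_29 : countR 107271 3699 (traceTo LA3.2.1 LA3.2.2 LA3.1 10) = 850 := by decide +kernel

theorem cntA3_30 : countR 110970 3699 (traceTo LA3.2.1 LA3.2.2 LA3.1 10) = 1302 := by decide +kernel

theorem cntA3_31 : countR 114669 3699 (traceTo LA3.2.1 LA3.2.2 LA3.1 10) = 1161 := by decide +kernel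

theorem cntA3_32 : countR 118368 3699 (traceTo LA3.2.1 LA3.2.2 LA3.1 10) = 1242 := by decide +kernel

theorem cntA3_33 : countR 122067 3699 (traceTo LA3.2.1 LA3.2.2 LA3.1 10) = 1262 := by decide +kernel

theorem cntA3_34 : countR 125766 3699 (traceTo LA3.2.1 LA3.2.2 LA3.1 10) = 756 := by decide +kernel

theorem cntA3_35 : countR 129465 3699 (traceTo LA3.2.1 LA3.2.2 LA3.1 10) = 1271 := by decide +kernel

theorem cntA3_36 : countR 133164 3699 (traceTo LA3.2.1 LA3.2.2 LA3.1 10) = 1158 := by decide +kernel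

theorem cntA3_37 : countR 136863 3699 (traceTo LA3.2.1 LA3.2.2 LA3.1 10) = 1219 := by decide +kernel

theorem cntA3_38 : countR 140562 3699 (traceTo LA3.2.1 LA3.2.2 LA3.1 10) = 1274 := by decide +kernel

theorem cntA3_39 : countR 144261 3699 (traceTo LA3.2.1 LA3.2.2 LA3.1 10) = 1296 := by decide +kernel


end Cfsg.Agent.Fi24Out
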