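import Cfsg.Agent.Lib.Lead.Fi24Out.LevAD

/-! # The outer automorphism group of Fi₂₄′: the number of points of the tree number 3 of the chain `A`, slices (generated) -/

set_option autoImplicit false
set_option Elab.async false
set_option maxRecDepth 100000

namespace Cfsg.Agent.Fi24Out

open Cfsg.Agent.PF Cfsg.Agent.Lib.Helper6 Cfsg.Agent.Lib.Helper6.TC
open Cfsg.Agent.PL (Acts evalF)

theorem cntA3_40 : countR 147960 3699 (traceTo LA3.2.1 LA3.2.2 LA3.1 10) = 778 := by decide +kernel

theorem cntA3_41 : countR 151659 3699 (traceTo LA3.2.1 LA3.2.2 LA3.1 10) = 1268 := by decide +kernel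

theorem cntA3_42 : countR 155358 3699 (traceTo LA3.2.1 LA3.2.2 LA3.1 10) = 1194 := by decide +kernel

theorem cntA3_43 : countR 159057 3699 (traceTo LA3.2.1 LA3.2.2 LA3.1 10) = 1255 := by decide +kernel

theorem cntA3_44 : countR 162756 3699 (traceTo LA3.2.1 LA3.2.2 LA3.1 10) = 1278 := by decide +kernel

theorem cntA3_45 : countR 166455 3699 (traceTo LA3.2.1 LA3.2.2 LA3.1 10) = 1203 := by decide +kernel

theorem cntA3_46 : countR 170154 3699 (traceTo LA3.2.1 LA3.2.2 LA3.1 10) = 840 := by decide +kernel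

theorem cntA3_47 : countR 173853 3699 (traceTo LA3.2.1 LA3.2.2 LA3.1 10) = 1239 := by decide +kernel

theorem cntA3_48 : countR 177552 3699 (traceTo LA3.2.1 LA3.2.2 LA3.1 10) = 1236 := by decide +kernel

theorem cntA3_49 : countR 181251 3699 (traceTo LA3.2.1 LA3.2.2 LA3.1 10) = 1152 := by decide +kernel

theorem cntA3_50 : countR 184950 3699 (traceTo LA3.2.1 LA3.2.2 LA3.1 10) = 1316 := by decide +kernel

theorem cntA3_51 : countR 188649 3699 (traceTo LA3.2.1 LA3.2.2 LA3.1 10) = 1230 := by decide +kernel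

theorem cntA3_52 : countR 192348 3699 (traceTo LA3.2.1 LA3.2.2 LA3.1 10) = 1016 := by decide +kernel

theorem cntA3_53 : countR 196047 3699 (traceTo LA3.2.1 LA3.2.2 LA3.1 10) = 1094 := by decide +kernel

theorem cntA3_54 : countR 199746 3699 (traceTo LA3.2.1 LA3.2.2 LA3.1 10) = 1325 := by decide +kernel

theorem cntA3_55 : countR 203445 3699 (traceTo LA3.2.1 LA3.2.2 LA3.1 10) = 1195 := by decide +kernel

theorem cntA3_56 : countR 207144 3699 (traceTo LA3.2.1 LA3.2.2 LA3.1 10) = 1228 := by decide +kernel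

theorem cntA3_57 : countR 210843 3699 (traceTo LA3.2.1 LA3.2.2 LA3.1 10) = 1254 := by decide +kernel

theorem cntA3_58 : countR 214542 3699 (traceTo LA3.2.1 LA3.2.2 LA3.1 10) = 1234 := by decide +kernel

theorem cntA3_59 : countR 218241 3699 (traceTo LA3.2.1 LA3.2.2 LA3.1 10) = 937 := by decide +kernel


end Cfsg.Agent.Fi24Out
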