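import Cfsg.Agent.Lib.Lead.Fi24Out.CntA3_0
import Cfsg.Agent.Lib.Lead.Fi24Out.CntA3_1
import Cfsg.Agent.Lib.Lead.Fi24Out.CntA3_2
import Cfsg.Agent.Lib.Lead.Fi24Out.CntA3_3
import Cfsg.Agent.Lib.Lead.Fi24Out.CntA3_4

/-! # The outer automorphism group of Fi₂₄′: the number of points of the tree number 3 of the chain `A` (generated) -/

set_option autoImplicit false
set_option maxRecDepth 100000

namespace Cfsg.Agent.Fi24Out

open Cfsg.Agent.PF Cfsg.Agent.Lib.Helper6 Cfsg.Agent.Lib.Helper6.TC
open Cfsg.Agent.PL (Acts evalF)

/-- the number of points of the tree number 3 of the chain `A` -/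
theorem lenA3 : (orbitL 306936 LA3.2.1 LA3.2.2 LA3.1 10).length = 93312 := by
  rw [length_orbitL]
  exact (countR_append cntA3_0 (countR_append cntA3_1 (countR_append cntA3_2 (countR_append cntA3_3 (countR_append cntA3_4 (countR_append cntA3_5 (countR_append cntA3_6 (countR_append cntA3_7 (countR_append cntA3_8 (countR_append cntA3_9 (countR_append cntA3_10 (countR_append cntA3_11 (countR_append cntA3_12 (countR_append cntA3_13 (countR_append cntA3_14 (countR_append cntA3_15 (countR_append cntA3_16 (countR_append cntA3_17 (countR_append cntA3_18 (countR_append cntA3_19 (countR_append cntA3_20 (countR_append cntA3_21 (countR_append cntA3_22 (countR_append cntA3_23 (countR_append cntA3_24 (countR_append cntA3_25 (countR_append cntA3_26 (countR_append cntA3_27 (countR_append cntA3_28 (countR_append cntA3_29 (countR_append cntA3_30 (countR_append cntA3_31 (countR_append cntA3_32 (countR_append cntA3_33 (countR_append cntA3_34 (countR_append cntA3_35 (countR_append cntA3_36 (countR_append cntA3_37 (countR_append cntA3_38 (countR_append cntA3_39 (countR_append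 cntA3_40 (countR_append cntA3_41 (countR_append cntA3_42 (countR_append cntA3_43 (countR_append cntA3_44 (countR_append cntA3_45 (countR_append cntA3_46 (countR_append cntA3_47 (countR_append cntA3_48 (countR_append cntA3_49 (countR_append cntA3_50 (countR_append cntA3_51 (countR_append cntA3_52 (countR_append cntA3_53 (countR_append cntA3_54 (countR_append cntA3_55 (countR_append cntA3_56 (countR_append cntA3_57 (countR_append cntA3_58 (countR_append cntA3_59 (countR_append cntA3_60 (countR_append cntA3_61 (countR_append cntA3_62 (countR_append cntA3_63 (countR_append cntA3_64 (countR_append cntA3_65 (countR_append cntA3_66 (countR_append cntA3_67 (countR_append cntA3_68 (countR_append cntA3_69 (countR_append cntA3_70 (countR_append cntA3_71 (countR_append cntA3_72 (countR_append cntA3_73 (countR_append cntA3_74 (countR_append cntA3_75 (countR_append cntA3_76 (countR_append cntA3_77 (countR_append cntA3_78 (countR_append cntA3_79 (countR_append cntA3_80 (countR_append cntA3_81 (cntA3_82))))))))))))))))))))))))))))))))))))))))))))))))))))))))))))))))))))))))))))))))))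 :
    countR 0 (3699 + (3699 + (3699 + (3699 + (3699 + (3699 + (3699 + (3699 + (3699 + (3699 + (3699 + (3699 + (3699 + (3699 + (3699 + (3699 + (3699 + (3699 + (3699 + (3699 + (3699 + (3699 + (3699 + (3699 + (3699 + (3699 + (3699 + (3699 + (3699 + (3699 + (3699 + (3699 + (3699 + (3699 + (3699 + (3699 + (3699 + (3699 + (3699 + (3699 + (3699 + (3699 + (3699 + (3699 + (3699 + (3699 + (3699 + (3699 + (3699 + (3699 + (3699 + (3699 + (3699 + (3699 + (3699 + (3699 + (3699 + (3699 + (3699 + (3699 + (3699 + (3699 + (3699 + (3699 + (3699 + (3699 + (3699 + (3699 + (3699 + (3699 + (3699 + (3699 + (3699 + (3699 + (3699 + (3699 + (3699 + (3699 + (3699 + (3699 + (3699 + (3699 + (3618))))))))))))))))))))))))))))))))))))))))))))))))))))))))))))))))))))))))))))))))))) (traceTo LA3.2.1 LA3.2.2 LA3.1 10) = 788 + (957 + (907 + (1015 + (1002 + (1253 + (895 + (978 + (1042 + (1153 + (917 + (1184 + (758 + (1211 + (1152 + (958 + (1004 + (1094 + (1258 + (810 + (1214 + (1141 + (1253 + (1185 + (714 + (1210 + (1151 + (1287 + (1173 + (850 + (1302 + (1161 + (1242 + (1262 + (756 + (1271 +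 (1158 + (1219 + (1274 + (1296 + (778 + (1268 + (1194 + (1255 + (1278 + (1203 + (840 + (1239 + (1236 + (1152 + (1316 + (1230 + (1016 + (1094 + (1325 + (1195 + (1228 + (1254 + (1234 + (937 + (1179 + (1278 + (1203 + (1257 + (1283 + (1197 + (907 + (1261 + (1241 + (1166 + (1264 + (1266 + (891 + (1257 + (1214 + (1219 + (1248 + (942 + (1194 + (1274 + (996 + (1019 + (829)))))))))))))))))))))))))))))))))))))))))))))))))))))))))))))))))))))))))))))))))))

end Cfsg.Agent.Fi24Out
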