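import Cfsg.Agent.Lib.Lead.Fi24Out.LevAD

/-! # The outer automorphism group of Fi₂₄′: the number of points of the tree number 4 of the chain `A`, slices (generated) -/

set_option autoImplicit false
set_option Elab.async false
set_option maxRecDepth 100000

namespace Cfsg.Agent.Fi24Out

open Cfsg.Agent.PF Cfsg.Agent.Lib.Helper6 Cfsg.Agent.Lib.Helper6.TC
open Cfsg.Agent.PL (Acts evalF)

theorem cntA4_20 : countR 73980 3699 (traceTo LA4.2.1 LA4.2.2 LA4.1 10) = 13 := by decide +kernel

theorem cntA4_21 : countR 77679 3699 (traceTo LA4.2.1 LA4.2.2 LA4.1 10) = 5 := by decide +kernel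

theorem cntA4_22 : countR 81378 3699 (traceTo LA4.2.1 LA4.2.2 LA4.1 10) = 9 := by decide +kernel

theorem cntA4_23 : countR 85077 3699 (traceTo LA4.2.1 LA4.2.2 LA4.1 10) = 5 := by decide +kernel

theorem cntA4_24 : countR 88776 3699 (traceTo LA4.2.1 LA4.2.2 LA4.1 10) = 10 := by decide +kernel

theorem cntA4_25 : countR 92475 3699 (traceTo LA4.2.1 LA4.2.2 LA4.1 10) = 10 := by decide +kernel

theorem cntA4_26 : countR 96174 3699 (traceTo LA4.2.1 LA4.2.2 LA4.1 10) = 13 := by decide +kernel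

theorem cntA4_27 : countR 99873 3699 (traceTo LA4.2.1 LA4.2.2 LA4.1 10) = 10 := by decide +kernel

theorem cntA4_28 : countR 103572 3699 (traceTo LA4.2.1 LA4.2.2 LA4.1 10) = 12 := by decide +kernel

theorem cntA4_29 : countR 107271 3699 (traceTo LA4.2.1 LA4.2.2 LA4.1 10) = 7 := by decide +kernel

theorem cntA4_30 : countR 110970 3699 (traceTo LA4.2.1 LA4.2.2 LA4.1 10) = 7 := by decide +kernel

theorem cntA4_31 : countR 114669 3699 (traceTo LA4.2.1 LA4.2.2 LA4.1 10) = 9 := by decide +kernel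

theorem cntA4_32 : countR 118368 3699 (traceTo LA4.2.1 LA4.2.2 LA4.1 10) = 15 := by decide +kernel

theorem cntA4_33 : countR 122067 3699 (traceTo LA4.2.1 LA4.2.2 LA4.1 10) = 11 := by decide +kernel

theorem cntA4_34 : countR 125766 3699 (traceTo LA4.2.1 LA4.2.2 LA4.1 10) = 4 := by decide +kernel

theorem cntA4_35 : countR 129465 3699 (traceTo LA4.2.1 LA4.2.2 LA4.1 10) = 11 := by decide +kernel

theorem cntA4_36 : countR 133164 3699 (traceTo LA4.2.1 LA4.2.2 LA4.1 10) = 9 := by decide +kernel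

theorem cntA4_37 : countR 136863 3699 (traceTo LA4.2.1 LA4.2.2 LA4.1 10) = 14 := by decide +kernel

theorem cntA4_38 : countR 140562 3699 (traceTo LA4.2.1 LA4.2.2 LA4.1 10) = 10 := by decide +kernel

theorem cntA4_39 : countR 144261 3699 (traceTo LA4.2.1 LA4.2.2 LA4.1 10) = 7 := by decide +kernel


end Cfsg.Agent.Fi24Out
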