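import Cfsg.Agent.Lib.Lead.Fi24Out.CntA4_0
import Cfsg.Agent.Lib.Lead.Fi24Out.CntA4_1
import Cfsg.Agent.Lib.Lead.Fi24Out.CntA4_2
import Cfsg.Agent.Lib.Lead.Fi24Out.CntA4_3
import Cfsg.Agent.Lib.Lead.Fi24Out.CntA4_4

/-! # The outer automorphism group of Fi₂₄′: the number of points of the tree number 4 of the chain `A` (generated) -/

set_option autoImplicit false
set_option maxRecDepth 100000

namespace Cfsg.Agent.Fi24Out

open Cfsg.Agent.PF Cfsg.Agent.Lib.Helper6 Cfsg.Agent.Lib.Helper6.TC
open Cfsg.Agent.PL (Acts evalF)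

/-- the number of points of the tree number 4 of the chain `A` -/
theorem lenA4 : (orbitL 306936 LA4.2.1 LA4.2.2 LA4.1 10).length = 729 := by
  rw [length_orbitL]
  exact (countR_append cntA4_0 (countR_append cntA4_1 (countR_append cntA4_2 (countR_append cntA4_3 (countR_append cntA4_4 (countR_append cntA4_5 (countR_append cntA4_6 (countR_append cntA4_7 (countR_append cntA4_8 (countR_append cntA4_9 (countR_append cntA4_10 (countR_append cntA4_11 (countR_append cntA4_12 (countR_append cntA4_13 (countR_append cntA4_14 (countR_append cntA4_15 (countR_append cntA4_16 (countR_append cntA4_17 (countR_append cntA4_18 (countR_append cntA4_19 (countR_append cntA4_20 (countR_append cntA4_21 (countR_append cntA4_22 (countR_append cntA4_23 (countR_append cntA4_24 (countR_append cntA4_25 (countR_append cntA4_26 (countR_append cntA4_27 (countR_append cntA4_28 (countR_append cntA4_29 (countR_append cntA4_30 (countR_append cntA4_31 (countR_append cntA4_32 (countR_append cntA4_33 (countR_append cntA4_34 (countR_append cntA4_35 (countR_append cntA4_36 (countR_append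 cntA4_37 (countR_append cntA4_38 (countR_append cntA4_39 (countR_append cntA4_40 (countR_append cntA4_41 (countR_append cntA4_42 (countR_append cntA4_43 (countR_append cntA4_44 (countR_append cntA4_45 (countR_append cntA4_46 (countR_append cntA4_47 (countR_append cntA4_48 (countR_append cntA4_49 (countR_append cntA4_50 (countR_append cntA4_51 (countR_append cntA4_52 (countR_append cntA4_53 (countR_append cntA4_54 (countR_append cntA4_55 (countR_append cntA4_56 (countR_append cntA4_57 (countR_append cntA4_58 (countR_append cntA4_59 (countR_append cntA4_60 (countR_append cntA4_61 (countR_append cntA4_62 (countR_append cntA4_63 (countR_append cntA4_64 (countR_append cntA4_65 (countR_append cntA4_66 (countR_append cntA4_67 (countR_append cntA4_68 (countR_append cntA4_69 (countR_append cntA4_70 (countR_append cntA4_71 (countR_append cntA4_72 (countR_append cntA4_73 (countR_append cntA4_74 (countR_append cntA4_75 (countR_append cntA4_76 (countR_append cntA4_77 (countR_append cntA4_78 (countR_append cntA4_79 (countR_append cntA4_80 (countR_append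 cntA4_81 (cntA4_82)))))))))))))))))))))))))))))))))))))))))))))))))))))))))))))))))))))))))))))))))) :
    countR 0 (3699 + (3699 + (3699 + (3699 + (3699 + (3699 + (3699 + (3699 + (3699 + (3699 + (3699 + (3699 + (3699 + (3699 + (3699 + (3699 + (3699 + (3699 + (3699 + (3699 + (3699 + (3699 + (3699 + (3699 + (3699 + (3699 + (3699 + (3699 + (3699 + (3699 + (3699 + (3699 + (3699 + (3699 + (3699 + (3699 + (3699 + (3699 + (3699 + (3699 + (3699 + (3699 + (3699 + (3699 + (3699 + (3699 + (3699 + (3699 + (3699 + (3699 + (3699 + (3699 + (3699 + (3699 + (3699 + (3699 + (3699 + (3699 + (3699 + (3699 + (3699 + (3699 + (3699 + (3699 + (3699 + (3699 + (3699 + (3699 + (3699 + (3699 + (3699 + (3699 + (3699 + (3699 + (3699 + (3699 + (3699 + (3699 + (3699 + (3699 + (3699 + (3699 + (3618))))))))))))))))))))))))))))))))))))))))))))))))))))))))))))))))))))))))))))))))))) (traceTo LA4.2.1 LA4.2.2 LA4.1 10) = 2 + (7 + (8 + (3 + (8 + (7 + (4 + (5 + (10 + (12 + (6 + (15 + (5 + (4 + (11 + (6 + (10 + (4 + (7 + (8 + (13 + (5 + (9 + (5 + (10 + (10 + (13 + (10 + (12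 + (7 + (7 + (9 + (15 + (11 + (4 + (11 + (9 + (14 + (10 + (7 + (6 + (14 + (9 + (13 + (5 + (9 + (11 + (5 + (9 + (13 + (8 + (11 + (7 + (17 + (10 + (11 + (14 + (12 + (11 + (5 + (7 + (7 + (8 + (7 + (6 + (10 + (5 + (12 + (11 + (9 + (6 + (9 + (5 + (9 + (10 + (13 + (9 + (9 + (11 + (7 + (10 + (10 + (6)))))))))))))))))))))))))))))))))))))))))))))))))))))))))))))))))))))))))))))))))))

end Cfsg.Agent.Fi24Out
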