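import Cfsg.Agent.Lib.Lead.Fi24Out.CntA0
import Cfsg.Agent.Lib.Lead.Fi24Out.CntA1
import Cfsg.Agent.Lib.Lead.Fi24Out.CntA2
import Cfsg.Agent.Lib.Lead.Fi24Out.CntA3
import Cfsg.Agent.Lib.Lead.Fi24Out.CntA4

/-! # The outer automorphism group of Fi₂₄′: the numbers of points of the trees of the chain `A` (generated) -/

set_option autoImplicit false
set_option maxRecDepth 100000

namespace Cfsg.Agent.Fi24Out

open Cfsg.Agent.PF Cfsg.Agent.Lib.Helper6 Cfsg.Agent.Lib.Helper6.TC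
open Cfsg.Agent.PL (Acts evalF)

theorem chk_countsA : (treeCounts 306936 10 (LA0 :: LsA)).prod = 1255205709190661721292800 := by
  have h : treeCounts 306936 10 (LA0 :: LsA) = [306936, 275264, 218400, 93312, 729] := by
    show [(orbitL 306936 LA0.2.1 LA0.2.2 LA0.1 10).length, (orbitL 306936 LA1.2.1 LA1.2.2 LA1.1 10).length, (orbitL 306936 LA2.2.1 LA2.2.2 LA2.1 10).length, (orbitL 306936 LA3.2.1 LA3.2.2 LA3.1 10).length, (orbitL 306936 LA4.2.1 LA4.2.2 LA4.1 10).length] = _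
    rw [lenA0, lenA1, lenA2, lenA3, lenA4]
  rw [h]
  rfl

end Cfsg.Agent.Fi24Out
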