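import Cfsg.Agent.Lib.Lead.Fi24Out.CntA0_0
import Cfsg.Agent.Lib.Lead.Fi24Out.CntA0_1
import Cfsg.Agent.Lib.Lead.Fi24Out.CntA0_2
import Cfsg.Agent.Lib.Lead.Fi24Out.CntA0_3

/-! # The outer automorphism group of Fi₂₄′: the number of points of the tree number 0 of the chain `A` (generated) -/

set_option autoImplicit false
set_option maxRecDepth 100000

namespace Cfsg.Agent.Fi24Out

open Cfsg.Agent.PF Cfsg.Agent.Lib.Helper6 Cfsg.Agent.Lib.Helper6.TC
open Cfsg.Agent.PL (Acts evalF)

/-- the number of points of the tree number 0 of the chain `A` -/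
theorem lenA0 : (orbitL 306936 LA0.2.1 LA0.2.2 LA0.1 10).length = 306936 := by
  rw [length_orbitL]
  exact (countR_append cntA0_0 (countR_append cntA0_1 (countR_append cntA0_2 (countR_append cntA0_3 (countR_append cntA0_4 (countR_append cntA0_5 (countR_append cntA0_6 (countR_append cntA0_7 (countR_append cntA0_8 (countR_append cntA0_9 (countR_append cntA0_10 (countR_append cntA0_11 (countR_append cntA0_12 (countR_append cntA0_13 (countR_append cntA0_14 (countR_append cntA0_15 (countR_append cntA0_16 (countR_append cntA0_17 (countR_append cntA0_18 (countR_append cntA0_19 (countR_append cntA0_20 (countR_append cntA0_21 (countR_append cntA0_22 (countR_append cntA0_23 (countR_append cntA0_24 (countR_append cntA0_25 (countR_append cntA0_26 (countR_append cntA0_27 (countR_append cntA0_28 (countR_append cntA0_29 (countR_append cntA0_30 (countR_append cntA0_31 (countR_append cntA0_32 (countR_append cntA0_33 (countR_append cntA0_34 (countR_append cntA0_35 (countR_append cntA0_36 (countR_append cntA0_37 (countR_append cntA0_38 (countR_append cntA0_39 (countR_append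 cntA0_40 (countR_append cntA0_41 (countR_append cntA0_42 (countR_append cntA0_43 (countR_append cntA0_44 (countR_append cntA0_45 (countR_append cntA0_46 (countR_append cntA0_47 (countR_append cntA0_48 (countR_append cntA0_49 (countR_append cntA0_50 (countR_append cntA0_51 (countR_append cntA0_52 (countR_append cntA0_53 (countR_append cntA0_54 (countR_append cntA0_55 (countR_append cntA0_56 (countR_append cntA0_57 (countR_append cntA0_58 (countR_append cntA0_59 (countR_append cntA0_60 (countR_append cntA0_61 (countR_append cntA0_62 (countR_append cntA0_63 (cntA0_64)))))))))))))))))))))))))))))))))))))))))))))))))))))))))))))))) :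
    countR 0 (4723 + (4723 + (4723 + (4723 + (4723 + (4723 + (4723 + (4723 + (4723 + (4723 + (4723 + (4723 + (4723 + (4723 + (4723 + (4723 + (4723 + (4723 + (4723 + (4723 + (4723 + (4723 + (4723 + (4723 + (4723 + (4723 + (4723 + (4723 + (4723 + (4723 + (4723 + (4723 + (4723 + (4723 + (4723 + (4723 + (4723 + (4723 + (4723 + (4723 + (4723 + (4723 + (4723 + (4723 + (4723 + (4723 + (4723 + (4723 + (4723 + (4723 + (4723 + (4723 + (4723 + (4723 + (4723 + (4723 + (4723 + (4723 + (4723 + (4723 + (4723 + (4723 + (4723 + (4723 + (4664))))))))))))))))))))))))))))))))))))))))))))))))))))))))))))))))) (traceTo LA0.2.1 LA0.2.2 LA0.1 10) = 4723 + (4723 + (4723 + (4723 + (4723 + (4723 + (4723 + (4723 + (4723 + (4723 + (4723 + (4723 + (4723 + (4723 + (4723 + (4723 + (4723 + (4723 + (4723 + (4723 + (4723 + (4723 + (4723 + (4723 + (4723 + (4723 + (4723 + (4723 + (4723 + (4723 + (4723 + (4723 + (4723 + (4723 + (4723 + (4723 + (4723 + (4723 + (4723 + (4723 + (4723 + (4723 + (4723 + (4723 + (4723 + (4723 + (4723 + (4723 + (4723 + (4723 + (4723 + (4723 + (4723 + (4723 + (4723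 + (4723 + (4723 + (4723 + (4723 + (4723 + (4723 + (4723 + (4723 + (4723 + (4664)))))))))))))))))))))))))))))))))))))))))))))))))))))))))))))))))

end Cfsg.Agent.Fi24Out
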