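import Cfsg.Agent.Lib.Lead.Fi24Out.LevAD

/-! # The outer automorphism group of Fi₂₄′: the number of points of the tree number 1 of the chain `A`, slices (generated) -/

set_option autoImplicit false
set_option Elab.async false
set_option maxRecDepth 100000

namespace Cfsg.Agent.Fi24Out

open Cfsg.Agent.PF Cfsg.Agent.Lib.Helper6 Cfsg.Agent.Lib.Helper6.TC
open Cfsg.Agent.PL (Acts evalF)

theorem cntA1_0 : countR 0 4723 (traceTo LA1.2.1 LA1.2.2 LA1.1 10) = 3096 := by decide +kernel

theorem cntA1_1 : countR 4723 4723 (traceTo LA1.2.1 LA1.2.2 LA1.1 10) = 3580 := by decide +kernel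

theorem cntA1_2 : countR 9446 4723 (traceTo LA1.2.1 LA1.2.2 LA1.1 10) = 3513 := by decide +kernel

theorem cntA1_3 : countR 14169 4723 (traceTo LA1.2.1 LA1.2.2 LA1.1 10) = 3720 := by decide +kernel

theorem cntA1_4 : countR 18892 4723 (traceTo LA1.2.1 LA1.2.2 LA1.1 10) = 3712 := by decide +kernel

theorem cntA1_5 : countR 23615 4723 (traceTo LA1.2.1 LA1.2.2 LA1.1 10) = 4551 := by decide +kernel

theorem cntA1_6 : countR 28338 4723 (traceTo LA1.2.1 LA1.2.2 LA1.1 10) = 3542 := by decide +kernel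

theorem cntA1_7 : countR 33061 4723 (traceTo LA1.2.1 LA1.2.2 LA1.1 10) = 3776 := by decide +kernel

theorem cntA1_8 : countR 37784 4723 (traceTo LA1.2.1 LA1.2.2 LA1.1 10) = 4242 := by decide +kernel

theorem cntA1_9 : countR 42507 4723 (traceTo LA1.2.1 LA1.2.2 LA1.1 10) = 4040 := by decide +kernel

theorem cntA1_10 : countR 47230 4723 (traceTo LA1.2.1 LA1.2.2 LA1.1 10) = 4016 := by decide +kernel

theorem cntA1_11 : countR 51953 4723 (traceTo LA1.2.1 LA1.2.2 LA1.1 10) = 4454 := by decide +kernel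

theorem cntA1_12 : countR 56676 4723 (traceTo LA1.2.1 LA1.2.2 LA1.1 10) = 3180 := by decide +kernel

theorem cntA1_13 : countR 61399 4723 (traceTo LA1.2.1 LA1.2.2 LA1.1 10) = 4384 := by decide +kernel

theorem cntA1_14 : countR 66122 4723 (traceTo LA1.2.1 LA1.2.2 LA1.1 10) = 4720 := by decide +kernel

theorem cntA1_15 : countR 70845 4723 (traceTo LA1.2.1 LA1.2.2 LA1.1 10) = 3049 := by decide +kernel

theorem cntA1_16 : countR 75568 4723 (traceTo LA1.2.1 LA1.2.2 LA1.1 10) = 4466 := by decide +kernel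

theorem cntA1_17 : countR 80291 4723 (traceTo LA1.2.1 LA1.2.2 LA1.1 10) = 4614 := by decide +kernel

theorem cntA1_18 : countR 85014 4723 (traceTo LA1.2.1 LA1.2.2 LA1.1 10) = 3678 := by decide +kernel

theorem cntA1_19 : countR 89737 4723 (traceTo LA1.2.1 LA1.2.2 LA1.1 10) = 4019 := by decide +kernel


end Cfsg.Agent.Fi24Out
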