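import Cfsg.Agent.Lib.Lead.Fi24Out.LevAD

/-! # The outer automorphism group of Fi₂₄′: the number of points of the tree number 2 of the chain `A`, slices (generated) -/

set_option autoImplicit false
set_option Elab.async false
set_option maxRecDepth 100000

namespace Cfsg.Agent.Fi24Out

open Cfsg.Agent.PF Cfsg.Agent.Lib.Helper6 Cfsg.Agent.Lib.Helper6.TC
open Cfsg.Agent.PL (Acts evalF)

theorem cntA2_0 : countR 0 4723 (traceTo LA2.2.1 LA2.2.2 LA2.1 10) = 2403 := by decide +kernel

theorem cntA2_1 : countR 4723 4723 (traceTo LA2.2.1 LA2.2.2 LA2.1 10) = 2796 := by decide +kernel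

theorem cntA2_2 : countR 9446 4723 (traceTo LA2.2.1 LA2.2.2 LA2.1 10) = 2834 := by decide +kernel

theorem cntA2_3 : countR 14169 4723 (traceTo LA2.2.1 LA2.2.2 LA2.1 10) = 3018 := by decide +kernel

theorem cntA2_4 : countR 18892 4723 (traceTo LA2.2.1 LA2.2.2 LA2.1 10) = 2914 := by decide +kernel

theorem cntA2_5 : countR 23615 4723 (traceTo LA2.2.1 LA2.2.2 LA2.1 10) = 3546 := by decide +kernel

theorem cntA2_6 : countR 28338 4723 (traceTo LA2.2.1 LA2.2.2 LA2.1 10) = 2758 := by decide +kernel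

theorem cntA2_7 : countR 33061 4723 (traceTo LA2.2.1 LA2.2.2 LA2.1 10) = 2976 := by decide +kernel

theorem cntA2_8 : countR 37784 4723 (traceTo LA2.2.1 LA2.2.2 LA2.1 10) = 3301 := by decide +kernel

theorem cntA2_9 : countR 42507 4723 (traceTo LA2.2.1 LA2.2.2 LA2.1 10) = 3213 := by decide +kernel

theorem cntA2_10 : countR 47230 4723 (traceTo LA2.2.1 LA2.2.2 LA2.1 10) = 3153 := by decide +kernel

theorem cntA2_11 : countR 51953 4723 (traceTo LA2.2.1 LA2.2.2 LA2.1 10) = 3543 := by decide +kernel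

theorem cntA2_12 : countR 56676 4723 (traceTo LA2.2.1 LA2.2.2 LA2.1 10) = 2555 := by decide +kernel

theorem cntA2_13 : countR 61399 4723 (traceTo LA2.2.1 LA2.2.2 LA2.1 10) = 3493 := by decide +kernel

theorem cntA2_14 : countR 66122 4723 (traceTo LA2.2.1 LA2.2.2 LA2.1 10) = 3756 := by decide +kernel

theorem cntA2_15 : countR 70845 4723 (traceTo LA2.2.1 LA2.2.2 LA2.1 10) = 2422 := by decide +kernel

theorem cntA2_16 : countR 75568 4723 (traceTo LA2.2.1 LA2.2.2 LA2.1 10) = 3559 := by decide +kernel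

theorem cntA2_17 : countR 80291 4723 (traceTo LA2.2.1 LA2.2.2 LA2.1 10) = 3691 := by decide +kernel

theorem cntA2_18 : countR 85014 4723 (traceTo LA2.2.1 LA2.2.2 LA2.1 10) = 2926 := by decide +kernel

theorem cntA2_19 : countR 89737 4723 (traceTo LA2.2.1 LA2.2.2 LA2.1 10) = 3212 := by decide +kernel


end Cfsg.Agent.Fi24Out
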