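import Cfsg.Agent.Lib.Lead.Fi24Out.LevAD

/-! # The outer automorphism group of Fi₂₄′: the number of points of the tree number 3 of the chain `A`, slices (generated) -/

set_option autoImplicit false
set_option Elab.async false
set_option maxRecDepth 100000

namespace Cfsg.Agent.Fi24Out

open Cfsg.Agent.PF Cfsg.Agent.Lib.Helper6 Cfsg.Agent.Lib.Helper6.TC
open Cfsg.Agent.PL (Acts evalF)

theorem cntA3_0 : countR 0 3699 (traceTo LA3.2.1 LA3.2.2 LA3.1 10) = 788 := by decide +kernel

theorem cntA3_1 : countR 3699 3699 (traceTo LA3.2.1 LA3.2.2 LA3.1 10) = 957 := by decide +kernel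

theorem cntA3_2 : countR 7398 3699 (traceTo LA3.2.1 LA3.2.2 LA3.1 10) = 907 := by decide +kernel

theorem cntA3_3 : countR 11097 3699 (traceTo LA3.2.1 LA3.2.2 LA3.1 10) = 1015 := by decide +kernel

theorem cntA3_4 : countR 14796 3699 (traceTo LA3.2.1 LA3.2.2 LA3.1 10) = 1002 := by decide +kernel

theorem cntA3_5 : countR 18495 3699 (traceTo LA3.2.1 LA3.2.2 LA3.1 10) = 1253 := by decide +kernel

theorem cntA3_6 : countR 22194 3699 (traceTo LA3.2.1 LA3.2.2 LA3.1 10) = 895 := by decide +kernel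

theorem cntA3_7 : countR 25893 3699 (traceTo LA3.2.1 LA3.2.2 LA3.1 10) = 978 := by decide +kernel

theorem cntA3_8 : countR 29592 3699 (traceTo LA3.2.1 LA3.2.2 LA3.1 10) = 1042 := by decide +kernel

theorem cntA3_9 : countR 33291 3699 (traceTo LA3.2.1 LA3.2.2 LA3.1 10) = 1153 := by decide +kernel

theorem cntA3_10 : countR 36990 3699 (traceTo LA3.2.1 LA3.2.2 LA3.1 10) = 917 := by decide +kernel

theorem cntA3_11 : countR 40689 3699 (traceTo LA3.2.1 LA3.2.2 LA3.1 10) = 1184 := by decide +kernel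

theorem cntA3_12 : countR 44388 3699 (traceTo LA3.2.1 LA3.2.2 LA3.1 10) = 758 := by decide +kernel

theorem cntA3_13 : countR 48087 3699 (traceTo LA3.2.1 LA3.2.2 LA3.1 10) = 1211 := by decide +kernel

theorem cntA3_14 : countR 51786 3699 (traceTo LA3.2.1 LA3.2.2 LA3.1 10) = 1152 := by decide +kernel

theorem cntA3_15 : countR 55485 3699 (traceTo LA3.2.1 LA3.2.2 LA3.1 10) = 958 := by decide +kernel

theorem cntA3_16 : countR 59184 3699 (traceTo LA3.2.1 LA3.2.2 LA3.1 10) = 1004 := by decide +kernel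

theorem cntA3_17 : countR 62883 3699 (traceTo LA3.2.1 LA3.2.2 LA3.1 10) = 1094 := by decide +kernel

theorem cntA3_18 : countR 66582 3699 (traceTo LA3.2.1 LA3.2.2 LA3.1 10) = 1258 := by decide +kernel

theorem cntA3_19 : countR 70281 3699 (traceTo LA3.2.1 LA3.2.2 LA3.1 10) = 810 := by decide +kernel


end Cfsg.Agent.Fi24Out
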