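import Cfsg.Agent.Lib.Lead.Fi24Out.LevAD

/-! # The outer automorphism group of Fi₂₄′: the number of points of the tree number 4 of the chain `A`, slices (generated) -/

set_option autoImplicit false
set_option Elab.async false
set_option maxRecDepth 100000

namespace Cfsg.Agent.Fi24Out

open Cfsg.Agent.PF Cfsg.Agent.Lib.Helper6 Cfsg.Agent.Lib.Helper6.TC
open Cfsg.Agent.PL (Acts evalF)

theorem cntA4_0 : countR 0 3699 (traceTo LA4.2.1 LA4.2.2 LA4.1 10) = 2 := by decide +kernel

theorem cntA4_1 : countR 3699 3699 (traceTo LA4.2.1 LA4.2.2 LA4.1 10) = 7 := by decide +kernel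

theorem cntA4_2 : countR 7398 3699 (traceTo LA4.2.1 LA4.2.2 LA4.1 10) = 8 := by decide +kernel

theorem cntA4_3 : countR 11097 3699 (traceTo LA4.2.1 LA4.2.2 LA4.1 10) = 3 := by decide +kernel

theorem cntA4_4 : countR 14796 3699 (traceTo LA4.2.1 LA4.2.2 LA4.1 10) = 8 := by decide +kernel

theorem cntA4_5 : countR 18495 3699 (traceTo LA4.2.1 LA4.2.2 LA4.1 10) = 7 := by decide +kernel

theorem cntA4_6 : countR 22194 3699 (traceTo LA4.2.1 LA4.2.2 LA4.1 10) = 4 := by decide +kernel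

theorem cntA4_7 : countR 25893 3699 (traceTo LA4.2.1 LA4.2.2 LA4.1 10) = 5 := by decide +kernel

theorem cntA4_8 : countR 29592 3699 (traceTo LA4.2.1 LA4.2.2 LA4.1 10) = 10 := by decide +kernel

theorem cntA4_9 : countR 33291 3699 (traceTo LA4.2.1 LA4.2.2 LA4.1 10) = 12 := by decide +kernel

theorem cntA4_10 : countR 36990 3699 (traceTo LA4.2.1 LA4.2.2 LA4.1 10) = 6 := by decide +kernel

theorem cntA4_11 : countR 40689 3699 (traceTo LA4.2.1 LA4.2.2 LA4.1 10) = 15 := by decide +kernel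

theorem cntA4_12 : countR 44388 3699 (traceTo LA4.2.1 LA4.2.2 LA4.1 10) = 5 := by decide +kernel

theorem cntA4_13 : countR 48087 3699 (traceTo LA4.2.1 LA4.2.2 LA4.1 10) = 4 := by decide +kernel

theorem cntA4_14 : countR 51786 3699 (traceTo LA4.2.1 LA4.2.2 LA4.1 10) = 11 := by decide +kernel

theorem cntA4_15 : countR 55485 3699 (traceTo LA4.2.1 LA4.2.2 LA4.1 10) = 6 := by decide +kernel

theorem cntA4_16 : countR 59184 3699 (traceTo LA4.2.1 LA4.2.2 LA4.1 10) = 10 := by decide +kernel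

theorem cntA4_17 : countR 62883 3699 (traceTo LA4.2.1 LA4.2.2 LA4.1 10) = 4 := by decide +kernel

theorem cntA4_18 : countR 66582 3699 (traceTo LA4.2.1 LA4.2.2 LA4.1 10) = 7 := by decide +kernel

theorem cntA4_19 : countR 70281 3699 (traceTo LA4.2.1 LA4.2.2 LA4.1 10) = 8 := by decide +kernel


end Cfsg.Agent.Fi24Out
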