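import Cfsg.Agent.Lib.Lead.Fi24Out.LevBD

/-! # The outer automorphism group of Fi₂₄′: the number of points of the tree number 1 of the chain `B`, slices (generated) -/

set_option autoImplicit false
set_option Elab.async false
set_option maxRecDepth 100000

namespace Cfsg.Agent.Fi24Out

open Cfsg.Agent.PF Cfsg.Agent.Lib.Helper6 Cfsg.Agent.Lib.Helper6.TC
open Cfsg.Agent.PL (Acts evalF)

theorem cntB1_40 : countR 165920 4148 (traceTo LB1.2.1 LB1.2.2 LB1.1 10) = 4148 := by decide +kernel

theorem cntB1_41 : countR 170068 4148 (traceTo LB1.2.1 LB1.2.2 LB1.1 10) = 2934 := by decide +kernel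

theorem cntB1_42 : countR 174216 4148 (traceTo LB1.2.1 LB1.2.2 LB1.1 10) = 4148 := by decide +kernel

theorem cntB1_43 : countR 178364 4148 (traceTo LB1.2.1 LB1.2.2 LB1.1 10) = 3952 := by decide +kernel

theorem cntB1_44 : countR 182512 4148 (traceTo LB1.2.1 LB1.2.2 LB1.1 10) = 4148 := by decide +kernel

theorem cntB1_45 : countR 186660 4148 (traceTo LB1.2.1 LB1.2.2 LB1.1 10) = 4148 := by decide +kernel

theorem cntB1_46 : countR 190808 4148 (traceTo LB1.2.1 LB1.2.2 LB1.1 10) = 4148 := by decide +kernel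

theorem cntB1_47 : countR 194956 4148 (traceTo LB1.2.1 LB1.2.2 LB1.1 10) = 3080 := by decide +kernel

theorem cntB1_48 : countR 199104 4148 (traceTo LB1.2.1 LB1.2.2 LB1.1 10) = 4148 := by decide +kernel

theorem cntB1_49 : countR 203252 4148 (traceTo LB1.2.1 LB1.2.2 LB1.1 10) = 3963 := by decide +kernel

theorem cntB1_50 : countR 207400 4148 (traceTo LB1.2.1 LB1.2.2 LB1.1 10) = 4148 := by decide +kernel

theorem cntB1_51 : countR 211548 4148 (traceTo LB1.2.1 LB1.2.2 LB1.1 10) = 4148 := by decide +kernel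

theorem cntB1_52 : countR 215696 4148 (traceTo LB1.2.1 LB1.2.2 LB1.1 10) = 4148 := by decide +kernel

theorem cntB1_53 : countR 219844 4148 (traceTo LB1.2.1 LB1.2.2 LB1.1 10) = 3162 := by decide +kernel

theorem cntB1_54 : countR 223992 4148 (traceTo LB1.2.1 LB1.2.2 LB1.1 10) = 4148 := by decide +kernel

theorem cntB1_55 : countR 228140 4148 (traceTo LB1.2.1 LB1.2.2 LB1.1 10) = 4093 := by decide +kernel

theorem cntB1_56 : countR 232288 4148 (traceTo LB1.2.1 LB1.2.2 LB1.1 10) = 4013 := by decide +kernel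

theorem cntB1_57 : countR 236436 4148 (traceTo LB1.2.1 LB1.2.2 LB1.1 10) = 4148 := by decide +kernel

theorem cntB1_58 : countR 240584 4148 (traceTo LB1.2.1 LB1.2.2 LB1.1 10) = 4148 := by decide +kernel

theorem cntB1_59 : countR 244732 4148 (traceTo LB1.2.1 LB1.2.2 LB1.1 10) = 3164 := by decide +kernel


end Cfsg.Agent.Fi24Out
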