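import Cfsg.Agent.Lib.Lead.Fi24Out.LevBD

/-! # The outer automorphism group of Fi₂₄′: the number of points of the tree number 1 of the chain `B`, slices (generated) -/

set_option autoImplicit false
set_option Elab.async false
set_option maxRecDepth 100000

namespace Cfsg.Agent.Fi24Out

open Cfsg.Agent.PF Cfsg.Agent.Lib.Helper6 Cfsg.Agent.Lib.Helper6.TC
open Cfsg.Agent.PL (Acts evalF)

theorem cntB1_60 : countR 248880 4148 (traceTo LB1.2.1 LB1.2.2 LB1.1 10) = 4148 := by decide +kernel

theorem cntB1_61 : countR 253028 4148 (traceTo LB1.2.1 LB1.2.2 LB1.1 10) = 3945 := by decide +kernel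

theorem cntB1_62 : countR 257176 4148 (traceTo LB1.2.1 LB1.2.2 LB1.1 10) = 4148 := by decide +kernel

theorem cntB1_63 : countR 261324 4148 (traceTo LB1.2.1 LB1.2.2 LB1.1 10) = 4148 := by decide +kernel

theorem cntB1_64 : countR 265472 4148 (traceTo LB1.2.1 LB1.2.2 LB1.1 10) = 3153 := by decide +kernel

theorem cntB1_65 : countR 269620 4148 (traceTo LB1.2.1 LB1.2.2 LB1.1 10) = 4148 := by decide +kernel

theorem cntB1_66 : countR 273768 4148 (traceTo LB1.2.1 LB1.2.2 LB1.1 10) = 3958 := by decide +kernel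

theorem cntB1_67 : countR 277916 4148 (traceTo LB1.2.1 LB1.2.2 LB1.1 10) = 4148 := by decide +kernel

theorem cntB1_68 : countR 282064 4148 (traceTo LB1.2.1 LB1.2.2 LB1.1 10) = 3229 := by decide +kernel

theorem cntB1_69 : countR 286212 4148 (traceTo LB1.2.1 LB1.2.2 LB1.1 10) = 4148 := by decide +kernel

theorem cntB1_70 : countR 290360 4148 (traceTo LB1.2.1 LB1.2.2 LB1.1 10) = 3993 := by decide +kernel

theorem cntB1_71 : countR 294508 4148 (traceTo LB1.2.1 LB1.2.2 LB1.1 10) = 3400 := by decide +kernel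

theorem cntB1_72 : countR 298656 4148 (traceTo LB1.2.1 LB1.2.2 LB1.1 10) = 3489 := by decide +kernel

theorem cntB1_73 : countR 302804 4132 (traceTo LB1.2.1 LB1.2.2 LB1.1 10) = 2970 := by decide +kernel


end Cfsg.Agent.Fi24Out
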