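import Cfsg.Agent.Lib.Lead.Fi24Out.CntB1_0
import Cfsg.Agent.Lib.Lead.Fi24Out.CntB1_1
import Cfsg.Agent.Lib.Lead.Fi24Out.CntB1_2
import Cfsg.Agent.Lib.Lead.Fi24Out.CntB1_3

/-! # The outer automorphism group of Fi₂₄′: the number of points of the tree number 1 of the chain `B` (generated) -/

set_option autoImplicit false
set_option maxRecDepth 100000

namespace Cfsg.Agent.Fi24Out

open Cfsg.Agent.PF Cfsg.Agent.Lib.Helper6 Cfsg.Agent.Lib.Helper6.TC
open Cfsg.Agent.PL (Acts evalF)

/-- the number of points of the tree number 1 of the chain `B` -/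
theorem lenB1 : (orbitL 306936 LB1.2.1 LB1.2.2 LB1.1 10).length = 275264 := by
  rw [length_orbitL]
  exact (countR_append cntB1_0 (countR_append cntB1_1 (countR_append cntB1_2 (countR_append cntB1_3 (countR_append cntB1_4 (countR_append cntB1_5 (countR_append cntB1_6 (countR_append cntB1_7 (countR_append cntB1_8 (countR_append cntB1_9 (countR_append cntB1_10 (countR_append cntB1_11 (countR_append cntB1_12 (countR_append cntB1_13 (countR_append cntB1_14 (countR_append cntB1_15 (countR_append cntB1_16 (countR_append cntB1_17 (countR_append cntB1_18 (countR_append cntB1_19 (countR_append cntB1_20 (countR_append cntB1_21 (countR_append cntB1_22 (countR_append cntB1_23 (countR_append cntB1_24 (countR_append cntB1_25 (countR_append cntB1_26 (countR_append cntB1_27 (countR_append cntB1_28 (countR_append cntB1_29 (countR_append cntB1_30 (countR_append cntB1_31 (countR_append cntB1_32 (countR_append cntB1_33 (countR_append cntB1_34 (countR_append cntB1_35 (countR_append cntB1_36 (countR_append cntB1_37 (countR_append cntB1_38 (countR_append cntB1_39 (countR_append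 cntB1_40 (countR_append cntB1_41 (countR_append cntB1_42 (countR_append cntB1_43 (countR_append cntB1_44 (countR_append cntB1_45 (countR_append cntB1_46 (countR_append cntB1_47 (countR_append cntB1_48 (countR_append cntB1_49 (countR_append cntB1_50 (countR_append cntB1_51 (countR_append cntB1_52 (countR_append cntB1_53 (countR_append cntB1_54 (countR_append cntB1_55 (countR_append cntB1_56 (countR_append cntB1_57 (countR_append cntB1_58 (countR_append cntB1_59 (countR_append cntB1_60 (countR_append cntB1_61 (countR_append cntB1_62 (countR_append cntB1_63 (countR_append cntB1_64 (countR_append cntB1_65 (countR_append cntB1_66 (countR_append cntB1_67 (countR_append cntB1_68 (countR_append cntB1_69 (countR_append cntB1_70 (countR_append cntB1_71 (countR_append cntB1_72 (cntB1_73))))))))))))))))))))))))))))))))))))))))))))))))))))))))))))))))))))))))) :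
    countR 0 (4148 + (4148 + (4148 + (4148 + (4148 + (4148 + (4148 + (4148 + (4148 + (4148 + (4148 + (4148 + (4148 + (4148 + (4148 + (4148 + (4148 + (4148 + (4148 + (4148 + (4148 + (4148 + (4148 + (4148 + (4148 + (4148 + (4148 + (4148 + (4148 + (4148 + (4148 + (4148 + (4148 + (4148 + (4148 + (4148 + (4148 + (4148 + (4148 + (4148 + (4148 + (4148 + (4148 + (4148 + (4148 + (4148 + (4148 + (4148 + (4148 + (4148 + (4148 + (4148 + (4148 + (4148 + (4148 + (4148 + (4148 + (4148 + (4148 + (4148 + (4148 + (4148 + (4148 + (4148 + (4148 + (4148 + (4148 + (4148 + (4148 + (4148 + (4148 + (4148 + (4148 + (4132)))))))))))))))))))))))))))))))))))))))))))))))))))))))))))))))))))))))))) (traceTo LB1.2.1 LB1.2.2 LB1.1 10) = 2804 + (2961 + (3247 + (3387 + (3263 + (3232 + (3816 + (3127 + (3595 + (3352 + (4007 + (2820 + (3881 + (4085 + (2666 + (3809 + (4148 + (2471 + (4148 + (3782 + (4148 + (2399 + (4148 + (3805 + (4148 + (3168 + (3443 + (4118 + (3868 + (4148 + (2634 + (4148 + (3878 + (4148 + (4148 + (2976 + (3963 + (4148 + (3917 + (4148 + (4148 + (2934 + (4148 + (3952 + (4148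 + (4148 + (4148 + (3080 + (4148 + (3963 + (4148 + (4148 + (4148 + (3162 + (4148 + (4093 + (4013 + (4148 + (4148 + (3164 + (4148 + (3945 + (4148 + (4148 + (3153 + (4148 + (3958 + (4148 + (3229 + (4148 + (3993 + (3400 + (3489 + (2970))))))))))))))))))))))))))))))))))))))))))))))))))))))))))))))))))))))))))

end Cfsg.Agent.Fi24Out
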