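import Cfsg.Agent.Lib.Lead.Fi24Out.LevBD

/-! # The outer automorphism group of Fi₂₄′: the number of points of the tree number 2 of the chain `B`, slices (generated) -/

set_option autoImplicit false
set_option Elab.async false
set_option maxRecDepth 100000

namespace Cfsg.Agent.Fi24Out

open Cfsg.Agent.PF Cfsg.Agent.Lib.Helper6 Cfsg.Agent.Lib.Helper6.TC
open Cfsg.Agent.PL (Acts evalF)

theorem cntB2_20 : countR 73980 3699 (traceTo LB2.2.1 LB2.2.2 LB2.1 10) = 2777 := by decide +kernel

theorem cntB2_21 : countR 77679 3699 (traceTo LB2.2.1 LB2.2.2 LB2.1 10) = 2697 := by decide +kernel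

theorem cntB2_22 : countR 81378 3699 (traceTo LB2.2.1 LB2.2.2 LB2.1 10) = 2863 := by decide +kernel

theorem cntB2_23 : countR 85077 3699 (traceTo LB2.2.1 LB2.2.2 LB2.1 10) = 2852 := by decide +kernel

theorem cntB2_24 : countR 88776 3699 (traceTo LB2.2.1 LB2.2.2 LB2.1 10) = 1623 := by decide +kernel

theorem cntB2_25 : countR 92475 3699 (traceTo LB2.2.1 LB2.2.2 LB2.1 10) = 2929 := by decide +kernel

theorem cntB2_26 : countR 96174 3699 (traceTo LB2.2.1 LB2.2.2 LB2.1 10) = 2650 := by decide +kernel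

theorem cntB2_27 : countR 99873 3699 (traceTo LB2.2.1 LB2.2.2 LB2.1 10) = 2900 := by decide +kernel

theorem cntB2_28 : countR 103572 3699 (traceTo LB2.2.1 LB2.2.2 LB2.1 10) = 2589 := by decide +kernel

theorem cntB2_29 : countR 107271 3699 (traceTo LB2.2.1 LB2.2.2 LB2.1 10) = 1904 := by decide +kernel

theorem cntB2_30 : countR 110970 3699 (traceTo LB2.2.1 LB2.2.2 LB2.1 10) = 2908 := by decide +kernel

theorem cntB2_31 : countR 114669 3699 (traceTo LB2.2.1 LB2.2.2 LB2.1 10) = 2628 := by decide +kernel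

theorem cntB2_32 : countR 118368 3699 (traceTo LB2.2.1 LB2.2.2 LB2.1 10) = 2898 := by decide +kernel

theorem cntB2_33 : countR 122067 3699 (traceTo LB2.2.1 LB2.2.2 LB2.1 10) = 2915 := by decide +kernel

theorem cntB2_34 : countR 125766 3699 (traceTo LB2.2.1 LB2.2.2 LB2.1 10) = 1717 := by decide +kernel

theorem cntB2_35 : countR 129465 3699 (traceTo LB2.2.1 LB2.2.2 LB2.1 10) = 2904 := by decide +kernel

theorem cntB2_36 : countR 133164 3699 (traceTo LB2.2.1 LB2.2.2 LB2.1 10) = 2685 := by decide +kernel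

theorem cntB2_37 : countR 136863 3699 (traceTo LB2.2.1 LB2.2.2 LB2.1 10) = 2918 := by decide +kernel

theorem cntB2_38 : countR 140562 3699 (traceTo LB2.2.1 LB2.2.2 LB2.1 10) = 2948 := by decide +kernel

theorem cntB2_39 : countR 144261 3699 (traceTo LB2.2.1 LB2.2.2 LB2.1 10) = 2985 := by decide +kernel


end Cfsg.Agent.Fi24Out
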