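import Cfsg.Agent.Lib.Lead.Fi24Out.LevBD

/-! # The outer automorphism group of Fi₂₄′: the number of points of the tree number 2 of the chain `B`, slices (generated) -/

set_option autoImplicit false
set_option Elab.async false
set_option maxRecDepth 100000

namespace Cfsg.Agent.Fi24Out

open Cfsg.Agent.PF Cfsg.Agent.Lib.Helper6 Cfsg.Agent.Lib.Helper6.TC
open Cfsg.Agent.PL (Acts evalF)

theorem cntB2_40 : countR 147960 3699 (traceTo LB2.2.1 LB2.2.2 LB2.1 10) = 1825 := by decide +kernel

theorem cntB2_41 : countR 151659 3699 (traceTo LB2.2.1 LB2.2.2 LB2.1 10) = 2935 := by decide +kernel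

theorem cntB2_42 : countR 155358 3699 (traceTo LB2.2.1 LB2.2.2 LB2.1 10) = 2810 := by decide +kernel

theorem cntB2_43 : countR 159057 3699 (traceTo LB2.2.1 LB2.2.2 LB2.1 10) = 2959 := by decide +kernel

theorem cntB2_44 : countR 162756 3699 (traceTo LB2.2.1 LB2.2.2 LB2.1 10) = 2947 := by decide +kernel

theorem cntB2_45 : countR 166455 3699 (traceTo LB2.2.1 LB2.2.2 LB2.1 10) = 2961 := by decide +kernel

theorem cntB2_46 : countR 170154 3699 (traceTo LB2.2.1 LB2.2.2 LB2.1 10) = 1953 := by decide +kernel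

theorem cntB2_47 : countR 173853 3699 (traceTo LB2.2.1 LB2.2.2 LB2.1 10) = 2959 := by decide +kernel

theorem cntB2_48 : countR 177552 3699 (traceTo LB2.2.1 LB2.2.2 LB2.1 10) = 2963 := by decide +kernel

theorem cntB2_49 : countR 181251 3699 (traceTo LB2.2.1 LB2.2.2 LB2.1 10) = 2803 := by decide +kernel

theorem cntB2_50 : countR 184950 3699 (traceTo LB2.2.1 LB2.2.2 LB2.1 10) = 2929 := by decide +kernel

theorem cntB2_51 : countR 188649 3699 (traceTo LB2.2.1 LB2.2.2 LB2.1 10) = 2969 := by decide +kernel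

theorem cntB2_52 : countR 192348 3699 (traceTo LB2.2.1 LB2.2.2 LB2.1 10) = 2283 := by decide +kernel

theorem cntB2_53 : countR 196047 3699 (traceTo LB2.2.1 LB2.2.2 LB2.1 10) = 2723 := by decide +kernel

theorem cntB2_54 : countR 199746 3699 (traceTo LB2.2.1 LB2.2.2 LB2.1 10) = 2930 := by decide +kernel

theorem cntB2_55 : countR 203445 3699 (traceTo LB2.2.1 LB2.2.2 LB2.1 10) = 2794 := by decide +kernel

theorem cntB2_56 : countR 207144 3699 (traceTo LB2.2.1 LB2.2.2 LB2.1 10) = 2931 := by decide +kernel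

theorem cntB2_57 : countR 210843 3699 (traceTo LB2.2.1 LB2.2.2 LB2.1 10) = 2947 := by decide +kernel

theorem cntB2_58 : countR 214542 3699 (traceTo LB2.2.1 LB2.2.2 LB2.1 10) = 2920 := by decide +kernel

theorem cntB2_59 : countR 218241 3699 (traceTo LB2.2.1 LB2.2.2 LB2.1 10) = 2154 := by decide +kernel


end Cfsg.Agent.Fi24Out
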