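import Cfsg.Agent.Lib.Lead.Fi24Out.CntB2_0
import Cfsg.Agent.Lib.Lead.Fi24Out.CntB2_1
import Cfsg.Agent.Lib.Lead.Fi24Out.CntB2_2
import Cfsg.Agent.Lib.Lead.Fi24Out.CntB2_3
import Cfsg.Agent.Lib.Lead.Fi24Out.CntB2_4

/-! # The outer automorphism group of Fi₂₄′: the number of points of the tree number 2 of the chain `B` (generated) -/

set_option autoImplicit false
set_option maxRecDepth 100000

namespace Cfsg.Agent.Fi24Out

open Cfsg.Agent.PF Cfsg.Agent.Lib.Helper6 Cfsg.Agent.Lib.Helper6.TC
open Cfsg.Agent.PL (Acts evalF)

/-- the number of points of the tree number 2 of the chain `B` -/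
theorem lenB2 : (orbitL 306936 LB2.2.1 LB2.2.2 LB2.1 10).length = 218400 := by
  rw [length_orbitL]
  exact (countR_append cntB2_0 (countR_append cntB2_1 (countR_append cntB2_2 (countR_append cntB2_3 (countR_append cntB2_4 (countR_append cntB2_5 (countR_append cntB2_6 (countR_append cntB2_7 (countR_append cntB2_8 (countR_append cntB2_9 (countR_append cntB2_10 (countR_append cntB2_11 (countR_append cntB2_12 (countR_append cntB2_13 (countR_append cntB2_14 (countR_append cntB2_15 (countR_append cntB2_16 (countR_append cntB2_17 (countR_append cntB2_18 (countR_append cntB2_19 (countR_append cntB2_20 (countR_append cntB2_21 (countR_append cntB2_22 (countR_append cntB2_23 (countR_append cntB2_24 (countR_append cntB2_25 (countR_append cntB2_26 (countR_append cntB2_27 (countR_append cntB2_28 (countR_append cntB2_29 (countR_append cntB2_30 (countR_append cntB2_31 (countR_append cntB2_32 (countR_append cntB2_33 (countR_append cntB2_34 (countR_append cntB2_35 (countR_append cntB2_36 (countR_append cntB2_37 (countR_append cntB2_38 (countR_append cntB2_39 (countR_append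 cntB2_40 (countR_append cntB2_41 (countR_append cntB2_42 (countR_append cntB2_43 (countR_append cntB2_44 (countR_append cntB2_45 (countR_append cntB2_46 (countR_append cntB2_47 (countR_append cntB2_48 (countR_append cntB2_49 (countR_append cntB2_50 (countR_append cntB2_51 (countR_append cntB2_52 (countR_append cntB2_53 (countR_append cntB2_54 (countR_append cntB2_55 (countR_append cntB2_56 (countR_append cntB2_57 (countR_append cntB2_58 (countR_append cntB2_59 (countR_append cntB2_60 (countR_append cntB2_61 (countR_append cntB2_62 (countR_append cntB2_63 (countR_append cntB2_64 (countR_append cntB2_65 (countR_append cntB2_66 (countR_append cntB2_67 (countR_append cntB2_68 (countR_append cntB2_69 (countR_append cntB2_70 (countR_append cntB2_71 (countR_append cntB2_72 (countR_append cntB2_73 (countR_append cntB2_74 (countR_append cntB2_75 (countR_append cntB2_76 (countR_append cntB2_77 (countR_append cntB2_78 (countR_append cntB2_79 (countR_append cntB2_80 (countR_append cntB2_81 (cntB2_82))))))))))))))))))))))))))))))))))))))))))))))))))))))))))))))))))))))))))))))))))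 :
    countR 0 (3699 + (3699 + (3699 + (3699 + (3699 + (3699 + (3699 + (3699 + (3699 + (3699 + (3699 + (3699 + (3699 + (3699 + (3699 + (3699 + (3699 + (3699 + (3699 + (3699 + (3699 + (3699 + (3699 + (3699 + (3699 + (3699 + (3699 + (3699 + (3699 + (3699 + (3699 + (3699 + (3699 + (3699 + (3699 + (3699 + (3699 + (3699 + (3699 + (3699 + (3699 + (3699 + (3699 + (3699 + (3699 + (3699 + (3699 + (3699 + (3699 + (3699 + (3699 + (3699 + (3699 + (3699 + (3699 + (3699 + (3699 + (3699 + (3699 + (3699 + (3699 + (3699 + (3699 + (3699 + (3699 + (3699 + (3699 + (3699 + (3699 + (3699 + (3699 + (3699 + (3699 + (3699 + (3699 + (3699 + (3699 + (3699 + (3699 + (3699 + (3699 + (3699 + (3618))))))))))))))))))))))))))))))))))))))))))))))))))))))))))))))))))))))))))))))))))) (traceTo LB2.2.1 LB2.2.2 LB2.1 10) = 1867 + (2238 + (2013 + (2350 + (2242 + (2800 + (2105 + (2374 + (2509 + (2776 + (2177 + (2787 + (1850 + (2961 + (2745 + (2307 + (2407 + (2692 + (2944 + (1790 + (2777 + (2697 + (2863 + (2852 + (1623 + (2929 + (2650 + (2900 + (2589 + (1904 + (2908 + (2628 + (2898 + (2915 + (1717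 + (2904 + (2685 + (2918 + (2948 + (2985 + (1825 + (2935 + (2810 + (2959 + (2947 + (2961 + (1953 + (2959 + (2963 + (2803 + (2929 + (2969 + (2283 + (2723 + (2930 + (2794 + (2931 + (2947 + (2920 + (2154 + (2894 + (2955 + (2805 + (2951 + (2939 + (2901 + (2139 + (2974 + (2938 + (2800 + (2943 + (2900 + (2128 + (2996 + (2816 + (2883 + (2864 + (2205 + (2783 + (2943 + (2342 + (2439 + (1943)))))))))))))))))))))))))))))))))))))))))))))))))))))))))))))))))))))))))))))))))))

end Cfsg.Agent.Fi24Out
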