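import Cfsg.Agent.Lib.Lead.Fi24Out.LevBD

/-! # The outer automorphism group of Fi₂₄′: the number of points of the tree number 3 of the chain `B`, slices (generated) -/

set_option autoImplicit false
set_option Elab.async false
set_option maxRecDepth 100000

namespace Cfsg.Agent.Fi24Out

open Cfsg.Agent.PF Cfsg.Agent.Lib.Helper6 Cfsg.Agent.Lib.Helper6.TC
open Cfsg.Agent.PL (Acts evalF)

theorem cntB3_20 : countR 73980 3699 (traceTo LB3.2.1 LB3.2.2 LB3.1 10) = 252 := by decide +kernel

theorem cntB3_21 : countR 77679 3699 (traceTo LB3.2.1 LB3.2.2 LB3.1 10) = 216 := by decide +kernel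

theorem cntB3_22 : countR 81378 3699 (traceTo LB3.2.1 LB3.2.2 LB3.1 10) = 249 := by decide +kernel

theorem cntB3_23 : countR 85077 3699 (traceTo LB3.2.1 LB3.2.2 LB3.1 10) = 244 := by decide +kernel

theorem cntB3_24 : countR 88776 3699 (traceTo LB3.2.1 LB3.2.2 LB3.1 10) = 159 := by decide +kernel

theorem cntB3_25 : countR 92475 3699 (traceTo LB3.2.1 LB3.2.2 LB3.1 10) = 298 := by decide +kernel

theorem cntB3_26 : countR 96174 3699 (traceTo LB3.2.1 LB3.2.2 LB3.1 10) = 249 := by decide +kernel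

theorem cntB3_27 : countR 99873 3699 (traceTo LB3.2.1 LB3.2.2 LB3.1 10) = 276 := by decide +kernel

theorem cntB3_28 : countR 103572 3699 (traceTo LB3.2.1 LB3.2.2 LB3.1 10) = 225 := by decide +kernel

theorem cntB3_29 : countR 107271 3699 (traceTo LB3.2.1 LB3.2.2 LB3.1 10) = 179 := by decide +kernel

theorem cntB3_30 : countR 110970 3699 (traceTo LB3.2.1 LB3.2.2 LB3.1 10) = 284 := by decide +kernel

theorem cntB3_31 : countR 114669 3699 (traceTo LB3.2.1 LB3.2.2 LB3.1 10) = 216 := by decide +kernel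

theorem cntB3_32 : countR 118368 3699 (traceTo LB3.2.1 LB3.2.2 LB3.1 10) = 264 := by decide +kernel

theorem cntB3_33 : countR 122067 3699 (traceTo LB3.2.1 LB3.2.2 LB3.1 10) = 258 := by decide +kernel

theorem cntB3_34 : countR 125766 3699 (traceTo LB3.2.1 LB3.2.2 LB3.1 10) = 174 := by decide +kernel

theorem cntB3_35 : countR 129465 3699 (traceTo LB3.2.1 LB3.2.2 LB3.1 10) = 242 := by decide +kernel

theorem cntB3_36 : countR 133164 3699 (traceTo LB3.2.1 LB3.2.2 LB3.1 10) = 222 := by decide +kernel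

theorem cntB3_37 : countR 136863 3699 (traceTo LB3.2.1 LB3.2.2 LB3.1 10) = 257 := by decide +kernel

theorem cntB3_38 : countR 140562 3699 (traceTo LB3.2.1 LB3.2.2 LB3.1 10) = 251 := by decide +kernel

theorem cntB3_39 : countR 144261 3699 (traceTo LB3.2.1 LB3.2.2 LB3.1 10) = 277 := by decide +kernel


end Cfsg.Agent.Fi24Out
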