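import Cfsg.Agent.Lib.Lead.Fi24Out.LevBD

/-! # The outer automorphism group of Fi₂₄′: the number of points of the tree number 3 of the chain `B`, slices (generated) -/

set_option autoImplicit false
set_option Elab.async false
set_option maxRecDepth 100000

namespace Cfsg.Agent.Fi24Out

open Cfsg.Agent.PF Cfsg.Agent.Lib.Helper6 Cfsg.Agent.Lib.Helper6.TC
open Cfsg.Agent.PL (Acts evalF)

theorem cntB3_40 : countR 147960 3699 (traceTo LB3.2.1 LB3.2.2 LB3.1 10) = 140 := by decide +kernel

theorem cntB3_41 : countR 151659 3699 (traceTo LB3.2.1 LB3.2.2 LB3.1 10) = 266 := by decide +kernel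

theorem cntB3_42 : countR 155358 3699 (traceTo LB3.2.1 LB3.2.2 LB3.1 10) = 281 := by decide +kernel

theorem cntB3_43 : countR 159057 3699 (traceTo LB3.2.1 LB3.2.2 LB3.1 10) = 291 := by decide +kernel

theorem cntB3_44 : countR 162756 3699 (traceTo LB3.2.1 LB3.2.2 LB3.1 10) = 303 := by decide +kernel

theorem cntB3_45 : countR 166455 3699 (traceTo LB3.2.1 LB3.2.2 LB3.1 10) = 266 := by decide +kernel

theorem cntB3_46 : countR 170154 3699 (traceTo LB3.2.1 LB3.2.2 LB3.1 10) = 169 := by decide +kernel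

theorem cntB3_47 : countR 173853 3699 (traceTo LB3.2.1 LB3.2.2 LB3.1 10) = 265 := by decide +kernel

theorem cntB3_48 : countR 177552 3699 (traceTo LB3.2.1 LB3.2.2 LB3.1 10) = 240 := by decide +kernel

theorem cntB3_49 : countR 181251 3699 (traceTo LB3.2.1 LB3.2.2 LB3.1 10) = 233 := by decide +kernel

theorem cntB3_50 : countR 184950 3699 (traceTo LB3.2.1 LB3.2.2 LB3.1 10) = 243 := by decide +kernel

theorem cntB3_51 : countR 188649 3699 (traceTo LB3.2.1 LB3.2.2 LB3.1 10) = 267 := by decide +kernel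

theorem cntB3_52 : countR 192348 3699 (traceTo LB3.2.1 LB3.2.2 LB3.1 10) = 193 := by decide +kernel

theorem cntB3_53 : countR 196047 3699 (traceTo LB3.2.1 LB3.2.2 LB3.1 10) = 246 := by decide +kernel

theorem cntB3_54 : countR 199746 3699 (traceTo LB3.2.1 LB3.2.2 LB3.1 10) = 277 := by decide +kernel

theorem cntB3_55 : countR 203445 3699 (traceTo LB3.2.1 LB3.2.2 LB3.1 10) = 278 := by decide +kernel

theorem cntB3_56 : countR 207144 3699 (traceTo LB3.2.1 LB3.2.2 LB3.1 10) = 263 := by decide +kernel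

theorem cntB3_57 : countR 210843 3699 (traceTo LB3.2.1 LB3.2.2 LB3.1 10) = 289 := by decide +kernel

theorem cntB3_58 : countR 214542 3699 (traceTo LB3.2.1 LB3.2.2 LB3.1 10) = 283 := by decide +kernel

theorem cntB3_59 : countR 218241 3699 (traceTo LB3.2.1 LB3.2.2 LB3.1 10) = 171 := by decide +kernel


end Cfsg.Agent.Fi24Out
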