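import Cfsg.Agent.Lib.Lead.Fi24Out.LevBD

/-! # The outer automorphism group of Fi₂₄′: the number of points of the tree number 3 of the chain `B`, slices (generated) -/

set_option autoImplicit false
set_option Elab.async false
set_option maxRecDepth 100000

namespace Cfsg.Agent.Fi24Out

open Cfsg.Agent.PF Cfsg.Agent.Lib.Helper6 Cfsg.Agent.Lib.Helper6.TC
open Cfsg.Agent.PL (Acts evalF)

theorem cntB3_80 : countR 295920 3699 (traceTo LB3.2.1 LB3.2.2 LB3.1 10) = 200 := by decide +kernel

theorem cntB3_81 : countR 299619 3699 (traceTo LB3.2.1 LB3.2.2 LB3.1 10) = 215 := by decide +kernel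

theorem cntB3_82 : countR 303318 3618 (traceTo LB3.2.1 LB3.2.2 LB3.1 10) = 178 := by decide +kernel


end Cfsg.Agent.Fi24Out
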