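import Cfsg.Agent.Lib.Lead.Fi24Out.CntB3_0
import Cfsg.Agent.Lib.Lead.Fi24Out.CntB3_1
import Cfsg.Agent.Lib.Lead.Fi24Out.CntB3_2
import Cfsg.Agent.Lib.Lead.Fi24Out.CntB3_3
import Cfsg.Agent.Lib.Lead.Fi24Out.CntB3_4

/-! # The outer automorphism group of Fi₂₄′: the number of points of the tree number 3 of the chain `B` (generated) -/

set_option autoImplicit false
set_option maxRecDepth 100000

namespace Cfsg.Agent.Fi24Out

open Cfsg.Agent.PF Cfsg.Agent.Lib.Helper6 Cfsg.Agent.Lib.Helper6.TC
open Cfsg.Agent.PL (Acts evalF)

/-- the number of points of the tree number 3 of the chain `B` -/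
theorem lenB3 : (orbitL 306936 LB3.2.1 LB3.2.2 LB3.1 10).length = 19683 := by
  rw [length_orbitL]
  exact (countR_append cntB3_0 (countR_append cntB3_1 (countR_append cntB3_2 (countR_append cntB3_3 (countR_append cntB3_4 (countR_append cntB3_5 (countR_append cntB3_6 (countR_append cntB3_7 (countR_append cntB3_8 (countR_append cntB3_9 (countR_append cntB3_10 (countR_append cntB3_11 (countR_append cntB3_12 (countR_append cntB3_13 (countR_append cntB3_14 (countR_append cntB3_15 (countR_append cntB3_16 (countR_append cntB3_17 (countR_append cntB3_18 (countR_append cntB3_19 (countR_append cntB3_20 (countR_append cntB3_21 (countR_append cntB3_22 (countR_append cntB3_23 (countR_append cntB3_24 (countR_append cntB3_25 (countR_append cntB3_26 (countR_append cntB3_27 (countR_append cntB3_28 (countR_append cntB3_29 (countR_append cntB3_30 (countR_append cntB3_31 (countR_append cntB3_32 (countR_append cntB3_33 (countR_append cntB3_34 (countR_append cntB3_35 (countR_append cntB3_36 (countR_append cntB3_37 (countR_append cntB3_38 (countR_append cntB3_39 (countR_append cntB3_40 (countR_append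 cntB3_41 (countR_append cntB3_42 (countR_append cntB3_43 (countR_append cntB3_44 (countR_append cntB3_45 (countR_append cntB3_46 (countR_append cntB3_47 (countR_append cntB3_48 (countR_append cntB3_49 (countR_append cntB3_50 (countR_append cntB3_51 (countR_append cntB3_52 (countR_append cntB3_53 (countR_append cntB3_54 (countR_append cntB3_55 (countR_append cntB3_56 (countR_append cntB3_57 (countR_append cntB3_58 (countR_append cntB3_59 (countR_append cntB3_60 (countR_append cntB3_61 (countR_append cntB3_62 (countR_append cntB3_63 (countR_append cntB3_64 (countR_append cntB3_65 (countR_append cntB3_66 (countR_append cntB3_67 (countR_append cntB3_68 (countR_append cntB3_69 (countR_append cntB3_70 (countR_append cntB3_71 (countR_append cntB3_72 (countR_append cntB3_73 (countR_append cntB3_74 (countR_append cntB3_75 (countR_append cntB3_76 (countR_append cntB3_77 (countR_append cntB3_78 (countR_append cntB3_79 (countR_append cntB3_80 (countR_append cntB3_81 (cntB3_82)))))))))))))))))))))))))))))))))))))))))))))))))))))))))))))))))))))))))))))))))) :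
    countR 0 (3699 + (3699 + (3699 + (3699 + (3699 + (3699 + (3699 + (3699 + (3699 + (3699 + (3699 + (3699 + (3699 + (3699 + (3699 + (3699 + (3699 + (3699 + (3699 + (3699 + (3699 + (3699 + (3699 + (3699 + (3699 + (3699 + (3699 + (3699 + (3699 + (3699 + (3699 + (3699 + (3699 + (3699 + (3699 + (3699 + (3699 + (3699 + (3699 + (3699 + (3699 + (3699 + (3699 + (3699 + (3699 + (3699 + (3699 + (3699 + (3699 + (3699 + (3699 + (3699 + (3699 + (3699 + (3699 + (3699 + (3699 + (3699 + (3699 + (3699 + (3699 + (3699 + (3699 + (3699 + (3699 + (3699 + (3699 + (3699 + (3699 + (3699 + (3699 + (3699 + (3699 + (3699 + (3699 + (3699 + (3699 + (3699 + (3699 + (3699 + (3699 + (3699 + (3618))))))))))))))))))))))))))))))))))))))))))))))))))))))))))))))))))))))))))))))))))) (traceTo LB3.2.1 LB3.2.2 LB3.1 10) = 159 + (196 + (195 + (213 + (169 + (264 + (201 + (229 + (182 + (254 + (206 + (273 + (169 + (234 + (251 + (215 + (238 + (236 + (265 + (167 + (252 + (216 + (249 + (244 + (159 + (298 + (249 + (276 + (225 + (179 + (284 + (216 + (264 + (258 + (174 + (242 + (222 + (257 + (251 + (277 + (140 + (266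 + (281 + (291 + (303 + (266 + (169 + (265 + (240 + (233 + (243 + (267 + (193 + (246 + (277 + (278 + (263 + (289 + (283 + (171 + (251 + (266 + (265 + (279 + (272 + (249 + (215 + (257 + (262 + (243 + (247 + (283 + (189 + (289 + (228 + (261 + (276 + (190 + (254 + (242 + (200 + (215 + (178)))))))))))))))))))))))))))))))))))))))))))))))))))))))))))))))))))))))))))))))))))

end Cfsg.Agent.Fi24Out
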