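import Cfsg.Agent.Lib.Lead.Fi24Out.LevBD

/-! # The outer automorphism group of Fi₂₄′: the number of points of the tree number 4 of the chain `B`, slices (generated) -/

set_option autoImplicit false
set_option Elab.async false
set_option maxRecDepth 100000

namespace Cfsg.Agent.Fi24Out

open Cfsg.Agent.PF Cfsg.Agent.Lib.Helper6 Cfsg.Agent.Lib.Helper6.TC
open Cfsg.Agent.PL (Acts evalF)

theorem cntB4_60 : countR 221940 3699 (traceTo LB4.2.1 LB4.2.2 LB4.1 10) = 12 := by decide +kernel

theorem cntB4_61 : countR 225639 3699 (traceTo LB4.2.1 LB4.2.2 LB4.1 10) = 17 := by decide +kernel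

theorem cntB4_62 : countR 229338 3699 (traceTo LB4.2.1 LB4.2.2 LB4.1 10) = 12 := by decide +kernel

theorem cntB4_63 : countR 233037 3699 (traceTo LB4.2.1 LB4.2.2 LB4.1 10) = 23 := by decide +kernel

theorem cntB4_64 : countR 236736 3699 (traceTo LB4.2.1 LB4.2.2 LB4.1 10) = 22 := by decide +kernel

theorem cntB4_65 : countR 240435 3699 (traceTo LB4.2.1 LB4.2.2 LB4.1 10) = 17 := by decide +kernel

theorem cntB4_66 : countR 244134 3699 (traceTo LB4.2.1 LB4.2.2 LB4.1 10) = 12 := by decide +kernel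

theorem cntB4_67 : countR 247833 3699 (traceTo LB4.2.1 LB4.2.2 LB4.1 10) = 14 := by decide +kernel

theorem cntB4_68 : countR 251532 3699 (traceTo LB4.2.1 LB4.2.2 LB4.1 10) = 15 := by decide +kernel

theorem cntB4_69 : countR 255231 3699 (traceTo LB4.2.1 LB4.2.2 LB4.1 10) = 13 := by decide +kernel

theorem cntB4_70 : countR 258930 3699 (traceTo LB4.2.1 LB4.2.2 LB4.1 10) = 16 := by decide +kernel

theorem cntB4_71 : countR 262629 3699 (traceTo LB4.2.1 LB4.2.2 LB4.1 10) = 17 := by decide +kernel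

theorem cntB4_72 : countR 266328 3699 (traceTo LB4.2.1 LB4.2.2 LB4.1 10) = 3 := by decide +kernel

theorem cntB4_73 : countR 270027 3699 (traceTo LB4.2.1 LB4.2.2 LB4.1 10) = 14 := by decide +kernel

theorem cntB4_74 : countR 273726 3699 (traceTo LB4.2.1 LB4.2.2 LB4.1 10) = 18 := by decide +kernel

theorem cntB4_75 : countR 277425 3699 (traceTo LB4.2.1 LB4.2.2 LB4.1 10) = 23 := by decide +kernel

theorem cntB4_76 : countR 281124 3699 (traceTo LB4.2.1 LB4.2.2 LB4.1 10) = 11 := by decide +kernel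

theorem cntB4_77 : countR 284823 3699 (traceTo LB4.2.1 LB4.2.2 LB4.1 10) = 15 := by decide +kernel

theorem cntB4_78 : countR 288522 3699 (traceTo LB4.2.1 LB4.2.2 LB4.1 10) = 10 := by decide +kernel

theorem cntB4_79 : countR 292221 3699 (traceTo LB4.2.1 LB4.2.2 LB4.1 10) = 14 := by decide +kernel


end Cfsg.Agent.Fi24Out
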