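import Cfsg.Agent.Lib.Lead.Fi24Out.CntB4_0
import Cfsg.Agent.Lib.Lead.Fi24Out.CntB4_1
import Cfsg.Agent.Lib.Lead.Fi24Out.CntB4_2
import Cfsg.Agent.Lib.Lead.Fi24Out.CntB4_3
import Cfsg.Agent.Lib.Lead.Fi24Out.CntB4_4

/-! # The outer automorphism group of Fi₂₄′: the number of points of the tree number 4 of the chain `B` (generated) -/

set_option autoImplicit false
set_option maxRecDepth 100000

namespace Cfsg.Agent.Fi24Out

open Cfsg.Agent.PF Cfsg.Agent.Lib.Helper6 Cfsg.Agent.Lib.Helper6.TC
open Cfsg.Agent.PL (Acts evalF)

/-- the number of points of the tree number 4 of the chain `B` -/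
theorem lenB4 : (orbitL 306936 LB4.2.1 LB4.2.2 LB4.1 10).length = 1152 := by
  rw [length_orbitL]
  exact (countR_append cntB4_0 (countR_append cntB4_1 (countR_append cntB4_2 (countR_append cntB4_3 (countR_append cntB4_4 (countR_append cntB4_5 (countR_append cntB4_6 (countR_append cntB4_7 (countR_append cntB4_8 (countR_append cntB4_9 (countR_append cntB4_10 (countR_append cntB4_11 (countR_append cntB4_12 (countR_append cntB4_13 (countR_append cntB4_14 (countR_append cntB4_15 (countR_append cntB4_16 (countR_append cntB4_17 (countR_append cntB4_18 (countR_append cntB4_19 (countR_append cntB4_20 (countR_append cntB4_21 (countR_append cntB4_22 (countR_append cntB4_23 (countR_append cntB4_24 (countR_append cntB4_25 (countR_append cntB4_26 (countR_append cntB4_27 (countR_append cntB4_28 (countR_append cntB4_29 (countR_append cntB4_30 (countR_append cntB4_31 (countR_append cntB4_32 (countR_append cntB4_33 (countR_append cntB4_34 (countR_append cntB4_35 (countR_append cntB4_36 (countR_append cntB4_37 (countR_append cntB4_38 (countR_append cntB4_39 (countR_append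 cntB4_40 (countR_append cntB4_41 (countR_append cntB4_42 (countR_append cntB4_43 (countR_append cntB4_44 (countR_append cntB4_45 (countR_append cntB4_46 (countR_append cntB4_47 (countR_append cntB4_48 (countR_append cntB4_49 (countR_append cntB4_50 (countR_append cntB4_51 (countR_append cntB4_52 (countR_append cntB4_53 (countR_append cntB4_54 (countR_append cntB4_55 (countR_append cntB4_56 (countR_append cntB4_57 (countR_append cntB4_58 (countR_append cntB4_59 (countR_append cntB4_60 (countR_append cntB4_61 (countR_append cntB4_62 (countR_append cntB4_63 (countR_append cntB4_64 (countR_append cntB4_65 (countR_append cntB4_66 (countR_append cntB4_67 (countR_append cntB4_68 (countR_append cntB4_69 (countR_append cntB4_70 (countR_append cntB4_71 (countR_append cntB4_72 (countR_append cntB4_73 (countR_append cntB4_74 (countR_append cntB4_75 (countR_append cntB4_76 (countR_append cntB4_77 (countR_append cntB4_78 (countR_append cntB4_79 (countR_append cntB4_80 (countR_append cntB4_81 (cntB4_82))))))))))))))))))))))))))))))))))))))))))))))))))))))))))))))))))))))))))))))))))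 :
    countR 0 (3699 + (3699 + (3699 + (3699 + (3699 + (3699 + (3699 + (3699 + (3699 + (3699 + (3699 + (3699 + (3699 + (3699 + (3699 + (3699 + (3699 + (3699 + (3699 + (3699 + (3699 + (3699 + (3699 + (3699 + (3699 + (3699 + (3699 + (3699 + (3699 + (3699 + (3699 + (3699 + (3699 + (3699 + (3699 + (3699 + (3699 + (3699 + (3699 + (3699 + (3699 + (3699 + (3699 + (3699 + (3699 + (3699 + (3699 + (3699 + (3699 + (3699 + (3699 + (3699 + (3699 + (3699 + (3699 + (3699 + (3699 + (3699 + (3699 + (3699 + (3699 + (3699 + (3699 + (3699 + (3699 + (3699 + (3699 + (3699 + (3699 + (3699 + (3699 + (3699 + (3699 + (3699 + (3699 + (3699 + (3699 + (3699 + (3699 + (3699 + (3699 + (3699 + (3618))))))))))))))))))))))))))))))))))))))))))))))))))))))))))))))))))))))))))))))))))) (traceTo LB4.2.1 LB4.2.2 LB4.1 10) = 13 + (11 + (7 + (10 + (14 + (17 + (12 + (4 + (19 + (11 + (8 + (15 + (10 + (10 + (14 + (12 + (16 + (14 + (15 + (11 + (12 + (16 + (25 + (8 + (13 + (14 + (12 + (11 + (17 + (12 + (14 + (6 + (19 + (14 + (10 + (17 + (17 + (18 + (14 + (19 + (10 + (22 + (14 + (16 + (17 +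 (14 + (9 + (17 + (10 + (20 + (18 + (12 + (8 + (18 + (13 + (14 + (18 + (17 + (10 + (15 + (12 + (17 + (12 + (23 + (22 + (17 + (12 + (14 + (15 + (13 + (16 + (17 + (3 + (14 + (18 + (23 + (11 + (15 + (10 + (14 + (8 + (12 + (11)))))))))))))))))))))))))))))))))))))))))))))))))))))))))))))))))))))))))))))))))))

end Cfsg.Agent.Fi24Out
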