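import Cfsg.Agent.Lib.Lead.Fi24Out.CntB5_0

/-! # The outer automorphism group of Fi₂₄′: the number of points of the tree number 5 of the chain `B` (generated) -/

set_option autoImplicit false
set_option maxRecDepth 100000

namespace Cfsg.Agent.Fi24Out

open Cfsg.Agent.PF Cfsg.Agent.Lib.Helper6 Cfsg.Agent.Lib.Helper6.TC
open Cfsg.Agent.PL (Acts evalF)

/-- the number of points of the tree number 5 of the chain `B` -/
theorem lenB5 : (orbitL 306936 LB5.2.1 LB5.2.2 LB5.1 10).length = 3 := by
  rw [length_orbitL]
  exact (countR_append cntB5_0 (countR_append cntB5_1 (countR_append cntB5_2 (countR_append cntB5_3 (countR_append cntB5_4 (countR_append cntB5_5 (countR_append cntB5_6 (countR_append cntB5_7 (countR_append cntB5_8 (countR_append cntB5_9 (countR_append cntB5_10 (countR_append cntB5_11 (countR_append cntB5_12 (countR_append cntB5_13 (countR_append cntB5_14 (countR_append cntB5_15 (countR_append cntB5_16 (countR_append cntB5_17 (cntB5_18)))))))))))))))))) :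
    countR 0 (16155 + (16155 + (16155 + (16155 + (16155 + (16155 + (16155 + (16155 + (16155 + (16155 + (16155 + (16155 + (16155 + (16155 + (16155 + (16155 + (16155 + (16155 + (16146))))))))))))))))))) (traceTo LB5.2.1 LB5.2.2 LB5.1 10) = 0 + (1 + (0 + (0 + (2 + (0 + (0 + (0 + (0 + (0 + (0 + (0 + (0 + (0 + (0 + (0 + (0 + (0 + (0)))))))))))))))))))

end Cfsg.Agent.Fi24Out
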