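import Cfsg.Agent.Lib.Lead.Fi24Out.CntB0
import Cfsg.Agent.Lib.Lead.Fi24Out.CntB1
import Cfsg.Agent.Lib.Lead.Fi24Out.CntB2
import Cfsg.Agent.Lib.Lead.Fi24Out.CntB3
import Cfsg.Agent.Lib.Lead.Fi24Out.CntB4
import Cfsg.Agent.Lib.Lead.Fi24Out.CntB5

/-! # The outer automorphism group of Fi₂₄′: the numbers of points of the trees of the chain `B` (generated) -/

set_option autoImplicit false
set_option maxRecDepth 100000

namespace Cfsg.Agent.Fi24Out

open Cfsg.Agent.PF Cfsg.Agent.Lib.Helper6 Cfsg.Agent.Lib.Helper6.TC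
open Cfsg.Agent.PL (Acts evalF)

theorem chk_countsB : (treeCounts 306936 10 (LB0 :: LsB)).prod = 1255205709190661721292800 := by
  have h : treeCounts 306936 10 (LB0 :: LsB) = [306936, 275264, 218400, 19683, 1152, 3] := by
    show [(orbitL 306936 LB0.2.1 LB0.2.2 LB0.1 10).length, (orbitL 306936 LB1.2.1 LB1.2.2 LB1.1 10).length, (orbitL 306936 LB2.2.1 LB2.2.2 LB2.1 10).length, (orbitL 306936 LB3.2.1 LB3.2.2 LB3.1 10).length, (orbitL 306936 LB4.2.1 LB4.2.2 LB4.1 10).length, (orbitL 306936 LB5.2.1 LB5.2.2 LB5.1 10).length] = _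
    rw [lenB0, lenB1, lenB2, lenB3, lenB4, lenB5]
  rw [h]
  rfl

end Cfsg.Agent.Fi24Out
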