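import Cfsg.Agent.Lib.Lead.Fi24Out.LevBD

/-! # The outer automorphism group of Fi₂₄′: the number of points of the tree number 0 of the chain `B`, slices (generated) -/

set_option autoImplicit false
set_option Elab.async false
set_option maxRecDepth 100000

namespace Cfsg.Agent.Fi24Out

open Cfsg.Agent.PF Cfsg.Agent.Lib.Helper6 Cfsg.Agent.Lib.Helper6.TC
open Cfsg.Agent.PL (Acts evalF)

theorem cntB0_20 : countR 109620 5481 (traceTo LB0.2.1 LB0.2.2 LB0.1 10) = 5481 := by decide +kernel

theorem cntB0_21 : countR 115101 5481 (traceTo LB0.2.1 LB0.2.2 LB0.1 10) = 5481 := by decide +kernel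

theorem cntB0_22 : countR 120582 5481 (traceTo LB0.2.1 LB0.2.2 LB0.1 10) = 5481 := by decide +kernel

theorem cntB0_23 : countR 126063 5481 (traceTo LB0.2.1 LB0.2.2 LB0.1 10) = 5481 := by decide +kernel

theorem cntB0_24 : countR 131544 5481 (traceTo LB0.2.1 LB0.2.2 LB0.1 10) = 5481 := by decide +kernel

theorem cntB0_25 : countR 137025 5481 (traceTo LB0.2.1 LB0.2.2 LB0.1 10) = 5481 := by decide +kernel

theorem cntB0_26 : countR 142506 5481 (traceTo LB0.2.1 LB0.2.2 LB0.1 10) = 5481 := by decide +kernel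

theorem cntB0_27 : countR 147987 5481 (traceTo LB0.2.1 LB0.2.2 LB0.1 10) = 5481 := by decide +kernel

theorem cntB0_28 : countR 153468 5481 (traceTo LB0.2.1 LB0.2.2 LB0.1 10) = 5481 := by decide +kernel

theorem cntB0_29 : countR 158949 5481 (traceTo LB0.2.1 LB0.2.2 LB0.1 10) = 5481 := by decide +kernel

theorem cntB0_30 : countR 164430 5481 (traceTo LB0.2.1 LB0.2.2 LB0.1 10) = 5481 := by decide +kernel

theorem cntB0_31 : countR 169911 5481 (traceTo LB0.2.1 LB0.2.2 LB0.1 10) = 5481 := by decide +kernel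

theorem cntB0_32 : countR 175392 5481 (traceTo LB0.2.1 LB0.2.2 LB0.1 10) = 5481 := by decide +kernel

theorem cntB0_33 : countR 180873 5481 (traceTo LB0.2.1 LB0.2.2 LB0.1 10) = 5481 := by decide +kernel

theorem cntB0_34 : countR 186354 5481 (traceTo LB0.2.1 LB0.2.2 LB0.1 10) = 5481 := by decide +kernel

theorem cntB0_35 : countR 191835 5481 (traceTo LB0.2.1 LB0.2.2 LB0.1 10) = 5481 := by decide +kernel

theorem cntB0_36 : countR 197316 5481 (traceTo LB0.2.1 LB0.2.2 LB0.1 10) = 5481 := by decide +kernel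

theorem cntB0_37 : countR 202797 5481 (traceTo LB0.2.1 LB0.2.2 LB0.1 10) = 5481 := by decide +kernel

theorem cntB0_38 : countR 208278 5481 (traceTo LB0.2.1 LB0.2.2 LB0.1 10) = 5481 := by decide +kernel

theorem cntB0_39 : countR 213759 5481 (traceTo LB0.2.1 LB0.2.2 LB0.1 10) = 5481 := by decide +kernel


end Cfsg.Agent.Fi24Out
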