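import Cfsg.Agent.Lib.Lead.Fi24Out.LevBD

/-! # The outer automorphism group of Fi₂₄′: the number of points of the tree number 0 of the chain `B`, slices (generated) -/

set_option autoImplicit false
set_option Elab.async false
set_option maxRecDepth 100000

namespace Cfsg.Agent.Fi24Out

open Cfsg.Agent.PF Cfsg.Agent.Lib.Helper6 Cfsg.Agent.Lib.Helper6.TC
open Cfsg.Agent.PL (Acts evalF)

theorem cntB0_40 : countR 219240 5481 (traceTo LB0.2.1 LB0.2.2 LB0.1 10) = 5481 := by decide +kernel

theorem cntB0_41 : countR 224721 5481 (traceTo LB0.2.1 LB0.2.2 LB0.1 10) = 5481 := by decide +kernel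

theorem cntB0_42 : countR 230202 5481 (traceTo LB0.2.1 LB0.2.2 LB0.1 10) = 5481 := by decide +kernel

theorem cntB0_43 : countR 235683 5481 (traceTo LB0.2.1 LB0.2.2 LB0.1 10) = 5481 := by decide +kernel

theorem cntB0_44 : countR 241164 5481 (traceTo LB0.2.1 LB0.2.2 LB0.1 10) = 5481 := by decide +kernel

theorem cntB0_45 : countR 246645 5481 (traceTo LB0.2.1 LB0.2.2 LB0.1 10) = 5481 := by decide +kernel

theorem cntB0_46 : countR 252126 5481 (traceTo LB0.2.1 LB0.2.2 LB0.1 10) = 5481 := by decide +kernel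

theorem cntB0_47 : countR 257607 5481 (traceTo LB0.2.1 LB0.2.2 LB0.1 10) = 5481 := by decide +kernel

theorem cntB0_48 : countR 263088 5481 (traceTo LB0.2.1 LB0.2.2 LB0.1 10) = 5481 := by decide +kernel

theorem cntB0_49 : countR 268569 5481 (traceTo LB0.2.1 LB0.2.2 LB0.1 10) = 5481 := by decide +kernel

theorem cntB0_50 : countR 274050 5481 (traceTo LB0.2.1 LB0.2.2 LB0.1 10) = 5481 := by decide +kernel

theorem cntB0_51 : countR 279531 5481 (traceTo LB0.2.1 LB0.2.2 LB0.1 10) = 5481 := by decide +kernel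

theorem cntB0_52 : countR 285012 5481 (traceTo LB0.2.1 LB0.2.2 LB0.1 10) = 5481 := by decide +kernel

theorem cntB0_53 : countR 290493 5481 (traceTo LB0.2.1 LB0.2.2 LB0.1 10) = 5481 := by decide +kernel

theorem cntB0_54 : countR 295974 5481 (traceTo LB0.2.1 LB0.2.2 LB0.1 10) = 5481 := by decide +kernel

theorem cntB0_55 : countR 301455 5481 (traceTo LB0.2.1 LB0.2.2 LB0.1 10) = 5481 := by decide +kernel


end Cfsg.Agent.Fi24Out
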