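import Cfsg.Agent.Lib.Lead.Fi24Out.CntB0_0
import Cfsg.Agent.Lib.Lead.Fi24Out.CntB0_1
import Cfsg.Agent.Lib.Lead.Fi24Out.CntB0_2

/-! # The outer automorphism group of Fi₂₄′: the number of points of the tree number 0 of the chain `B` (generated) -/

set_option autoImplicit false
set_option maxRecDepth 100000

namespace Cfsg.Agent.Fi24Out

open Cfsg.Agent.PF Cfsg.Agent.Lib.Helper6 Cfsg.Agent.Lib.Helper6.TC
open Cfsg.Agent.PL (Acts evalF)

/-- the number of points of the tree number 0 of the chain `B` -/
theorem lenB0 : (orbitL 306936 LB0.2.1 LB0.2.2 LB0.1 10).length = 306936 := by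
  rw [length_orbitL]
  exact (countR_append cntB0_0 (countR_append cntB0_1 (countR_append cntB0_2 (countR_append cntB0_3 (countR_append cntB0_4 (countR_append cntB0_5 (countR_append cntB0_6 (countR_append cntB0_7 (countR_append cntB0_8 (countR_append cntB0_9 (countR_append cntB0_10 (countR_append cntB0_11 (countR_append cntB0_12 (countR_append cntB0_13 (countR_append cntB0_14 (countR_append cntB0_15 (countR_append cntB0_16 (countR_append cntB0_17 (countR_append cntB0_18 (countR_append cntB0_19 (countR_append cntB0_20 (countR_append cntB0_21 (countR_append cntB0_22 (countR_append cntB0_23 (countR_append cntB0_24 (countR_append cntB0_25 (countR_append cntB0_26 (countR_append cntB0_27 (countR_append cntB0_28 (countR_append cntB0_29 (countR_append cntB0_30 (countR_append cntB0_31 (countR_append cntB0_32 (countR_append cntB0_33 (countR_append cntB0_34 (countR_append cntB0_35 (countR_append cntB0_36 (countR_append cntB0_37 (countR_append cntB0_38 (countR_append cntB0_39 (countR_append cntB0_40 (countR_append cntB0_41 (countR_append cntB0_42 (countR_append cntB0_43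 (countR_append cntB0_44 (countR_append cntB0_45 (countR_append cntB0_46 (countR_append cntB0_47 (countR_append cntB0_48 (countR_append cntB0_49 (countR_append cntB0_50 (countR_append cntB0_51 (countR_append cntB0_52 (countR_append cntB0_53 (countR_append cntB0_54 (cntB0_55))))))))))))))))))))))))))))))))))))))))))))))))))))))) :
    countR 0 (5481 + (5481 + (5481 + (5481 + (5481 + (5481 + (5481 + (5481 + (5481 + (5481 + (5481 + (5481 + (5481 + (5481 + (5481 + (5481 + (5481 + (5481 + (5481 + (5481 + (5481 + (5481 + (5481 + (5481 + (5481 + (5481 + (5481 + (5481 + (5481 + (5481 + (5481 + (5481 + (5481 + (5481 + (5481 + (5481 + (5481 + (5481 + (5481 + (5481 + (5481 + (5481 + (5481 + (5481 + (5481 + (5481 + (5481 + (5481 + (5481 + (5481 + (5481 + (5481 + (5481 + (5481 + (5481 + (5481)))))))))))))))))))))))))))))))))))))))))))))))))))))))) (traceTo LB0.2.1 LB0.2.2 LB0.1 10) = 5481 + (5481 + (5481 + (5481 + (5481 + (5481 + (5481 + (5481 + (5481 + (5481 + (5481 + (5481 + (5481 + (5481 + (5481 + (5481 + (5481 + (5481 + (5481 + (5481 + (5481 + (5481 + (5481 + (5481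 + (5481 + (5481 + (5481 + (5481 + (5481 + (5481 + (5481 + (5481 + (5481 + (5481 + (5481 + (5481 + (5481 + (5481 + (5481 + (5481 + (5481 + (5481 + (5481 + (5481 + (5481 + (5481 + (5481 + (5481 + (5481 + (5481 + (5481 + (5481 + (5481 + (5481 + (5481 + (5481))))))))))))))))))))))))))))))))))))))))))))))))))))))))

end Cfsg.Agent.Fi24Out
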