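import Cfsg.Agent.Lib.Lead.Fi24Out.LevBD

/-! # The outer automorphism group of Fi₂₄′: the number of points of the tree number 0 of the chain `B`, slices (generated) -/

set_option autoImplicit false
set_option Elab.async false
set_option maxRecDepth 100000

namespace Cfsg.Agent.Fi24Out

open Cfsg.Agent.PF Cfsg.Agent.Lib.Helper6 Cfsg.Agent.Lib.Helper6.TC
open Cfsg.Agent.PL (Acts evalF)

theorem cntB0_0 : countR 0 5481 (traceTo LB0.2.1 LB0.2.2 LB0.1 10) = 5481 := by decide +kernel

theorem cntB0_1 : countR 5481 5481 (traceTo LB0.2.1 LB0.2.2 LB0.1 10) = 5481 := by decide +kernel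

theorem cntB0_2 : countR 10962 5481 (traceTo LB0.2.1 LB0.2.2 LB0.1 10) = 5481 := by decide +kernel

theorem cntB0_3 : countR 16443 5481 (traceTo LB0.2.1 LB0.2.2 LB0.1 10) = 5481 := by decide +kernel

theorem cntB0_4 : countR 21924 5481 (traceTo LB0.2.1 LB0.2.2 LB0.1 10) = 5481 := by decide +kernel

theorem cntB0_5 : countR 27405 5481 (traceTo LB0.2.1 LB0.2.2 LB0.1 10) = 5481 := by decide +kernel

theorem cntB0_6 : countR 32886 5481 (traceTo LB0.2.1 LB0.2.2 LB0.1 10) = 5481 := by decide +kernel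

theorem cntB0_7 : countR 38367 5481 (traceTo LB0.2.1 LB0.2.2 LB0.1 10) = 5481 := by decide +kernel

theorem cntB0_8 : countR 43848 5481 (traceTo LB0.2.1 LB0.2.2 LB0.1 10) = 5481 := by decide +kernel

theorem cntB0_9 : countR 49329 5481 (traceTo LB0.2.1 LB0.2.2 LB0.1 10) = 5481 := by decide +kernel

theorem cntB0_10 : countR 54810 5481 (traceTo LB0.2.1 LB0.2.2 LB0.1 10) = 5481 := by decide +kernel

theorem cntB0_11 : countR 60291 5481 (traceTo LB0.2.1 LB0.2.2 LB0.1 10) = 5481 := by decide +kernel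

theorem cntB0_12 : countR 65772 5481 (traceTo LB0.2.1 LB0.2.2 LB0.1 10) = 5481 := by decide +kernel

theorem cntB0_13 : countR 71253 5481 (traceTo LB0.2.1 LB0.2.2 LB0.1 10) = 5481 := by decide +kernel

theorem cntB0_14 : countR 76734 5481 (traceTo LB0.2.1 LB0.2.2 LB0.1 10) = 5481 := by decide +kernel

theorem cntB0_15 : countR 82215 5481 (traceTo LB0.2.1 LB0.2.2 LB0.1 10) = 5481 := by decide +kernel

theorem cntB0_16 : countR 87696 5481 (traceTo LB0.2.1 LB0.2.2 LB0.1 10) = 5481 := by decide +kernel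

theorem cntB0_17 : countR 93177 5481 (traceTo LB0.2.1 LB0.2.2 LB0.1 10) = 5481 := by decide +kernel

theorem cntB0_18 : countR 98658 5481 (traceTo LB0.2.1 LB0.2.2 LB0.1 10) = 5481 := by decide +kernel

theorem cntB0_19 : countR 104139 5481 (traceTo LB0.2.1 LB0.2.2 LB0.1 10) = 5481 := by decide +kernel


end Cfsg.Agent.Fi24Out
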