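import Cfsg.Agent.Lib.Lead.Fi24Out.LevBD

/-! # The outer automorphism group of Fi₂₄′: the number of points of the tree number 3 of the chain `B`, slices (generated) -/

set_option autoImplicit false
set_option Elab.async false
set_option maxRecDepth 100000

namespace Cfsg.Agent.Fi24Out

open Cfsg.Agent.PF Cfsg.Agent.Lib.Helper6 Cfsg.Agent.Lib.Helper6.TC
open Cfsg.Agent.PL (Acts evalF)

theorem cntB3_0 : countR 0 3699 (traceTo LB3.2.1 LB3.2.2 LB3.1 10) = 159 := by decide +kernel

theorem cntB3_1 : countR 3699 3699 (traceTo LB3.2.1 LB3.2.2 LB3.1 10) = 196 := by decide +kernel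

theorem cntB3_2 : countR 7398 3699 (traceTo LB3.2.1 LB3.2.2 LB3.1 10) = 195 := by decide +kernel

theorem cntB3_3 : countR 11097 3699 (traceTo LB3.2.1 LB3.2.2 LB3.1 10) = 213 := by decide +kernel

theorem cntB3_4 : countR 14796 3699 (traceTo LB3.2.1 LB3.2.2 LB3.1 10) = 169 := by decide +kernel

theorem cntB3_5 : countR 18495 3699 (traceTo LB3.2.1 LB3.2.2 LB3.1 10) = 264 := by decide +kernel

theorem cntB3_6 : countR 22194 3699 (traceTo LB3.2.1 LB3.2.2 LB3.1 10) = 201 := by decide +kernel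

theorem cntB3_7 : countR 25893 3699 (traceTo LB3.2.1 LB3.2.2 LB3.1 10) = 229 := by decide +kernel

theorem cntB3_8 : countR 29592 3699 (traceTo LB3.2.1 LB3.2.2 LB3.1 10) = 182 := by decide +kernel

theorem cntB3_9 : countR 33291 3699 (traceTo LB3.2.1 LB3.2.2 LB3.1 10) = 254 := by decide +kernel

theorem cntB3_10 : countR 36990 3699 (traceTo LB3.2.1 LB3.2.2 LB3.1 10) = 206 := by decide +kernel

theorem cntB3_11 : countR 40689 3699 (traceTo LB3.2.1 LB3.2.2 LB3.1 10) = 273 := by decide +kernel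

theorem cntB3_12 : countR 44388 3699 (traceTo LB3.2.1 LB3.2.2 LB3.1 10) = 169 := by decide +kernel

theorem cntB3_13 : countR 48087 3699 (traceTo LB3.2.1 LB3.2.2 LB3.1 10) = 234 := by decide +kernel

theorem cntB3_14 : countR 51786 3699 (traceTo LB3.2.1 LB3.2.2 LB3.1 10) = 251 := by decide +kernel

theorem cntB3_15 : countR 55485 3699 (traceTo LB3.2.1 LB3.2.2 LB3.1 10) = 215 := by decide +kernel

theorem cntB3_16 : countR 59184 3699 (traceTo LB3.2.1 LB3.2.2 LB3.1 10) = 238 := by decide +kernel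

theorem cntB3_17 : countR 62883 3699 (traceTo LB3.2.1 LB3.2.2 LB3.1 10) = 236 := by decide +kernel

theorem cntB3_18 : countR 66582 3699 (traceTo LB3.2.1 LB3.2.2 LB3.1 10) = 265 := by decide +kernel

theorem cntB3_19 : countR 70281 3699 (traceTo LB3.2.1 LB3.2.2 LB3.1 10) = 167 := by decide +kernel


end Cfsg.Agent.Fi24Out
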