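import Cfsg.Agent.Lib.Lead.Fi24Out.LevBD

/-! # The outer automorphism group of Fi₂₄′: the number of points of the tree number 5 of the chain `B`, slices (generated) -/

set_option autoImplicit false
set_option Elab.async false
set_option maxRecDepth 100000

namespace Cfsg.Agent.Fi24Out

open Cfsg.Agent.PF Cfsg.Agent.Lib.Helper6 Cfsg.Agent.Lib.Helper6.TC
open Cfsg.Agent.PL (Acts evalF)

theorem cntB5_0 : countR 0 16155 (traceTo LB5.2.1 LB5.2.2 LB5.1 10) = 0 := by decide +kernel

theorem cntB5_1 : countR 16155 16155 (traceTo LB5.2.1 LB5.2.2 LB5.1 10) = 1 := by decide +kernel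

theorem cntB5_2 : countR 32310 16155 (traceTo LB5.2.1 LB5.2.2 LB5.1 10) = 0 := by decide +kernel

theorem cntB5_3 : countR 48465 16155 (traceTo LB5.2.1 LB5.2.2 LB5.1 10) = 0 := by decide +kernel

theorem cntB5_4 : countR 64620 16155 (traceTo LB5.2.1 LB5.2.2 LB5.1 10) = 2 := by decide +kernel

theorem cntB5_5 : countR 80775 16155 (traceTo LB5.2.1 LB5.2.2 LB5.1 10) = 0 := by decide +kernel

theorem cntB5_6 : countR 96930 16155 (traceTo LB5.2.1 LB5.2.2 LB5.1 10) = 0 := by decide +kernel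

theorem cntB5_7 : countR 113085 16155 (traceTo LB5.2.1 LB5.2.2 LB5.1 10) = 0 := by decide +kernel

theorem cntB5_8 : countR 129240 16155 (traceTo LB5.2.1 LB5.2.2 LB5.1 10) = 0 := by decide +kernel

theorem cntB5_9 : countR 145395 16155 (traceTo LB5.2.1 LB5.2.2 LB5.1 10) = 0 := by decide +kernel

theorem cntB5_10 : countR 161550 16155 (traceTo LB5.2.1 LB5.2.2 LB5.1 10) = 0 := by decide +kernel

theorem cntB5_11 : countR 177705 16155 (traceTo LB5.2.1 LB5.2.2 LB5.1 10) = 0 := by decide +kernel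

theorem cntB5_12 : countR 193860 16155 (traceTo LB5.2.1 LB5.2.2 LB5.1 10) = 0 := by decide +kernel

theorem cntB5_13 : countR 210015 16155 (traceTo LB5.2.1 LB5.2.2 LB5.1 10) = 0 := by decide +kernel

theorem cntB5_14 : countR 226170 16155 (traceTo LB5.2.1 LB5.2.2 LB5.1 10) = 0 := by decide +kernel

theorem cntB5_15 : countR 242325 16155 (traceTo LB5.2.1 LB5.2.2 LB5.1 10) = 0 := by decide +kernel

theorem cntB5_16 : countR 258480 16155 (traceTo LB5.2.1 LB5.2.2 LB5.1 10) = 0 := by decide +kernel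

theorem cntB5_17 : countR 274635 16155 (traceTo LB5.2.1 LB5.2.2 LB5.1 10) = 0 := by decide +kernel

theorem cntB5_18 : countR 290790 16146 (traceTo LB5.2.1 LB5.2.2 LB5.1 10) = 0 := by decide +kernel


end Cfsg.Agent.Fi24Out
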