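import Cfsg.Agent.Lib.Lead.Fi24Out.LevGD

/-! # The outer automorphism group of Fi₂₄′: the number of points of the tree number 1 of the chain `G`, slices (generated) -/

set_option autoImplicit false
set_option Elab.async false
set_option maxRecDepth 100000

namespace Cfsg.Agent.Fi24Out

open Cfsg.Agent.PF Cfsg.Agent.Lib.Helper6 Cfsg.Agent.Lib.Helper6.TC
open Cfsg.Agent.PL (Acts evalF)

theorem cntG1_20 : countR 82960 4148 (traceTo LG1.2.1 LG1.2.2 LG1.1 10) = 4148 := by decide +kernel

theorem cntG1_21 : countR 87108 4148 (traceTo LG1.2.1 LG1.2.2 LG1.1 10) = 2399 := by decide +kernel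

theorem cntG1_22 : countR 91256 4148 (traceTo LG1.2.1 LG1.2.2 LG1.1 10) = 4148 := by decide +kernel

theorem cntG1_23 : countR 95404 4148 (traceTo LG1.2.1 LG1.2.2 LG1.1 10) = 3805 := by decide +kernel

theorem cntG1_24 : countR 99552 4148 (traceTo LG1.2.1 LG1.2.2 LG1.1 10) = 4148 := by decide +kernel

theorem cntG1_25 : countR 103700 4148 (traceTo LG1.2.1 LG1.2.2 LG1.1 10) = 3168 := by decide +kernel

theorem cntG1_26 : countR 107848 4148 (traceTo LG1.2.1 LG1.2.2 LG1.1 10) = 3443 := by decide +kernel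

theorem cntG1_27 : countR 111996 4148 (traceTo LG1.2.1 LG1.2.2 LG1.1 10) = 4118 := by decide +kernel

theorem cntG1_28 : countR 116144 4148 (traceTo LG1.2.1 LG1.2.2 LG1.1 10) = 3868 := by decide +kernel

theorem cntG1_29 : countR 120292 4148 (traceTo LG1.2.1 LG1.2.2 LG1.1 10) = 4148 := by decide +kernel

theorem cntG1_30 : countR 124440 4148 (traceTo LG1.2.1 LG1.2.2 LG1.1 10) = 2634 := by decide +kernel

theorem cntG1_31 : countR 128588 4148 (traceTo LG1.2.1 LG1.2.2 LG1.1 10) = 4148 := by decide +kernel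

theorem cntG1_32 : countR 132736 4148 (traceTo LG1.2.1 LG1.2.2 LG1.1 10) = 3878 := by decide +kernel

theorem cntG1_33 : countR 136884 4148 (traceTo LG1.2.1 LG1.2.2 LG1.1 10) = 4148 := by decide +kernel

theorem cntG1_34 : countR 141032 4148 (traceTo LG1.2.1 LG1.2.2 LG1.1 10) = 4148 := by decide +kernel

theorem cntG1_35 : countR 145180 4148 (traceTo LG1.2.1 LG1.2.2 LG1.1 10) = 2976 := by decide +kernel

theorem cntG1_36 : countR 149328 4148 (traceTo LG1.2.1 LG1.2.2 LG1.1 10) = 3963 := by decide +kernel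

theorem cntG1_37 : countR 153476 4148 (traceTo LG1.2.1 LG1.2.2 LG1.1 10) = 4148 := by decide +kernel

theorem cntG1_38 : countR 157624 4148 (traceTo LG1.2.1 LG1.2.2 LG1.1 10) = 3917 := by decide +kernel

theorem cntG1_39 : countR 161772 4148 (traceTo LG1.2.1 LG1.2.2 LG1.1 10) = 4148 := by decide +kernel


end Cfsg.Agent.Fi24Out
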