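import Cfsg.Agent.Lib.Lead.Fi24Out.LevGD

/-! # The outer automorphism group of Fi₂₄′: the number of points of the tree number 2 of the chain `G`, slices (generated) -/

set_option autoImplicit false
set_option Elab.async false
set_option maxRecDepth 100000

namespace Cfsg.Agent.Fi24Out

open Cfsg.Agent.PF Cfsg.Agent.Lib.Helper6 Cfsg.Agent.Lib.Helper6.TC
open Cfsg.Agent.PL (Acts evalF)

theorem cntG2_20 : countR 73980 3699 (traceTo LG2.2.1 LG2.2.2 LG2.1 10) = 2731 := by decide +kernel

theorem cntG2_21 : countR 77679 3699 (traceTo LG2.2.1 LG2.2.2 LG2.1 10) = 2671 := by decide +kernel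

theorem cntG2_22 : countR 81378 3699 (traceTo LG2.2.1 LG2.2.2 LG2.1 10) = 2961 := by decide +kernel

theorem cntG2_23 : countR 85077 3699 (traceTo LG2.2.1 LG2.2.2 LG2.1 10) = 2841 := by decide +kernel

theorem cntG2_24 : countR 88776 3699 (traceTo LG2.2.1 LG2.2.2 LG2.1 10) = 1642 := by decide +kernel

theorem cntG2_25 : countR 92475 3699 (traceTo LG2.2.1 LG2.2.2 LG2.1 10) = 2961 := by decide +kernel

theorem cntG2_26 : countR 96174 3699 (traceTo LG2.2.1 LG2.2.2 LG2.1 10) = 2693 := by decide +kernel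

theorem cntG2_27 : countR 99873 3699 (traceTo LG2.2.1 LG2.2.2 LG2.1 10) = 2928 := by decide +kernel

theorem cntG2_28 : countR 103572 3699 (traceTo LG2.2.1 LG2.2.2 LG2.1 10) = 2605 := by decide +kernel

theorem cntG2_29 : countR 107271 3699 (traceTo LG2.2.1 LG2.2.2 LG2.1 10) = 1952 := by decide +kernel

theorem cntG2_30 : countR 110970 3699 (traceTo LG2.2.1 LG2.2.2 LG2.1 10) = 2925 := by decide +kernel

theorem cntG2_31 : countR 114669 3699 (traceTo LG2.2.1 LG2.2.2 LG2.1 10) = 2691 := by decide +kernel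

theorem cntG2_32 : countR 118368 3699 (traceTo LG2.2.1 LG2.2.2 LG2.1 10) = 2933 := by decide +kernel

theorem cntG2_33 : countR 122067 3699 (traceTo LG2.2.1 LG2.2.2 LG2.1 10) = 2946 := by decide +kernel

theorem cntG2_34 : countR 125766 3699 (traceTo LG2.2.1 LG2.2.2 LG2.1 10) = 1751 := by decide +kernel

theorem cntG2_35 : countR 129465 3699 (traceTo LG2.2.1 LG2.2.2 LG2.1 10) = 2931 := by decide +kernel

theorem cntG2_36 : countR 133164 3699 (traceTo LG2.2.1 LG2.2.2 LG2.1 10) = 2737 := by decide +kernel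

theorem cntG2_37 : countR 136863 3699 (traceTo LG2.2.1 LG2.2.2 LG2.1 10) = 2960 := by decide +kernel

theorem cntG2_38 : countR 140562 3699 (traceTo LG2.2.1 LG2.2.2 LG2.1 10) = 2917 := by decide +kernel

theorem cntG2_39 : countR 144261 3699 (traceTo LG2.2.1 LG2.2.2 LG2.1 10) = 2961 := by decide +kernel


end Cfsg.Agent.Fi24Out
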