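import Cfsg.Agent.Lib.Lead.Fi24Out.LevGD

/-! # The outer automorphism group of Fi₂₄′: the number of points of the tree number 2 of the chain `G`, slices (generated) -/

set_option autoImplicit false
set_option Elab.async false
set_option maxRecDepth 100000

namespace Cfsg.Agent.Fi24Out

open Cfsg.Agent.PF Cfsg.Agent.Lib.Helper6 Cfsg.Agent.Lib.Helper6.TC
open Cfsg.Agent.PL (Acts evalF)

theorem cntG2_40 : countR 147960 3699 (traceTo LG2.2.1 LG2.2.2 LG2.1 10) = 1851 := by decide +kernel

theorem cntG2_41 : countR 151659 3699 (traceTo LG2.2.1 LG2.2.2 LG2.1 10) = 2953 := by decide +kernel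

theorem cntG2_42 : countR 155358 3699 (traceTo LG2.2.1 LG2.2.2 LG2.1 10) = 2762 := by decide +kernel

theorem cntG2_43 : countR 159057 3699 (traceTo LG2.2.1 LG2.2.2 LG2.1 10) = 2958 := by decide +kernel

theorem cntG2_44 : countR 162756 3699 (traceTo LG2.2.1 LG2.2.2 LG2.1 10) = 2895 := by decide +kernel

theorem cntG2_45 : countR 166455 3699 (traceTo LG2.2.1 LG2.2.2 LG2.1 10) = 2938 := by decide +kernel

theorem cntG2_46 : countR 170154 3699 (traceTo LG2.2.1 LG2.2.2 LG2.1 10) = 1964 := by decide +kernel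

theorem cntG2_47 : countR 173853 3699 (traceTo LG2.2.1 LG2.2.2 LG2.1 10) = 2948 := by decide +kernel

theorem cntG2_48 : countR 177552 3699 (traceTo LG2.2.1 LG2.2.2 LG2.1 10) = 2934 := by decide +kernel

theorem cntG2_49 : countR 181251 3699 (traceTo LG2.2.1 LG2.2.2 LG2.1 10) = 2782 := by decide +kernel

theorem cntG2_50 : countR 184950 3699 (traceTo LG2.2.1 LG2.2.2 LG2.1 10) = 2947 := by decide +kernel

theorem cntG2_51 : countR 188649 3699 (traceTo LG2.2.1 LG2.2.2 LG2.1 10) = 2905 := by decide +kernel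

theorem cntG2_52 : countR 192348 3699 (traceTo LG2.2.1 LG2.2.2 LG2.1 10) = 2364 := by decide +kernel

theorem cntG2_53 : countR 196047 3699 (traceTo LG2.2.1 LG2.2.2 LG2.1 10) = 2692 := by decide +kernel

theorem cntG2_54 : countR 199746 3699 (traceTo LG2.2.1 LG2.2.2 LG2.1 10) = 2949 := by decide +kernel

theorem cntG2_55 : countR 203445 3699 (traceTo LG2.2.1 LG2.2.2 LG2.1 10) = 2795 := by decide +kernel

theorem cntG2_56 : countR 207144 3699 (traceTo LG2.2.1 LG2.2.2 LG2.1 10) = 2939 := by decide +kernel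

theorem cntG2_57 : countR 210843 3699 (traceTo LG2.2.1 LG2.2.2 LG2.1 10) = 2935 := by decide +kernel

theorem cntG2_58 : countR 214542 3699 (traceTo LG2.2.1 LG2.2.2 LG2.1 10) = 2932 := by decide +kernel

theorem cntG2_59 : countR 218241 3699 (traceTo LG2.2.1 LG2.2.2 LG2.1 10) = 2153 := by decide +kernel


end Cfsg.Agent.Fi24Out
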