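import Cfsg.Agent.Lib.Lead.Fi24Out.LevGD

/-! # The outer automorphism group of Fi₂₄′: the number of points of the tree number 2 of the chain `G`, slices (generated) -/

set_option autoImplicit false
set_option Elab.async false
set_option maxRecDepth 100000

namespace Cfsg.Agent.Fi24Out

open Cfsg.Agent.PF Cfsg.Agent.Lib.Helper6 Cfsg.Agent.Lib.Helper6.TC
open Cfsg.Agent.PL (Acts evalF)

theorem cntG2_60 : countR 221940 3699 (traceTo LG2.2.1 LG2.2.2 LG2.1 10) = 2935 := by decide +kernel

theorem cntG2_61 : countR 225639 3699 (traceTo LG2.2.1 LG2.2.2 LG2.1 10) = 2936 := by decide +kernel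

theorem cntG2_62 : countR 229338 3699 (traceTo LG2.2.1 LG2.2.2 LG2.1 10) = 2772 := by decide +kernel

theorem cntG2_63 : countR 233037 3699 (traceTo LG2.2.1 LG2.2.2 LG2.1 10) = 2962 := by decide +kernel

theorem cntG2_64 : countR 236736 3699 (traceTo LG2.2.1 LG2.2.2 LG2.1 10) = 2942 := by decide +kernel

theorem cntG2_65 : countR 240435 3699 (traceTo LG2.2.1 LG2.2.2 LG2.1 10) = 2924 := by decide +kernel

theorem cntG2_66 : countR 244134 3699 (traceTo LG2.2.1 LG2.2.2 LG2.1 10) = 2141 := by decide +kernel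

theorem cntG2_67 : countR 247833 3699 (traceTo LG2.2.1 LG2.2.2 LG2.1 10) = 2958 := by decide +kernel

theorem cntG2_68 : countR 251532 3699 (traceTo LG2.2.1 LG2.2.2 LG2.1 10) = 2910 := by decide +kernel

theorem cntG2_69 : countR 255231 3699 (traceTo LG2.2.1 LG2.2.2 LG2.1 10) = 2784 := by decide +kernel

theorem cntG2_70 : countR 258930 3699 (traceTo LG2.2.1 LG2.2.2 LG2.1 10) = 2962 := by decide +kernel

theorem cntG2_71 : countR 262629 3699 (traceTo LG2.2.1 LG2.2.2 LG2.1 10) = 2917 := by decide +kernel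

theorem cntG2_72 : countR 266328 3699 (traceTo LG2.2.1 LG2.2.2 LG2.1 10) = 2152 := by decide +kernel

theorem cntG2_73 : countR 270027 3699 (traceTo LG2.2.1 LG2.2.2 LG2.1 10) = 2963 := by decide +kernel

theorem cntG2_74 : countR 273726 3699 (traceTo LG2.2.1 LG2.2.2 LG2.1 10) = 2826 := by decide +kernel

theorem cntG2_75 : countR 277425 3699 (traceTo LG2.2.1 LG2.2.2 LG2.1 10) = 2859 := by decide +kernel

theorem cntG2_76 : countR 281124 3699 (traceTo LG2.2.1 LG2.2.2 LG2.1 10) = 2951 := by decide +kernel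

theorem cntG2_77 : countR 284823 3699 (traceTo LG2.2.1 LG2.2.2 LG2.1 10) = 2182 := by decide +kernel

theorem cntG2_78 : countR 288522 3699 (traceTo LG2.2.1 LG2.2.2 LG2.1 10) = 2826 := by decide +kernel

theorem cntG2_79 : countR 292221 3699 (traceTo LG2.2.1 LG2.2.2 LG2.1 10) = 2919 := by decide +kernel


end Cfsg.Agent.Fi24Out
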