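import Cfsg.Agent.Lib.Lead.Fi24Out.CntG2_0
import Cfsg.Agent.Lib.Lead.Fi24Out.CntG2_1
import Cfsg.Agent.Lib.Lead.Fi24Out.CntG2_2
import Cfsg.Agent.Lib.Lead.Fi24Out.CntG2_3
import Cfsg.Agent.Lib.Lead.Fi24Out.CntG2_4

/-! # The outer automorphism group of Fi₂₄′: the number of points of the tree number 2 of the chain `G` (generated) -/

set_option autoImplicit false
set_option maxRecDepth 100000

namespace Cfsg.Agent.Fi24Out

open Cfsg.Agent.PF Cfsg.Agent.Lib.Helper6 Cfsg.Agent.Lib.Helper6.TC
open Cfsg.Agent.PL (Acts evalF)

/-- the number of points of the tree number 2 of the chain `G` -/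
theorem lenG2 : (orbitL 306936 LG2.2.1 LG2.2.2 LG2.1 10).length = 218400 := by
  rw [length_orbitL]
  exact (countR_append cntG2_0 (countR_append cntG2_1 (countR_append cntG2_2 (countR_append cntG2_3 (countR_append cntG2_4 (countR_append cntG2_5 (countR_append cntG2_6 (countR_append cntG2_7 (countR_append cntG2_8 (countR_append cntG2_9 (countR_append cntG2_10 (countR_append cntG2_11 (countR_append cntG2_12 (countR_append cntG2_13 (countR_append cntG2_14 (countR_append cntG2_15 (countR_append cntG2_16 (countR_append cntG2_17 (countR_append cntG2_18 (countR_append cntG2_19 (countR_append cntG2_20 (countR_append cntG2_21 (countR_append cntG2_22 (countR_append cntG2_23 (countR_append cntG2_24 (countR_append cntG2_25 (countR_append cntG2_26 (countR_append cntG2_27 (countR_append cntG2_28 (countR_append cntG2_29 (countR_append cntG2_30 (countR_append cntG2_31 (countR_append cntG2_32 (countR_append cntG2_33 (countR_append cntG2_34 (countR_append cntG2_35 (countR_append cntG2_36 (countR_append cntG2_37 (countR_append cntG2_38 (countR_append cntG2_39 (countR_append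 cntG2_40 (countR_append cntG2_41 (countR_append cntG2_42 (countR_append cntG2_43 (countR_append cntG2_44 (countR_append cntG2_45 (countR_append cntG2_46 (countR_append cntG2_47 (countR_append cntG2_48 (countR_append cntG2_49 (countR_append cntG2_50 (countR_append cntG2_51 (countR_append cntG2_52 (countR_append cntG2_53 (countR_append cntG2_54 (countR_append cntG2_55 (countR_append cntG2_56 (countR_append cntG2_57 (countR_append cntG2_58 (countR_append cntG2_59 (countR_append cntG2_60 (countR_append cntG2_61 (countR_append cntG2_62 (countR_append cntG2_63 (countR_append cntG2_64 (countR_append cntG2_65 (countR_append cntG2_66 (countR_append cntG2_67 (countR_append cntG2_68 (countR_append cntG2_69 (countR_append cntG2_70 (countR_append cntG2_71 (countR_append cntG2_72 (countR_append cntG2_73 (countR_append cntG2_74 (countR_append cntG2_75 (countR_append cntG2_76 (countR_append cntG2_77 (countR_append cntG2_78 (countR_append cntG2_79 (countR_append cntG2_80 (countR_append cntG2_81 (cntG2_82))))))))))))))))))))))))))))))))))))))))))))))))))))))))))))))))))))))))))))))))))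 :
    countR 0 (3699 + (3699 + (3699 + (3699 + (3699 + (3699 + (3699 + (3699 + (3699 + (3699 + (3699 + (3699 + (3699 + (3699 + (3699 + (3699 + (3699 + (3699 + (3699 + (3699 + (3699 + (3699 + (3699 + (3699 + (3699 + (3699 + (3699 + (3699 + (3699 + (3699 + (3699 + (3699 + (3699 + (3699 + (3699 + (3699 + (3699 + (3699 + (3699 + (3699 + (3699 + (3699 + (3699 + (3699 + (3699 + (3699 + (3699 + (3699 + (3699 + (3699 + (3699 + (3699 + (3699 + (3699 + (3699 + (3699 + (3699 + (3699 + (3699 + (3699 + (3699 + (3699 + (3699 + (3699 + (3699 + (3699 + (3699 + (3699 + (3699 + (3699 + (3699 + (3699 + (3699 + (3699 + (3699 + (3699 + (3699 + (3699 + (3699 + (3699 + (3699 + (3699 + (3618))))))))))))))))))))))))))))))))))))))))))))))))))))))))))))))))))))))))))))))))))) (traceTo LG2.2.1 LG2.2.2 LG2.1 10) = 1843 + (2172 + (2041 + (2364 + (2297 + (2814 + (2116 + (2347 + (2452 + (2733 + (2117 + (2726 + (1855 + (2901 + (2731 + (2311 + (2384 + (2642 + (2951 + (1820 + (2731 + (2671 + (2961 + (2841 + (1642 + (2961 + (2693 + (2928 + (2605 + (1952 + (2925 + (2691 + (2933 + (2946 + (1751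 + (2931 + (2737 + (2960 + (2917 + (2961 + (1851 + (2953 + (2762 + (2958 + (2895 + (2938 + (1964 + (2948 + (2934 + (2782 + (2947 + (2905 + (2364 + (2692 + (2949 + (2795 + (2939 + (2935 + (2932 + (2153 + (2935 + (2936 + (2772 + (2962 + (2942 + (2924 + (2141 + (2958 + (2910 + (2784 + (2962 + (2917 + (2152 + (2963 + (2826 + (2859 + (2951 + (2182 + (2826 + (2919 + (2317 + (2414 + (1898)))))))))))))))))))))))))))))))))))))))))))))))))))))))))))))))))))))))))))))))))))

end Cfsg.Agent.Fi24Out
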