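import Cfsg.Agent.Lib.Lead.Fi24Out.LevGD

/-! # The outer automorphism group of Fi₂₄′: the number of points of the tree number 3 of the chain `G`, slices (generated) -/

set_option autoImplicit false
set_option Elab.async false
set_option maxRecDepth 100000

namespace Cfsg.Agent.Fi24Out

open Cfsg.Agent.PF Cfsg.Agent.Lib.Helper6 Cfsg.Agent.Lib.Helper6.TC
open Cfsg.Agent.PL (Acts evalF)

theorem cntG3_20 : countR 66020 3301 (traceTo LG3.2.1 LG3.2.2 LG3.1 10) = 1132 := by decide +kernel

theorem cntG3_21 : countR 69321 3301 (traceTo LG3.2.1 LG3.2.2 LG3.1 10) = 1078 := by decide +kernel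

theorem cntG3_22 : countR 72622 3301 (traceTo LG3.2.1 LG3.2.2 LG3.1 10) = 646 := by decide +kernel

theorem cntG3_23 : countR 75923 3301 (traceTo LG3.2.1 LG3.2.2 LG3.1 10) = 1153 := by decide +kernel

theorem cntG3_24 : countR 79224 3301 (traceTo LG3.2.1 LG3.2.2 LG3.1 10) = 986 := by decide +kernel

theorem cntG3_25 : countR 82525 3301 (traceTo LG3.2.1 LG3.2.2 LG3.1 10) = 1111 := by decide +kernel

theorem cntG3_26 : countR 85826 3301 (traceTo LG3.2.1 LG3.2.2 LG3.1 10) = 960 := by decide +kernel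

theorem cntG3_27 : countR 89127 3301 (traceTo LG3.2.1 LG3.2.2 LG3.1 10) = 691 := by decide +kernel

theorem cntG3_28 : countR 92428 3301 (traceTo LG3.2.1 LG3.2.2 LG3.1 10) = 1090 := by decide +kernel

theorem cntG3_29 : countR 95729 3301 (traceTo LG3.2.1 LG3.2.2 LG3.1 10) = 1015 := by decide +kernel

theorem cntG3_30 : countR 99030 3301 (traceTo LG3.2.1 LG3.2.2 LG3.1 10) = 1107 := by decide +kernel

theorem cntG3_31 : countR 102331 3301 (traceTo LG3.2.1 LG3.2.2 LG3.1 10) = 1179 := by decide +kernel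

theorem cntG3_32 : countR 105632 3301 (traceTo LG3.2.1 LG3.2.2 LG3.1 10) = 592 := by decide +kernel

theorem cntG3_33 : countR 108933 3301 (traceTo LG3.2.1 LG3.2.2 LG3.1 10) = 1163 := by decide +kernel

theorem cntG3_34 : countR 112234 3301 (traceTo LG3.2.1 LG3.2.2 LG3.1 10) = 1124 := by decide +kernel

theorem cntG3_35 : countR 115535 3301 (traceTo LG3.2.1 LG3.2.2 LG3.1 10) = 1035 := by decide +kernel

theorem cntG3_36 : countR 118836 3301 (traceTo LG3.2.1 LG3.2.2 LG3.1 10) = 1117 := by decide +kernel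

theorem cntG3_37 : countR 122137 3301 (traceTo LG3.2.1 LG3.2.2 LG3.1 10) = 1119 := by decide +kernel

theorem cntG3_38 : countR 125438 3301 (traceTo LG3.2.1 LG3.2.2 LG3.1 10) = 629 := by decide +kernel

theorem cntG3_39 : countR 128739 3301 (traceTo LG3.2.1 LG3.2.2 LG3.1 10) = 1118 := by decide +kernel


end Cfsg.Agent.Fi24Out
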