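import Cfsg.Agent.Lib.Lead.Fi24Out.LevGD

/-! # The outer automorphism group of Fi₂₄′: the number of points of the tree number 3 of the chain `G`, slices (generated) -/

set_option autoImplicit false
set_option Elab.async false
set_option maxRecDepth 100000

namespace Cfsg.Agent.Fi24Out

open Cfsg.Agent.PF Cfsg.Agent.Lib.Helper6 Cfsg.Agent.Lib.Helper6.TC
open Cfsg.Agent.PL (Acts evalF)

theorem cntG3_40 : countR 132040 3301 (traceTo LG3.2.1 LG3.2.2 LG3.1 10) = 1107 := by decide +kernel

theorem cntG3_41 : countR 135341 3301 (traceTo LG3.2.1 LG3.2.2 LG3.1 10) = 1001 := by decide +kernel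

theorem cntG3_42 : countR 138642 3301 (traceTo LG3.2.1 LG3.2.2 LG3.1 10) = 1136 := by decide +kernel

theorem cntG3_43 : countR 141943 3301 (traceTo LG3.2.1 LG3.2.2 LG3.1 10) = 1154 := by decide +kernel

theorem cntG3_44 : countR 145244 3301 (traceTo LG3.2.1 LG3.2.2 LG3.1 10) = 971 := by decide +kernel

theorem cntG3_45 : countR 148545 3301 (traceTo LG3.2.1 LG3.2.2 LG3.1 10) = 807 := by decide +kernel

theorem cntG3_46 : countR 151846 3301 (traceTo LG3.2.1 LG3.2.2 LG3.1 10) = 1135 := by decide +kernel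

theorem cntG3_47 : countR 155147 3301 (traceTo LG3.2.1 LG3.2.2 LG3.1 10) = 1133 := by decide +kernel

theorem cntG3_48 : countR 158448 3301 (traceTo LG3.2.1 LG3.2.2 LG3.1 10) = 1035 := by decide +kernel

theorem cntG3_49 : countR 161749 3301 (traceTo LG3.2.1 LG3.2.2 LG3.1 10) = 1162 := by decide +kernel

theorem cntG3_50 : countR 165050 3301 (traceTo LG3.2.1 LG3.2.2 LG3.1 10) = 1081 := by decide +kernel

theorem cntG3_51 : countR 168351 3301 (traceTo LG3.2.1 LG3.2.2 LG3.1 10) = 859 := by decide +kernel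

theorem cntG3_52 : countR 171652 3301 (traceTo LG3.2.1 LG3.2.2 LG3.1 10) = 899 := by decide +kernel

theorem cntG3_53 : countR 174953 3301 (traceTo LG3.2.1 LG3.2.2 LG3.1 10) = 1159 := by decide +kernel

theorem cntG3_54 : countR 178254 3301 (traceTo LG3.2.1 LG3.2.2 LG3.1 10) = 1084 := by decide +kernel

theorem cntG3_55 : countR 181555 3301 (traceTo LG3.2.1 LG3.2.2 LG3.1 10) = 1030 := by decide +kernel

theorem cntG3_56 : countR 184856 3301 (traceTo LG3.2.1 LG3.2.2 LG3.1 10) = 1157 := by decide +kernel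

theorem cntG3_57 : countR 188157 3301 (traceTo LG3.2.1 LG3.2.2 LG3.1 10) = 1113 := by decide +kernel

theorem cntG3_58 : countR 191458 3301 (traceTo LG3.2.1 LG3.2.2 LG3.1 10) = 1132 := by decide +kernel

theorem cntG3_59 : countR 194759 3301 (traceTo LG3.2.1 LG3.2.2 LG3.1 10) = 709 := by decide +kernel


end Cfsg.Agent.Fi24Out
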