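import Cfsg.Agent.Lib.Lead.Fi24Out.LevGD

/-! # The outer automorphism group of Fi₂₄′: the number of points of the tree number 3 of the chain `G`, slices (generated) -/

set_option autoImplicit false
set_option Elab.async false
set_option maxRecDepth 100000

namespace Cfsg.Agent.Fi24Out

open Cfsg.Agent.PF Cfsg.Agent.Lib.Helper6 Cfsg.Agent.Lib.Helper6.TC
open Cfsg.Agent.PL (Acts evalF)

theorem cntG3_60 : countR 198060 3301 (traceTo LG3.2.1 LG3.2.2 LG3.1 10) = 1162 := by decide +kernel

theorem cntG3_61 : countR 201361 3301 (traceTo LG3.2.1 LG3.2.2 LG3.1 10) = 1157 := by decide +kernel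

theorem cntG3_62 : countR 204662 3301 (traceTo LG3.2.1 LG3.2.2 LG3.1 10) = 1044 := by decide +kernel

theorem cntG3_63 : countR 207963 3301 (traceTo LG3.2.1 LG3.2.2 LG3.1 10) = 1106 := by decide +kernel

theorem cntG3_64 : countR 211264 3301 (traceTo LG3.2.1 LG3.2.2 LG3.1 10) = 1111 := by decide +kernel

theorem cntG3_65 : countR 214565 3301 (traceTo LG3.2.1 LG3.2.2 LG3.1 10) = 1116 := by decide +kernel

theorem cntG3_66 : countR 217866 3301 (traceTo LG3.2.1 LG3.2.2 LG3.1 10) = 930 := by decide +kernel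

theorem cntG3_67 : countR 221167 3301 (traceTo LG3.2.1 LG3.2.2 LG3.1 10) = 946 := by decide +kernel

theorem cntG3_68 : countR 224468 3301 (traceTo LG3.2.1 LG3.2.2 LG3.1 10) = 1077 := by decide +kernel

theorem cntG3_69 : countR 227769 3301 (traceTo LG3.2.1 LG3.2.2 LG3.1 10) = 1136 := by decide +kernel

theorem cntG3_70 : countR 231070 3301 (traceTo LG3.2.1 LG3.2.2 LG3.1 10) = 1058 := by decide +kernel

theorem cntG3_71 : countR 234371 3301 (traceTo LG3.2.1 LG3.2.2 LG3.1 10) = 1158 := by decide +kernel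

theorem cntG3_72 : countR 237672 3301 (traceTo LG3.2.1 LG3.2.2 LG3.1 10) = 1110 := by decide +kernel

theorem cntG3_73 : countR 240973 3301 (traceTo LG3.2.1 LG3.2.2 LG3.1 10) = 1078 := by decide +kernel

theorem cntG3_74 : countR 244274 3301 (traceTo LG3.2.1 LG3.2.2 LG3.1 10) = 779 := by decide +kernel

theorem cntG3_75 : countR 247575 3301 (traceTo LG3.2.1 LG3.2.2 LG3.1 10) = 1115 := by decide +kernel

theorem cntG3_76 : countR 250876 3301 (traceTo LG3.2.1 LG3.2.2 LG3.1 10) = 1128 := by decide +kernel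

theorem cntG3_77 : countR 254177 3301 (traceTo LG3.2.1 LG3.2.2 LG3.1 10) = 1005 := by decide +kernel

theorem cntG3_78 : countR 257478 3301 (traceTo LG3.2.1 LG3.2.2 LG3.1 10) = 1133 := by decide +kernel

theorem cntG3_79 : countR 260779 3301 (traceTo LG3.2.1 LG3.2.2 LG3.1 10) = 1167 := by decide +kernel


end Cfsg.Agent.Fi24Out
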