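import Cfsg.Agent.Lib.Lead.Fi24Out.LevGD

/-! # The outer automorphism group of Fi₂₄′: the number of points of the tree number 3 of the chain `G`, slices (generated) -/

set_option autoImplicit false
set_option Elab.async false
set_option maxRecDepth 100000

namespace Cfsg.Agent.Fi24Out

open Cfsg.Agent.PF Cfsg.Agent.Lib.Helper6 Cfsg.Agent.Lib.Helper6.TC
open Cfsg.Agent.PL (Acts evalF)

theorem cntG3_80 : countR 264080 3301 (traceTo LG3.2.1 LG3.2.2 LG3.1 10) = 1079 := by decide +kernel

theorem cntG3_81 : countR 267381 3301 (traceTo LG3.2.1 LG3.2.2 LG3.1 10) = 765 := by decide +kernel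

theorem cntG3_82 : countR 270682 3301 (traceTo LG3.2.1 LG3.2.2 LG3.1 10) = 1113 := by decide +kernel

theorem cntG3_83 : countR 273983 3301 (traceTo LG3.2.1 LG3.2.2 LG3.1 10) = 1130 := by decide +kernel

theorem cntG3_84 : countR 277284 3301 (traceTo LG3.2.1 LG3.2.2 LG3.1 10) = 1067 := by decide +kernel

theorem cntG3_85 : countR 280585 3301 (traceTo LG3.2.1 LG3.2.2 LG3.1 10) = 1086 := by decide +kernel

theorem cntG3_86 : countR 283886 3301 (traceTo LG3.2.1 LG3.2.2 LG3.1 10) = 817 := by decide +kernel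

theorem cntG3_87 : countR 287187 3301 (traceTo LG3.2.1 LG3.2.2 LG3.1 10) = 1105 := by decide +kernel

theorem cntG3_88 : countR 290488 3301 (traceTo LG3.2.1 LG3.2.2 LG3.1 10) = 1050 := by decide +kernel

theorem cntG3_89 : countR 293789 3301 (traceTo LG3.2.1 LG3.2.2 LG3.1 10) = 895 := by decide +kernel

theorem cntG3_90 : countR 297090 3301 (traceTo LG3.2.1 LG3.2.2 LG3.1 10) = 1085 := by decide +kernel

theorem cntG3_91 : countR 300391 3301 (traceTo LG3.2.1 LG3.2.2 LG3.1 10) = 916 := by decide +kernel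

theorem cntG3_92 : countR 303692 3244 (traceTo LG3.2.1 LG3.2.2 LG3.1 10) = 706 := by decide +kernel


end Cfsg.Agent.Fi24Out
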