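import Cfsg.Agent.Lib.Lead.Fi24Out.CntG3_0
import Cfsg.Agent.Lib.Lead.Fi24Out.CntG3_1
import Cfsg.Agent.Lib.Lead.Fi24Out.CntG3_2
import Cfsg.Agent.Lib.Lead.Fi24Out.CntG3_3
import Cfsg.Agent.Lib.Lead.Fi24Out.CntG3_4

/-! # The outer automorphism group of Fi₂₄′: the number of points of the tree number 3 of the chain `G` (generated) -/

set_option autoImplicit false
set_option maxRecDepth 100000

namespace Cfsg.Agent.Fi24Out

open Cfsg.Agent.PF Cfsg.Agent.Lib.Helper6 Cfsg.Agent.Lib.Helper6.TC
open Cfsg.Agent.PL (Acts evalF)

/-- the number of points of the tree number 3 of the chain `G` -/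
theorem lenG3 : (orbitL 306936 LG3.2.1 LG3.2.2 LG3.1 10).length = 93312 := by
  rw [length_orbitL]
  exact (countR_append cntG3_0 (countR_append cntG3_1 (countR_append cntG3_2 (countR_append cntG3_3 (countR_append cntG3_4 (countR_append cntG3_5 (countR_append cntG3_6 (countR_append cntG3_7 (countR_append cntG3_8 (countR_append cntG3_9 (countR_append cntG3_10 (countR_append cntG3_11 (countR_append cntG3_12 (countR_append cntG3_13 (countR_append cntG3_14 (countR_append cntG3_15 (countR_append cntG3_16 (countR_append cntG3_17 (countR_append cntG3_18 (countR_append cntG3_19 (countR_append cntG3_20 (countR_append cntG3_21 (countR_append cntG3_22 (countR_append cntG3_23 (countR_append cntG3_24 (countR_append cntG3_25 (countR_append cntG3_26 (countR_append cntG3_27 (countR_append cntG3_28 (countR_append cntG3_29 (countR_append cntG3_30 (countR_append cntG3_31 (countR_append cntG3_32 (countR_append cntG3_33 (countR_append cntG3_34 (countR_append cntG3_35 (countR_append cntG3_36 (countR_append cntG3_37 (countR_append cntG3_38 (countR_append cntG3_39 (countR_append cntG3_40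 (countR_append cntG3_41 (countR_append cntG3_42 (countR_append cntG3_43 (countR_append cntG3_44 (countR_append cntG3_45 (countR_append cntG3_46 (countR_append cntG3_47 (countR_append cntG3_48 (countR_append cntG3_49 (countR_append cntG3_50 (countR_append cntG3_51 (countR_append cntG3_52 (countR_append cntG3_53 (countR_append cntG3_54 (countR_append cntG3_55 (countR_append cntG3_56 (countR_append cntG3_57 (countR_append cntG3_58 (countR_append cntG3_59 (countR_append cntG3_60 (countR_append cntG3_61 (countR_append cntG3_62 (countR_append cntG3_63 (countR_append cntG3_64 (countR_append cntG3_65 (countR_append cntG3_66 (countR_append cntG3_67 (countR_append cntG3_68 (countR_append cntG3_69 (countR_append cntG3_70 (countR_append cntG3_71 (countR_append cntG3_72 (countR_append cntG3_73 (countR_append cntG3_74 (countR_append cntG3_75 (countR_append cntG3_76 (countR_append cntG3_77 (countR_append cntG3_78 (countR_append cntG3_79 (countR_append cntG3_80 (countR_append cntG3_81 (countR_append cntG3_82 (countR_append cntG3_83 (countR_append cntG3_84 (countR_append cntG3_85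 (countR_append cntG3_86 (countR_append cntG3_87 (countR_append cntG3_88 (countR_append cntG3_89 (countR_append cntG3_90 (countR_append cntG3_91 (cntG3_92)))))))))))))))))))))))))))))))))))))))))))))))))))))))))))))))))))))))))))))))))))))))))))) :
    countR 0 (3301 + (3301 + (3301 + (3301 + (3301 + (3301 + (3301 + (3301 + (3301 + (3301 + (3301 + (3301 + (3301 + (3301 + (3301 + (3301 + (3301 + (3301 + (3301 + (3301 + (3301 + (3301 + (3301 + (3301 + (3301 + (3301 + (3301 + (3301 + (3301 + (3301 + (3301 + (3301 + (3301 + (3301 + (3301 + (3301 + (3301 + (3301 + (3301 + (3301 + (3301 + (3301 + (3301 + (3301 + (3301 + (3301 + (3301 + (3301 + (3301 + (3301 + (3301 + (3301 + (3301 + (3301 + (3301 + (3301 + (3301 + (3301 + (3301 + (3301 + (3301 + (3301 + (3301 + (3301 + (3301 + (3301 + (3301 + (3301 + (3301 + (3301 + (3301 + (3301 + (3301 + (3301 + (3301 + (3301 + (3301 + (3301 + (3301 + (3301 + (3301 + (3301 + (3301 + (3301 + (3301 + (3301 + (3301 + (3301 + (3301 + (3301 + (3301 + (3301 + (3244)))))))))))))))))))))))))))))))))))))))))))))))))))))))))))))))))))))))))))))))))))))))))))))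 (traceTo LG3.2.1 LG3.2.2 LG3.1 10) = 745 + (750 + (944 + (889 + (914 + (907 + (905 + (927 + (816 + (950 + (1067 + (729 + (1053 + (1086 + (645 + (982 + (1100 + (769 + (949 + (946 + (1132 + (1078 + (646 + (1153 + (986 + (1111 + (960 + (691 + (1090 + (1015 + (1107 + (1179 + (592 + (1163 + (1124 + (1035 + (1117 + (1119 + (629 + (1118 + (1107 + (1001 + (1136 + (1154 + (971 + (807 + (1135 + (1133 + (1035 + (1162 + (1081 + (859 + (899 + (1159 + (1084 + (1030 + (1157 + (1113 + (1132 + (709 + (1162 + (1157 + (1044 + (1106 + (1111 + (1116 + (930 + (946 + (1077 + (1136 + (1058 + (1158 + (1110 + (1078 + (779 + (1115 + (1128 + (1005 + (1133 + (1167 + (1079 + (765 + (1113 + (1130 + (1067 + (1086 + (817 + (1105 + (1050 + (895 + (1085 + (916 + (706)))))))))))))))))))))))))))))))))))))))))))))))))))))))))))))))))))))))))))))))))))))))))))))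

end Cfsg.Agent.Fi24Out
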