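import Cfsg.Agent.Lib.Lead.Fi24Out.LevGD

/-! # The outer automorphism group of Fi₂₄′: the number of points of the tree number 4 of the chain `G`, slices (generated) -/

set_option autoImplicit false
set_option Elab.async false
set_option maxRecDepth 100000

namespace Cfsg.Agent.Fi24Out

open Cfsg.Agent.PF Cfsg.Agent.Lib.Helper6 Cfsg.Agent.Lib.Helper6.TC
open Cfsg.Agent.PL (Acts evalF)

theorem cntG4_80 : countR 295920 3699 (traceTo LG4.2.1 LG4.2.2 LG4.1 10) = 10 := by decide +kernel

theorem cntG4_81 : countR 299619 3699 (traceTo LG4.2.1 LG4.2.2 LG4.1 10) = 10 := by decide +kernel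

theorem cntG4_82 : countR 303318 3618 (traceTo LG4.2.1 LG4.2.2 LG4.1 10) = 6 := by decide +kernel


end Cfsg.Agent.Fi24Out
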