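import Cfsg.Agent.Lib.Lead.Fi24Out.LevGD

/-! # The outer automorphism group of Fi₂₄′: the number of points of the tree number 0 of the chain `G`, slices (generated) -/

set_option autoImplicit false
set_option Elab.async false
set_option maxRecDepth 100000

namespace Cfsg.Agent.Fi24Out

open Cfsg.Agent.PF Cfsg.Agent.Lib.Helper6 Cfsg.Agent.Lib.Helper6.TC
open Cfsg.Agent.PL (Acts evalF)

theorem cntG0_20 : countR 94460 4723 (traceTo LG0.2.1 LG0.2.2 LG0.1 10) = 4723 := by decide +kernel

theorem cntG0_21 : countR 99183 4723 (traceTo LG0.2.1 LG0.2.2 LG0.1 10) = 4723 := by decide +kernel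

theorem cntG0_22 : countR 103906 4723 (traceTo LG0.2.1 LG0.2.2 LG0.1 10) = 4723 := by decide +kernel

theorem cntG0_23 : countR 108629 4723 (traceTo LG0.2.1 LG0.2.2 LG0.1 10) = 4723 := by decide +kernel

theorem cntG0_24 : countR 113352 4723 (traceTo LG0.2.1 LG0.2.2 LG0.1 10) = 4723 := by decide +kernel

theorem cntG0_25 : countR 118075 4723 (traceTo LG0.2.1 LG0.2.2 LG0.1 10) = 4723 := by decide +kernel

theorem cntG0_26 : countR 122798 4723 (traceTo LG0.2.1 LG0.2.2 LG0.1 10) = 4723 := by decide +kernel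

theorem cntG0_27 : countR 127521 4723 (traceTo LG0.2.1 LG0.2.2 LG0.1 10) = 4723 := by decide +kernel

theorem cntG0_28 : countR 132244 4723 (traceTo LG0.2.1 LG0.2.2 LG0.1 10) = 4723 := by decide +kernel

theorem cntG0_29 : countR 136967 4723 (traceTo LG0.2.1 LG0.2.2 LG0.1 10) = 4723 := by decide +kernel

theorem cntG0_30 : countR 141690 4723 (traceTo LG0.2.1 LG0.2.2 LG0.1 10) = 4723 := by decide +kernel

theorem cntG0_31 : countR 146413 4723 (traceTo LG0.2.1 LG0.2.2 LG0.1 10) = 4723 := by decide +kernel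

theorem cntG0_32 : countR 151136 4723 (traceTo LG0.2.1 LG0.2.2 LG0.1 10) = 4723 := by decide +kernel

theorem cntG0_33 : countR 155859 4723 (traceTo LG0.2.1 LG0.2.2 LG0.1 10) = 4723 := by decide +kernel

theorem cntG0_34 : countR 160582 4723 (traceTo LG0.2.1 LG0.2.2 LG0.1 10) = 4723 := by decide +kernel

theorem cntG0_35 : countR 165305 4723 (traceTo LG0.2.1 LG0.2.2 LG0.1 10) = 4723 := by decide +kernel

theorem cntG0_36 : countR 170028 4723 (traceTo LG0.2.1 LG0.2.2 LG0.1 10) = 4723 := by decide +kernel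

theorem cntG0_37 : countR 174751 4723 (traceTo LG0.2.1 LG0.2.2 LG0.1 10) = 4723 := by decide +kernel

theorem cntG0_38 : countR 179474 4723 (traceTo LG0.2.1 LG0.2.2 LG0.1 10) = 4723 := by decide +kernel

theorem cntG0_39 : countR 184197 4723 (traceTo LG0.2.1 LG0.2.2 LG0.1 10) = 4723 := by decide +kernel


end Cfsg.Agent.Fi24Out
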