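import Cfsg.Agent.Lib.Lead.Fi24Out.LevGD

/-! # The outer automorphism group of Fi₂₄′: the number of points of the tree number 0 of the chain `G`, slices (generated) -/

set_option autoImplicit false
set_option Elab.async false
set_option maxRecDepth 100000

namespace Cfsg.Agent.Fi24Out

open Cfsg.Agent.PF Cfsg.Agent.Lib.Helper6 Cfsg.Agent.Lib.Helper6.TC
open Cfsg.Agent.PL (Acts evalF)

theorem cntG0_40 : countR 188920 4723 (traceTo LG0.2.1 LG0.2.2 LG0.1 10) = 4723 := by decide +kernel

theorem cntG0_41 : countR 193643 4723 (traceTo LG0.2.1 LG0.2.2 LG0.1 10) = 4723 := by decide +kernel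

theorem cntG0_42 : countR 198366 4723 (traceTo LG0.2.1 LG0.2.2 LG0.1 10) = 4723 := by decide +kernel

theorem cntG0_43 : countR 203089 4723 (traceTo LG0.2.1 LG0.2.2 LG0.1 10) = 4723 := by decide +kernel

theorem cntG0_44 : countR 207812 4723 (traceTo LG0.2.1 LG0.2.2 LG0.1 10) = 4723 := by decide +kernel

theorem cntG0_45 : countR 212535 4723 (traceTo LG0.2.1 LG0.2.2 LG0.1 10) = 4723 := by decide +kernel

theorem cntG0_46 : countR 217258 4723 (traceTo LG0.2.1 LG0.2.2 LG0.1 10) = 4723 := by decide +kernel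

theorem cntG0_47 : countR 221981 4723 (traceTo LG0.2.1 LG0.2.2 LG0.1 10) = 4723 := by decide +kernel

theorem cntG0_48 : countR 226704 4723 (traceTo LG0.2.1 LG0.2.2 LG0.1 10) = 4723 := by decide +kernel

theorem cntG0_49 : countR 231427 4723 (traceTo LG0.2.1 LG0.2.2 LG0.1 10) = 4723 := by decide +kernel

theorem cntG0_50 : countR 236150 4723 (traceTo LG0.2.1 LG0.2.2 LG0.1 10) = 4723 := by decide +kernel

theorem cntG0_51 : countR 240873 4723 (traceTo LG0.2.1 LG0.2.2 LG0.1 10) = 4723 := by decide +kernel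

theorem cntG0_52 : countR 245596 4723 (traceTo LG0.2.1 LG0.2.2 LG0.1 10) = 4723 := by decide +kernel

theorem cntG0_53 : countR 250319 4723 (traceTo LG0.2.1 LG0.2.2 LG0.1 10) = 4723 := by decide +kernel

theorem cntG0_54 : countR 255042 4723 (traceTo LG0.2.1 LG0.2.2 LG0.1 10) = 4723 := by decide +kernel

theorem cntG0_55 : countR 259765 4723 (traceTo LG0.2.1 LG0.2.2 LG0.1 10) = 4723 := by decide +kernel

theorem cntG0_56 : countR 264488 4723 (traceTo LG0.2.1 LG0.2.2 LG0.1 10) = 4723 := by decide +kernel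

theorem cntG0_57 : countR 269211 4723 (traceTo LG0.2.1 LG0.2.2 LG0.1 10) = 4723 := by decide +kernel

theorem cntG0_58 : countR 273934 4723 (traceTo LG0.2.1 LG0.2.2 LG0.1 10) = 4723 := by decide +kernel

theorem cntG0_59 : countR 278657 4723 (traceTo LG0.2.1 LG0.2.2 LG0.1 10) = 4723 := by decide +kernel


end Cfsg.Agent.Fi24Out
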