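import Cfsg.Agent.Lib.Lead.Fi24Out.LevGD

/-! # The outer automorphism group of Fi₂₄′: the number of points of the tree number 0 of the chain `G`, slices (generated) -/

set_option autoImplicit false
set_option Elab.async false
set_option maxRecDepth 100000

namespace Cfsg.Agent.Fi24Out

open Cfsg.Agent.PF Cfsg.Agent.Lib.Helper6 Cfsg.Agent.Lib.Helper6.TC
open Cfsg.Agent.PL (Acts evalF)

theorem cntG0_60 : countR 283380 4723 (traceTo LG0.2.1 LG0.2.2 LG0.1 10) = 4723 := by decide +kernel

theorem cntG0_61 : countR 288103 4723 (traceTo LG0.2.1 LG0.2.2 LG0.1 10) = 4723 := by decide +kernel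

theorem cntG0_62 : countR 292826 4723 (traceTo LG0.2.1 LG0.2.2 LG0.1 10) = 4723 := by decide +kernel

theorem cntG0_63 : countR 297549 4723 (traceTo LG0.2.1 LG0.2.2 LG0.1 10) = 4723 := by decide +kernel

theorem cntG0_64 : countR 302272 4664 (traceTo LG0.2.1 LG0.2.2 LG0.1 10) = 4664 := by decide +kernel


end Cfsg.Agent.Fi24Out
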