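import Cfsg.Agent.Lib.Lead.Fi24Out.LevGD

/-! # The outer automorphism group of Fi₂₄′: the number of points of the tree number 0 of the chain `G`, slices (generated) -/

set_option autoImplicit false
set_option Elab.async false
set_option maxRecDepth 100000

namespace Cfsg.Agent.Fi24Out

open Cfsg.Agent.PF Cfsg.Agent.Lib.Helper6 Cfsg.Agent.Lib.Helper6.TC
open Cfsg.Agent.PL (Acts evalF)

theorem cntG0_0 : countR 0 4723 (traceTo LG0.2.1 LG0.2.2 LG0.1 10) = 4723 := by decide +kernel

theorem cntG0_1 : countR 4723 4723 (traceTo LG0.2.1 LG0.2.2 LG0.1 10) = 4723 := by decide +kernel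

theorem cntG0_2 : countR 9446 4723 (traceTo LG0.2.1 LG0.2.2 LG0.1 10) = 4723 := by decide +kernel

theorem cntG0_3 : countR 14169 4723 (traceTo LG0.2.1 LG0.2.2 LG0.1 10) = 4723 := by decide +kernel

theorem cntG0_4 : countR 18892 4723 (traceTo LG0.2.1 LG0.2.2 LG0.1 10) = 4723 := by decide +kernel

theorem cntG0_5 : countR 23615 4723 (traceTo LG0.2.1 LG0.2.2 LG0.1 10) = 4723 := by decide +kernel

theorem cntG0_6 : countR 28338 4723 (traceTo LG0.2.1 LG0.2.2 LG0.1 10) = 4723 := by decide +kernel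

theorem cntG0_7 : countR 33061 4723 (traceTo LG0.2.1 LG0.2.2 LG0.1 10) = 4723 := by decide +kernel

theorem cntG0_8 : countR 37784 4723 (traceTo LG0.2.1 LG0.2.2 LG0.1 10) = 4723 := by decide +kernel

theorem cntG0_9 : countR 42507 4723 (traceTo LG0.2.1 LG0.2.2 LG0.1 10) = 4723 := by decide +kernel

theorem cntG0_10 : countR 47230 4723 (traceTo LG0.2.1 LG0.2.2 LG0.1 10) = 4723 := by decide +kernel

theorem cntG0_11 : countR 51953 4723 (traceTo LG0.2.1 LG0.2.2 LG0.1 10) = 4723 := by decide +kernel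

theorem cntG0_12 : countR 56676 4723 (traceTo LG0.2.1 LG0.2.2 LG0.1 10) = 4723 := by decide +kernel

theorem cntG0_13 : countR 61399 4723 (traceTo LG0.2.1 LG0.2.2 LG0.1 10) = 4723 := by decide +kernel

theorem cntG0_14 : countR 66122 4723 (traceTo LG0.2.1 LG0.2.2 LG0.1 10) = 4723 := by decide +kernel

theorem cntG0_15 : countR 70845 4723 (traceTo LG0.2.1 LG0.2.2 LG0.1 10) = 4723 := by decide +kernel

theorem cntG0_16 : countR 75568 4723 (traceTo LG0.2.1 LG0.2.2 LG0.1 10) = 4723 := by decide +kernel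

theorem cntG0_17 : countR 80291 4723 (traceTo LG0.2.1 LG0.2.2 LG0.1 10) = 4723 := by decide +kernel

theorem cntG0_18 : countR 85014 4723 (traceTo LG0.2.1 LG0.2.2 LG0.1 10) = 4723 := by decide +kernel

theorem cntG0_19 : countR 89737 4723 (traceTo LG0.2.1 LG0.2.2 LG0.1 10) = 4723 := by decide +kernel


end Cfsg.Agent.Fi24Out
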