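import Cfsg.Agent.Lib.Lead.Fi24Out.LevGD

/-! # The outer automorphism group of Fi₂₄′: the number of points of the tree number 1 of the chain `G`, slices (generated) -/

set_option autoImplicit false
set_option Elab.async false
set_option maxRecDepth 100000

namespace Cfsg.Agent.Fi24Out

open Cfsg.Agent.PF Cfsg.Agent.Lib.Helper6 Cfsg.Agent.Lib.Helper6.TC
open Cfsg.Agent.PL (Acts evalF)

theorem cntG1_0 : countR 0 4148 (traceTo LG1.2.1 LG1.2.2 LG1.1 10) = 2804 := by decide +kernel

theorem cntG1_1 : countR 4148 4148 (traceTo LG1.2.1 LG1.2.2 LG1.1 10) = 2961 := by decide +kernel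

theorem cntG1_2 : countR 8296 4148 (traceTo LG1.2.1 LG1.2.2 LG1.1 10) = 3247 := by decide +kernel

theorem cntG1_3 : countR 12444 4148 (traceTo LG1.2.1 LG1.2.2 LG1.1 10) = 3387 := by decide +kernel

theorem cntG1_4 : countR 16592 4148 (traceTo LG1.2.1 LG1.2.2 LG1.1 10) = 3263 := by decide +kernel

theorem cntG1_5 : countR 20740 4148 (traceTo LG1.2.1 LG1.2.2 LG1.1 10) = 3232 := by decide +kernel

theorem cntG1_6 : countR 24888 4148 (traceTo LG1.2.1 LG1.2.2 LG1.1 10) = 3816 := by decide +kernel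

theorem cntG1_7 : countR 29036 4148 (traceTo LG1.2.1 LG1.2.2 LG1.1 10) = 3127 := by decide +kernel

theorem cntG1_8 : countR 33184 4148 (traceTo LG1.2.1 LG1.2.2 LG1.1 10) = 3595 := by decide +kernel

theorem cntG1_9 : countR 37332 4148 (traceTo LG1.2.1 LG1.2.2 LG1.1 10) = 3352 := by decide +kernel

theorem cntG1_10 : countR 41480 4148 (traceTo LG1.2.1 LG1.2.2 LG1.1 10) = 4007 := by decide +kernel

theorem cntG1_11 : countR 45628 4148 (traceTo LG1.2.1 LG1.2.2 LG1.1 10) = 2820 := by decide +kernel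

theorem cntG1_12 : countR 49776 4148 (traceTo LG1.2.1 LG1.2.2 LG1.1 10) = 3881 := by decide +kernel

theorem cntG1_13 : countR 53924 4148 (traceTo LG1.2.1 LG1.2.2 LG1.1 10) = 4085 := by decide +kernel

theorem cntG1_14 : countR 58072 4148 (traceTo LG1.2.1 LG1.2.2 LG1.1 10) = 2666 := by decide +kernel

theorem cntG1_15 : countR 62220 4148 (traceTo LG1.2.1 LG1.2.2 LG1.1 10) = 3809 := by decide +kernel

theorem cntG1_16 : countR 66368 4148 (traceTo LG1.2.1 LG1.2.2 LG1.1 10) = 4148 := by decide +kernel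

theorem cntG1_17 : countR 70516 4148 (traceTo LG1.2.1 LG1.2.2 LG1.1 10) = 2471 := by decide +kernel

theorem cntG1_18 : countR 74664 4148 (traceTo LG1.2.1 LG1.2.2 LG1.1 10) = 4148 := by decide +kernel

theorem cntG1_19 : countR 78812 4148 (traceTo LG1.2.1 LG1.2.2 LG1.1 10) = 3782 := by decide +kernel


end Cfsg.Agent.Fi24Out
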