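import Cfsg.Agent.Lib.Lead.Fi24Out.LevGD

/-! # The outer automorphism group of Fi₂₄′: the number of points of the tree number 2 of the chain `G`, slices (generated) -/

set_option autoImplicit false
set_option Elab.async false
set_option maxRecDepth 100000

namespace Cfsg.Agent.Fi24Out

open Cfsg.Agent.PF Cfsg.Agent.Lib.Helper6 Cfsg.Agent.Lib.Helper6.TC
open Cfsg.Agent.PL (Acts evalF)

theorem cntG2_0 : countR 0 3699 (traceTo LG2.2.1 LG2.2.2 LG2.1 10) = 1843 := by decide +kernel

theorem cntG2_1 : countR 3699 3699 (traceTo LG2.2.1 LG2.2.2 LG2.1 10) = 2172 := by decide +kernel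

theorem cntG2_2 : countR 7398 3699 (traceTo LG2.2.1 LG2.2.2 LG2.1 10) = 2041 := by decide +kernel

theorem cntG2_3 : countR 11097 3699 (traceTo LG2.2.1 LG2.2.2 LG2.1 10) = 2364 := by decide +kernel

theorem cntG2_4 : countR 14796 3699 (traceTo LG2.2.1 LG2.2.2 LG2.1 10) = 2297 := by decide +kernel

theorem cntG2_5 : countR 18495 3699 (traceTo LG2.2.1 LG2.2.2 LG2.1 10) = 2814 := by decide +kernel

theorem cntG2_6 : countR 22194 3699 (traceTo LG2.2.1 LG2.2.2 LG2.1 10) = 2116 := by decide +kernel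

theorem cntG2_7 : countR 25893 3699 (traceTo LG2.2.1 LG2.2.2 LG2.1 10) = 2347 := by decide +kernel

theorem cntG2_8 : countR 29592 3699 (traceTo LG2.2.1 LG2.2.2 LG2.1 10) = 2452 := by decide +kernel

theorem cntG2_9 : countR 33291 3699 (traceTo LG2.2.1 LG2.2.2 LG2.1 10) = 2733 := by decide +kernel

theorem cntG2_10 : countR 36990 3699 (traceTo LG2.2.1 LG2.2.2 LG2.1 10) = 2117 := by decide +kernel

theorem cntG2_11 : countR 40689 3699 (traceTo LG2.2.1 LG2.2.2 LG2.1 10) = 2726 := by decide +kernel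

theorem cntG2_12 : countR 44388 3699 (traceTo LG2.2.1 LG2.2.2 LG2.1 10) = 1855 := by decide +kernel

theorem cntG2_13 : countR 48087 3699 (traceTo LG2.2.1 LG2.2.2 LG2.1 10) = 2901 := by decide +kernel

theorem cntG2_14 : countR 51786 3699 (traceTo LG2.2.1 LG2.2.2 LG2.1 10) = 2731 := by decide +kernel

theorem cntG2_15 : countR 55485 3699 (traceTo LG2.2.1 LG2.2.2 LG2.1 10) = 2311 := by decide +kernel

theorem cntG2_16 : countR 59184 3699 (traceTo LG2.2.1 LG2.2.2 LG2.1 10) = 2384 := by decide +kernel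

theorem cntG2_17 : countR 62883 3699 (traceTo LG2.2.1 LG2.2.2 LG2.1 10) = 2642 := by decide +kernel

theorem cntG2_18 : countR 66582 3699 (traceTo LG2.2.1 LG2.2.2 LG2.1 10) = 2951 := by decide +kernel

theorem cntG2_19 : countR 70281 3699 (traceTo LG2.2.1 LG2.2.2 LG2.1 10) = 1820 := by decide +kernel


end Cfsg.Agent.Fi24Out
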