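import Cfsg.Agent.Lib.Lead.Fi24Out.LevGD

/-! # The outer automorphism group of Fi₂₄′: the number of points of the tree number 3 of the chain `G`, slices (generated) -/

set_option autoImplicit false
set_option Elab.async false
set_option maxRecDepth 100000

namespace Cfsg.Agent.Fi24Out

open Cfsg.Agent.PF Cfsg.Agent.Lib.Helper6 Cfsg.Agent.Lib.Helper6.TC
open Cfsg.Agent.PL (Acts evalF)

theorem cntG3_0 : countR 0 3301 (traceTo LG3.2.1 LG3.2.2 LG3.1 10) = 745 := by decide +kernel

theorem cntG3_1 : countR 3301 3301 (traceTo LG3.2.1 LG3.2.2 LG3.1 10) = 750 := by decide +kernel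

theorem cntG3_2 : countR 6602 3301 (traceTo LG3.2.1 LG3.2.2 LG3.1 10) = 944 := by decide +kernel

theorem cntG3_3 : countR 9903 3301 (traceTo LG3.2.1 LG3.2.2 LG3.1 10) = 889 := by decide +kernel

theorem cntG3_4 : countR 13204 3301 (traceTo LG3.2.1 LG3.2.2 LG3.1 10) = 914 := by decide +kernel

theorem cntG3_5 : countR 16505 3301 (traceTo LG3.2.1 LG3.2.2 LG3.1 10) = 907 := by decide +kernel

theorem cntG3_6 : countR 19806 3301 (traceTo LG3.2.1 LG3.2.2 LG3.1 10) = 905 := by decide +kernel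

theorem cntG3_7 : countR 23107 3301 (traceTo LG3.2.1 LG3.2.2 LG3.1 10) = 927 := by decide +kernel

theorem cntG3_8 : countR 26408 3301 (traceTo LG3.2.1 LG3.2.2 LG3.1 10) = 816 := by decide +kernel

theorem cntG3_9 : countR 29709 3301 (traceTo LG3.2.1 LG3.2.2 LG3.1 10) = 950 := by decide +kernel

theorem cntG3_10 : countR 33010 3301 (traceTo LG3.2.1 LG3.2.2 LG3.1 10) = 1067 := by decide +kernel

theorem cntG3_11 : countR 36311 3301 (traceTo LG3.2.1 LG3.2.2 LG3.1 10) = 729 := by decide +kernel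

theorem cntG3_12 : countR 39612 3301 (traceTo LG3.2.1 LG3.2.2 LG3.1 10) = 1053 := by decide +kernel

theorem cntG3_13 : countR 42913 3301 (traceTo LG3.2.1 LG3.2.2 LG3.1 10) = 1086 := by decide +kernel

theorem cntG3_14 : countR 46214 3301 (traceTo LG3.2.1 LG3.2.2 LG3.1 10) = 645 := by decide +kernel

theorem cntG3_15 : countR 49515 3301 (traceTo LG3.2.1 LG3.2.2 LG3.1 10) = 982 := by decide +kernel

theorem cntG3_16 : countR 52816 3301 (traceTo LG3.2.1 LG3.2.2 LG3.1 10) = 1100 := by decide +kernel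

theorem cntG3_17 : countR 56117 3301 (traceTo LG3.2.1 LG3.2.2 LG3.1 10) = 769 := by decide +kernel

theorem cntG3_18 : countR 59418 3301 (traceTo LG3.2.1 LG3.2.2 LG3.1 10) = 949 := by decide +kernel

theorem cntG3_19 : countR 62719 3301 (traceTo LG3.2.1 LG3.2.2 LG3.1 10) = 946 := by decide +kernel


end Cfsg.Agent.Fi24Out
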