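import Cfsg.Agent.Lib.Lead.Fi24Out.LevBD
import Cfsg.Agent.Lib.Lead.Fi24Out.DV
import Cfsg.Agent.Lib.Lead.Fi24Out.Kills

/-! # The outer automorphism group of Fi₂₄′: the candidates for the images of `w`, slices (generated) -/

set_option autoImplicit false
set_option Elab.async false
set_option maxRecDepth 100000

namespace Cfsg.Agent.Fi24Out

open Cfsg.Agent.PF Cfsg.Agent.Lib.Helper6 Cfsg.Agent.Lib.Helper6.TC
open Cfsg.Agent.PL (Acts evalF)

theorem chk_kill_220 : allR 146520 666 (fun q => killF 306936 10 f26 f27 fv [] LB0 LsB kills 0 q) = true := by decide +kernel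

theorem chk_kill_221 : allR 147186 666 (fun q => killF 306936 10 f26 f27 fv [] LB0 LsB kills 0 q) = true := by decide +kernel

theorem chk_kill_222 : allR 147852 666 (fun q => killF 306936 10 f26 f27 fv [] LB0 LsB kills 0 q) = true := by decide +kernel

theorem chk_kill_223 : allR 148518 666 (fun q => killF 306936 10 f26 f27 fv [] LB0 LsB kills 0 q) = true := by decide +kernel

theorem chk_kill_224 : allR 149184 666 (fun q => killF 306936 10 f26 f27 fv [] LB0 LsB kills 0 q) = true := by decide +kernel

theorem chk_kill_225 : allR 149850 666 (fun q => killF 306936 10 f26 f27 fv [] LB0 LsB kills 0 q) = true := by decide +kernel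

theorem chk_kill_226 : allR 150516 666 (fun q => killF 306936 10 f26 f27 fv [] LB0 LsB kills 0 q) = true := by decide +kernel

theorem chk_kill_227 : allR 151182 666 (fun q => killF 306936 10 f26 f27 fv [] LB0 LsB kills 0 q) = true := by decide +kernel

theorem chk_kill_228 : allR 151848 666 (fun q => killF 306936 10 f26 f27 fv [] LB0 LsB kills 0 q) = true := by decide +kernel

theorem chk_kill_229 : allR 152514 666 (fun q => killF 306936 10 f26 f27 fv [] LB0 LsB kills 0 q) = true := by decide +kernel

theorem chk_kill_230 : allR 153180 666 (fun q => killF 306936 10 f26 f27 fv [] LB0 LsB kills 0 q) = true := by decide +kernel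

theorem chk_kill_231 : allR 153846 666 (fun q => killF 306936 10 f26 f27 fv [] LB0 LsB kills 0 q) = true := by decide +kernel

theorem chk_kill_232 : allR 154512 666 (fun q => killF 306936 10 f26 f27 fv [] LB0 LsB kills 0 q) = true := by decide +kernel

theorem chk_kill_233 : allR 155178 666 (fun q => killF 306936 10 f26 f27 fv [] LB0 LsB kills 0 q) = true := by decide +kernel

theorem chk_kill_234 : allR 155844 666 (fun q => killF 306936 10 f26 f27 fv [] LB0 LsB kills 0 q) = true := by decide +kernel

theorem chk_kill_235 : allR 156510 666 (fun q => killF 306936 10 f26 f27 fv [] LB0 LsB kills 0 q) = true := by decide +kernel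

theorem chk_kill_236 : allR 157176 666 (fun q => killF 306936 10 f26 f27 fv [] LB0 LsB kills 0 q) = true := by decide +kernel

theorem chk_kill_237 : allR 157842 666 (fun q => killF 306936 10 f26 f27 fv [] LB0 LsB kills 0 q) = true := by decide +kernel

theorem chk_kill_238 : allR 158508 666 (fun q => killF 306936 10 f26 f27 fv [] LB0 LsB kills 0 q) = true := by decide +kernel

theorem chk_kill_239 : allR 159174 666 (fun q => killF 306936 10 f26 f27 fv [] LB0 LsB kills 0 q) = true := by decide +kernel


end Cfsg.Agent.Fi24Out
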