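import Cfsg.Agent.Lib.Lead.Fi24Out.Kill_0
import Cfsg.Agent.Lib.Lead.Fi24Out.Kill_1
import Cfsg.Agent.Lib.Lead.Fi24Out.Kill_2
import Cfsg.Agent.Lib.Lead.Fi24Out.Kill_3
import Cfsg.Agent.Lib.Lead.Fi24Out.Kill_4
import Cfsg.Agent.Lib.Lead.Fi24Out.Kill_5
import Cfsg.Agent.Lib.Lead.Fi24Out.Kill_6
import Cfsg.Agent.Lib.Lead.Fi24Out.Kill_7
import Cfsg.Agent.Lib.Lead.Fi24Out.Kill_8
import Cfsg.Agent.Lib.Lead.Fi24Out.Kill_9
import Cfsg.Agent.Lib.Lead.Fi24Out.Kill_10
import Cfsg.Agent.Lib.Lead.Fi24Out.Kill_11
import Cfsg.Agent.Lib.Lead.Fi24Out.Kill_12
import Cfsg.Agent.Lib.Lead.Fi24Out.Kill_13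
import Cfsg.Agent.Lib.Lead.Fi24Out.Kill_14
import Cfsg.Agent.Lib.Lead.Fi24Out.Kill_15
import Cfsg.Agent.Lib.Lead.Fi24Out.Kill_16
import Cfsg.Agent.Lib.Lead.Fi24Out.Kill_17
import Cfsg.Agent.Lib.Lead.Fi24Out.Kill_18
import Cfsg.Agent.Lib.Lead.Fi24Out.Kill_19
import Cfsg.Agent.Lib.Lead.Fi24Out.Kill_20
import Cfsg.Agent.Lib.Lead.Fi24Out.Kill_21
import Cfsg.Agent.Lib.Lead.Fi24Out.Kill_22
import Cfsg.Agent.Lib.Lead.Fi24Out.Kill_23
import Cfsg.Agent.Lib.Lead.Fi24Out.Base0

/-! # The outer automorphism group of Fi₂₄′: the candidates for the images of `w` (generated) -/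

set_option autoImplicit false
set_option maxRecDepth 100000

namespace Cfsg.Agent.Fi24Out

open Cfsg.Agent.PF Cfsg.Agent.Lib.Helper6 Cfsg.Agent.Lib.Helper6.TC
open Cfsg.Agent.PL (Acts evalF)

theorem chk_kill_all : ∀ q < 306936, killF 306936 10 f26 f27 fv [] LB0 LsB kills 0 q = true :=
  forall_lt_of_chunks (f := fun q => killF 306936 10 f26 f27 fv [] LB0 LsB kills 0 q) [(0, 666), (666, 666), (1332, 666), (1998, 666), (2664, 666), (3330, 666), (3996, 666), (4662, 666), (5328, 666), (5994, 666), (6660, 666), (7326, 666), (7992, 666), (8658, 666), (9324, 666), (9990, 666), (10656, 666), (11322, 666), (11988, 666), (12654, 666), (13320, 666), (13986, 666), (14652, 666), (15318, 666), (15984, 666), (16650, 666), (17316, 666), (17982, 666), (18648, 666), (19314, 666), (19980, 666), (20646, 666), (21312, 666), (21978, 666), (22644, 666), (23310, 666), (23976, 666), (24642, 666), (25308, 666), (25974, 666), (26640, 666), (27306, 666), (27972, 666), (28638, 666), (29304, 666), (29970, 666), (30636, 666), (31302, 666), (31968, 666), (32634, 666), (33300, 666), (33966, 666), (34632, 666), (35298,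 666), (35964, 666), (36630, 666), (37296, 666), (37962, 666), (38628, 666), (39294, 666), (39960, 666), (40626, 666), (41292, 666), (41958, 666), (42624, 666), (43290, 666), (43956, 666), (44622, 666), (45288, 666), (45954, 666), (46620, 666), (47286, 666), (47952, 666), (48618, 666), (49284, 666), (49950, 666), (50616, 666), (51282, 666), (51948, 666), (52614, 666), (53280, 666), (53946, 666), (54612, 666), (55278, 666), (55944, 666), (56610, 666), (57276, 666), (57942, 666), (58608, 666), (59274, 666), (59940, 666), (60606, 666), (61272, 666), (61938, 666), (62604, 666), (63270, 666), (63936, 666), (64602, 666), (65268, 666), (65934, 666), (66600, 666), (67266, 666), (67932, 666), (68598, 666), (69264, 666), (69930, 666), (70596, 666), (71262, 666), (71928, 666), (72594, 666), (73260, 666), (73926, 666), (74592, 666), (75258, 666), (75924, 666), (76590, 666), (77256, 666), (77922, 666), (78588, 666), (79254, 666), (79920, 666), (80586, 666), (81252, 666), (81918, 666), (82584, 666), (83250, 666), (83916, 666), (84582, 666), (85248, 666), (85914, 666), (86580, 666), (87246, 666),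 (87912, 666), (88578, 666), (89244, 666), (89910, 666), (90576, 666), (91242, 666), (91908, 666), (92574, 666), (93240, 666), (93906, 666), (94572, 666), (95238, 666), (95904, 666), (96570, 666), (97236, 666), (97902, 666), (98568, 666), (99234, 666), (99900, 666), (100566, 666), (101232, 666), (101898, 666), (102564, 666), (103230, 666), (103896, 666), (104562, 666), (105228, 666), (105894, 666), (106560, 666), (107226, 666), (107892, 666), (108558, 666), (109224, 666), (109890, 666), (110556, 666), (111222, 666), (111888, 666), (112554, 666), (113220, 666), (113886, 666), (114552, 666), (115218, 666), (115884, 666), (116550, 666), (117216, 666), (117882, 666), (118548, 666), (119214, 666), (119880, 666), (120546, 666), (121212, 666), (121878, 666), (122544, 666), (123210, 666), (123876, 666), (124542, 666), (125208, 666), (125874, 666), (126540, 666), (127206, 666), (127872, 666), (128538, 666), (129204, 666), (129870, 666), (130536, 666), (131202, 666), (131868, 666), (132534, 666), (133200, 666), (133866, 666), (134532, 666), (135198, 666), (135864, 666), (136530, 666), (137196,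 666), (137862, 666), (138528, 666), (139194, 666), (139860, 666), (140526, 666), (141192, 666), (141858, 666), (142524, 666), (143190, 666), (143856, 666), (144522, 666), (145188, 666), (145854, 666), (146520, 666), (147186, 666), (147852, 666), (148518, 666), (149184, 666), (149850, 666), (150516, 666), (151182, 666), (151848, 666), (152514, 666), (153180, 666), (153846, 666), (154512, 666), (155178, 666), (155844, 666), (156510, 666), (157176, 666), (157842, 666), (158508, 666), (159174, 666), (159840, 666), (160506, 666), (161172, 666), (161838, 666), (162504, 666), (163170, 666), (163836, 666), (164502, 666), (165168, 666), (165834, 666), (166500, 666), (167166, 666), (167832, 666), (168498, 666), (169164, 666), (169830, 666), (170496, 666), (171162, 666), (171828, 666), (172494, 666), (173160, 666), (173826, 666), (174492, 666), (175158, 666), (175824, 666), (176490, 666), (177156, 666), (177822, 666), (178488, 666), (179154, 666), (179820, 666), (180486, 666), (181152, 666), (181818, 666), (182484, 666), (183150, 666), (183816, 666), (184482, 666), (185148, 666), (185814, 666),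 (186480, 666), (187146, 666), (187812, 666), (188478, 666), (189144, 666), (189810, 666), (190476, 666), (191142, 666), (191808, 666), (192474, 666), (193140, 666), (193806, 666), (194472, 666), (195138, 666), (195804, 666), (196470, 666), (197136, 666), (197802, 666), (198468, 666), (199134, 666), (199800, 666), (200466, 666), (201132, 666), (201798, 666), (202464, 666), (203130, 666), (203796, 666), (204462, 666), (205128, 666), (205794, 666), (206460, 666), (207126, 666), (207792, 666), (208458, 666), (209124, 666), (209790, 666), (210456, 666), (211122, 666), (211788, 666), (212454, 666), (213120, 666), (213786, 666), (214452, 666), (215118, 666), (215784, 666), (216450, 666), (217116, 666), (217782, 666), (218448, 666), (219114, 666), (219780, 666), (220446, 666), (221112, 666), (221778, 666), (222444, 666), (223110, 666), (223776, 666), (224442, 666), (225108, 666), (225774, 666), (226440, 666), (227106, 666), (227772, 666), (228438, 666), (229104, 666), (229770, 666), (230436, 666), (231102, 666), (231768, 666), (232434, 666), (233100, 666), (233766, 666), (234432, 666), (235098,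 666), (235764, 666), (236430, 666), (237096, 666), (237762, 666), (238428, 666), (239094, 666), (239760, 666), (240426, 666), (241092, 666), (241758, 666), (242424, 666), (243090, 666), (243756, 666), (244422, 666), (245088, 666), (245754, 666), (246420, 666), (247086, 666), (247752, 666), (248418, 666), (249084, 666), (249750, 666), (250416, 666), (251082, 666), (251748, 666), (252414, 666), (253080, 666), (253746, 666), (254412, 666), (255078, 666), (255744, 666), (256410, 666), (257076, 666), (257742, 666), (258408, 666), (259074, 666), (259740, 666), (260406, 666), (261072, 666), (261738, 666), (262404, 666), (263070, 666), (263736, 666), (264402, 666), (265068, 666), (265734, 666), (266400, 666), (267066, 666), (267732, 666), (268398, 666), (269064, 666), (269730, 666), (270396, 666), (271062, 666), (271728, 666), (272394, 666), (273060, 666), (273726, 666), (274392, 666), (275058, 666), (275724, 666), (276390, 666), (277056, 666), (277722, 666), (278388, 666), (279054, 666), (279720, 666), (280386, 666), (281052, 666), (281718, 666), (282384, 666), (283050, 666), (283716, 666),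 (284382, 666), (285048, 666), (285714, 666), (286380, 666), (287046, 666), (287712, 666), (288378, 666), (289044, 666), (289710, 666), (290376, 666), (291042, 666), (291708, 666), (292374, 666), (293040, 666), (293706, 666), (294372, 666), (295038, 666), (295704, 666), (296370, 666), (297036, 666), (297702, 666), (298368, 666), (299034, 666), (299700, 666), (300366, 666), (301032, 666), (301698, 666), (302364, 666), (303030, 666), (303696, 666), (304362, 666), (305028, 666), (305694, 666), (306360, 576)] (by decide)
    (all_cons chk_kill_0 (all_cons chk_kill_1 (all_cons chk_kill_2 (all_cons chk_kill_3 (all_cons chk_kill_4 (all_cons chk_kill_5 (all_cons chk_kill_6 (all_cons chk_kill_7 (all_cons chk_kill_8 (all_cons chk_kill_9 (all_cons chk_kill_10 (all_cons chk_kill_11 (all_cons chk_kill_12 (all_cons chk_kill_13 (all_cons chk_kill_14 (all_cons chk_kill_15 (all_cons chk_kill_16 (all_cons chk_kill_17 (all_cons chk_kill_18 (all_cons chk_kill_19 (all_cons chk_kill_20 (all_cons chk_kill_21 (all_cons chk_kill_22 (all_cons chk_kill_23 (all_cons chk_kill_24 (all_cons chk_kill_25 (all_cons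 chk_kill_26 (all_cons chk_kill_27 (all_cons chk_kill_28 (all_cons chk_kill_29 (all_cons chk_kill_30 (all_cons chk_kill_31 (all_cons chk_kill_32 (all_cons chk_kill_33 (all_cons chk_kill_34 (all_cons chk_kill_35 (all_cons chk_kill_36 (all_cons chk_kill_37 (all_cons chk_kill_38 (all_cons chk_kill_39 (all_cons chk_kill_40 (all_cons chk_kill_41 (all_cons chk_kill_42 (all_cons chk_kill_43 (all_cons chk_kill_44 (all_cons chk_kill_45 (all_cons chk_kill_46 (all_cons chk_kill_47 (all_cons chk_kill_48 (all_cons chk_kill_49 (all_cons chk_kill_50 (all_cons chk_kill_51 (all_cons chk_kill_52 (all_cons chk_kill_53 (all_cons chk_kill_54 (all_cons chk_kill_55 (all_cons chk_kill_56 (all_cons chk_kill_57 (all_cons chk_kill_58 (all_cons chk_kill_59 (all_cons chk_kill_60 (all_cons chk_kill_61 (all_cons chk_kill_62 (all_cons chk_kill_63 (all_cons chk_kill_64 (all_cons chk_kill_65 (all_cons chk_kill_66 (all_cons chk_kill_67 (all_cons chk_kill_68 (all_cons chk_kill_69 (all_cons chk_kill_70 (all_cons chk_kill_71 (all_cons chk_kill_72 (all_cons chk_kill_73 (all_cons chk_kill_74 (all_cons chk_kill_75 (all_cons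 chk_kill_76 (all_cons chk_kill_77 (all_cons chk_kill_78 (all_cons chk_kill_79 (all_cons chk_kill_80 (all_cons chk_kill_81 (all_cons chk_kill_82 (all_cons chk_kill_83 (all_cons chk_kill_84 (all_cons chk_kill_85 (all_cons chk_kill_86 (all_cons chk_kill_87 (all_cons chk_kill_88 (all_cons chk_kill_89 (all_cons chk_kill_90 (all_cons chk_kill_91 (all_cons chk_kill_92 (all_cons chk_kill_93 (all_cons chk_kill_94 (all_cons chk_kill_95 (all_cons chk_kill_96 (all_cons chk_kill_97 (all_cons chk_kill_98 (all_cons chk_kill_99 (all_cons chk_kill_100 (all_cons chk_kill_101 (all_cons chk_kill_102 (all_cons chk_kill_103 (all_cons chk_kill_104 (all_cons chk_kill_105 (all_cons chk_kill_106 (all_cons chk_kill_107 (all_cons chk_kill_108 (all_cons chk_kill_109 (all_cons chk_kill_110 (all_cons chk_kill_111 (all_cons chk_kill_112 (all_cons chk_kill_113 (all_cons chk_kill_114 (all_cons chk_kill_115 (all_cons chk_kill_116 (all_cons chk_kill_117 (all_cons chk_kill_118 (all_cons chk_kill_119 (all_cons chk_kill_120 (all_cons chk_kill_121 (all_cons chk_kill_122 (all_cons chk_kill_123 (all_cons chk_kill_124 (all_cons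 chk_kill_125 (all_cons chk_kill_126 (all_cons chk_kill_127 (all_cons chk_kill_128 (all_cons chk_kill_129 (all_cons chk_kill_130 (all_cons chk_kill_131 (all_cons chk_kill_132 (all_cons chk_kill_133 (all_cons chk_kill_134 (all_cons chk_kill_135 (all_cons chk_kill_136 (all_cons chk_kill_137 (all_cons chk_kill_138 (all_cons chk_kill_139 (all_cons chk_kill_140 (all_cons chk_kill_141 (all_cons chk_kill_142 (all_cons chk_kill_143 (all_cons chk_kill_144 (all_cons chk_kill_145 (all_cons chk_kill_146 (all_cons chk_kill_147 (all_cons chk_kill_148 (all_cons chk_kill_149 (all_cons chk_kill_150 (all_cons chk_kill_151 (all_cons chk_kill_152 (all_cons chk_kill_153 (all_cons chk_kill_154 (all_cons chk_kill_155 (all_cons chk_kill_156 (all_cons chk_kill_157 (all_cons chk_kill_158 (all_cons chk_kill_159 (all_cons chk_kill_160 (all_cons chk_kill_161 (all_cons chk_kill_162 (all_cons chk_kill_163 (all_cons chk_kill_164 (all_cons chk_kill_165 (all_cons chk_kill_166 (all_cons chk_kill_167 (all_cons chk_kill_168 (all_cons chk_kill_169 (all_cons chk_kill_170 (all_cons chk_kill_171 (all_cons chk_kill_172 (all_cons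 chk_kill_173 (all_cons chk_kill_174 (all_cons chk_kill_175 (all_cons chk_kill_176 (all_cons chk_kill_177 (all_cons chk_kill_178 (all_cons chk_kill_179 (all_cons chk_kill_180 (all_cons chk_kill_181 (all_cons chk_kill_182 (all_cons chk_kill_183 (all_cons chk_kill_184 (all_cons chk_kill_185 (all_cons chk_kill_186 (all_cons chk_kill_187 (all_cons chk_kill_188 (all_cons chk_kill_189 (all_cons chk_kill_190 (all_cons chk_kill_191 (all_cons chk_kill_192 (all_cons chk_kill_193 (all_cons chk_kill_194 (all_cons chk_kill_195 (all_cons chk_kill_196 (all_cons chk_kill_197 (all_cons chk_kill_198 (all_cons chk_kill_199 (all_cons chk_kill_200 (all_cons chk_kill_201 (all_cons chk_kill_202 (all_cons chk_kill_203 (all_cons chk_kill_204 (all_cons chk_kill_205 (all_cons chk_kill_206 (all_cons chk_kill_207 (all_cons chk_kill_208 (all_cons chk_kill_209 (all_cons chk_kill_210 (all_cons chk_kill_211 (all_cons chk_kill_212 (all_cons chk_kill_213 (all_cons chk_kill_214 (all_cons chk_kill_215 (all_cons chk_kill_216 (all_cons chk_kill_217 (all_cons chk_kill_218 (all_cons chk_kill_219 (all_cons chk_kill_220 (all_cons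 chk_kill_221 (all_cons chk_kill_222 (all_cons chk_kill_223 (all_cons chk_kill_224 (all_cons chk_kill_225 (all_cons chk_kill_226 (all_cons chk_kill_227 (all_cons chk_kill_228 (all_cons chk_kill_229 (all_cons chk_kill_230 (all_cons chk_kill_231 (all_cons chk_kill_232 (all_cons chk_kill_233 (all_cons chk_kill_234 (all_cons chk_kill_235 (all_cons chk_kill_236 (all_cons chk_kill_237 (all_cons chk_kill_238 (all_cons chk_kill_239 (all_cons chk_kill_240 (all_cons chk_kill_241 (all_cons chk_kill_242 (all_cons chk_kill_243 (all_cons chk_kill_244 (all_cons chk_kill_245 (all_cons chk_kill_246 (all_cons chk_kill_247 (all_cons chk_kill_248 (all_cons chk_kill_249 (all_cons chk_kill_250 (all_cons chk_kill_251 (all_cons chk_kill_252 (all_cons chk_kill_253 (all_cons chk_kill_254 (all_cons chk_kill_255 (all_cons chk_kill_256 (all_cons chk_kill_257 (all_cons chk_kill_258 (all_cons chk_kill_259 (all_cons chk_kill_260 (all_cons chk_kill_261 (all_cons chk_kill_262 (all_cons chk_kill_263 (all_cons chk_kill_264 (all_cons chk_kill_265 (all_cons chk_kill_266 (all_cons chk_kill_267 (all_cons chk_kill_268 (all_cons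 chk_kill_269 (all_cons chk_kill_270 (all_cons chk_kill_271 (all_cons chk_kill_272 (all_cons chk_kill_273 (all_cons chk_kill_274 (all_cons chk_kill_275 (all_cons chk_kill_276 (all_cons chk_kill_277 (all_cons chk_kill_278 (all_cons chk_kill_279 (all_cons chk_kill_280 (all_cons chk_kill_281 (all_cons chk_kill_282 (all_cons chk_kill_283 (all_cons chk_kill_284 (all_cons chk_kill_285 (all_cons chk_kill_286 (all_cons chk_kill_287 (all_cons chk_kill_288 (all_cons chk_kill_289 (all_cons chk_kill_290 (all_cons chk_kill_291 (all_cons chk_kill_292 (all_cons chk_kill_293 (all_cons chk_kill_294 (all_cons chk_kill_295 (all_cons chk_kill_296 (all_cons chk_kill_297 (all_cons chk_kill_298 (all_cons chk_kill_299 (all_cons chk_kill_300 (all_cons chk_kill_301 (all_cons chk_kill_302 (all_cons chk_kill_303 (all_cons chk_kill_304 (all_cons chk_kill_305 (all_cons chk_kill_306 (all_cons chk_kill_307 (all_cons chk_kill_308 (all_cons chk_kill_309 (all_cons chk_kill_310 (all_cons chk_kill_311 (all_cons chk_kill_312 (all_cons chk_kill_313 (all_cons chk_kill_314 (all_cons chk_kill_315 (all_cons chk_kill_316 (all_cons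 chk_kill_317 (all_cons chk_kill_318 (all_cons chk_kill_319 (all_cons chk_kill_320 (all_cons chk_kill_321 (all_cons chk_kill_322 (all_cons chk_kill_323 (all_cons chk_kill_324 (all_cons chk_kill_325 (all_cons chk_kill_326 (all_cons chk_kill_327 (all_cons chk_kill_328 (all_cons chk_kill_329 (all_cons chk_kill_330 (all_cons chk_kill_331 (all_cons chk_kill_332 (all_cons chk_kill_333 (all_cons chk_kill_334 (all_cons chk_kill_335 (all_cons chk_kill_336 (all_cons chk_kill_337 (all_cons chk_kill_338 (all_cons chk_kill_339 (all_cons chk_kill_340 (all_cons chk_kill_341 (all_cons chk_kill_342 (all_cons chk_kill_343 (all_cons chk_kill_344 (all_cons chk_kill_345 (all_cons chk_kill_346 (all_cons chk_kill_347 (all_cons chk_kill_348 (all_cons chk_kill_349 (all_cons chk_kill_350 (all_cons chk_kill_351 (all_cons chk_kill_352 (all_cons chk_kill_353 (all_cons chk_kill_354 (all_cons chk_kill_355 (all_cons chk_kill_356 (all_cons chk_kill_357 (all_cons chk_kill_358 (all_cons chk_kill_359 (all_cons chk_kill_360 (all_cons chk_kill_361 (all_cons chk_kill_362 (all_cons chk_kill_363 (all_cons chk_kill_364 (all_cons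 chk_kill_365 (all_cons chk_kill_366 (all_cons chk_kill_367 (all_cons chk_kill_368 (all_cons chk_kill_369 (all_cons chk_kill_370 (all_cons chk_kill_371 (all_cons chk_kill_372 (all_cons chk_kill_373 (all_cons chk_kill_374 (all_cons chk_kill_375 (all_cons chk_kill_376 (all_cons chk_kill_377 (all_cons chk_kill_378 (all_cons chk_kill_379 (all_cons chk_kill_380 (all_cons chk_kill_381 (all_cons chk_kill_382 (all_cons chk_kill_383 (all_cons chk_kill_384 (all_cons chk_kill_385 (all_cons chk_kill_386 (all_cons chk_kill_387 (all_cons chk_kill_388 (all_cons chk_kill_389 (all_cons chk_kill_390 (all_cons chk_kill_391 (all_cons chk_kill_392 (all_cons chk_kill_393 (all_cons chk_kill_394 (all_cons chk_kill_395 (all_cons chk_kill_396 (all_cons chk_kill_397 (all_cons chk_kill_398 (all_cons chk_kill_399 (all_cons chk_kill_400 (all_cons chk_kill_401 (all_cons chk_kill_402 (all_cons chk_kill_403 (all_cons chk_kill_404 (all_cons chk_kill_405 (all_cons chk_kill_406 (all_cons chk_kill_407 (all_cons chk_kill_408 (all_cons chk_kill_409 (all_cons chk_kill_410 (all_cons chk_kill_411 (all_cons chk_kill_412 (all_cons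 chk_kill_413 (all_cons chk_kill_414 (all_cons chk_kill_415 (all_cons chk_kill_416 (all_cons chk_kill_417 (all_cons chk_kill_418 (all_cons chk_kill_419 (all_cons chk_kill_420 (all_cons chk_kill_421 (all_cons chk_kill_422 (all_cons chk_kill_423 (all_cons chk_kill_424 (all_cons chk_kill_425 (all_cons chk_kill_426 (all_cons chk_kill_427 (all_cons chk_kill_428 (all_cons chk_kill_429 (all_cons chk_kill_430 (all_cons chk_kill_431 (all_cons chk_kill_432 (all_cons chk_kill_433 (all_cons chk_kill_434 (all_cons chk_kill_435 (all_cons chk_kill_436 (all_cons chk_kill_437 (all_cons chk_kill_438 (all_cons chk_kill_439 (all_cons chk_kill_440 (all_cons chk_kill_441 (all_cons chk_kill_442 (all_cons chk_kill_443 (all_cons chk_kill_444 (all_cons chk_kill_445 (all_cons chk_kill_446 (all_cons chk_kill_447 (all_cons chk_kill_448 (all_cons chk_kill_449 (all_cons chk_kill_450 (all_cons chk_kill_451 (all_cons chk_kill_452 (all_cons chk_kill_453 (all_cons chk_kill_454 (all_cons chk_kill_455 (all_cons chk_kill_456 (all_cons chk_kill_457 (all_cons chk_kill_458 (all_cons chk_kill_459 (all_cons chk_kill_460 all_nil)))))))))))))))))))))))))))))))))))))))))))))))))))))))))))))))))))))))))))))))))))))))))))))))))))))))))))))))))))))))))))))))))))))))))))))))))))))))))))))))))))))))))))))))))))))))))))))))))))))))))))))))))))))))))))))))))))))))))))))))))))))))))))))))))))))))))))))))))))))))))))))))))))))))))))))))))))))))))))))))))))))))))))))))))))))))))))))))))))))))))))))))))))))))))))))))))))))))))))))))))))))))))))))))))))))))))))))))))))))))))))))))))))))))))))))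

/-- every candidate other than the identity violates a relation -/
theorem chk_kill : ∀ q < 306936, killF 306936 10 f26 f27 fv [] LB0 LsB kills 0 q = true :=
  chk_kill_all

end Cfsg.Agent.Fi24Out
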