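import Cfsg.Agent.Lib.Lead.Fi24Out.C1
import Cfsg.Agent.Lib.Lead.Fi24Out.Base

/-! # The outer automorphism group of Fi₂₄′: the element number 1 (generated) -/

set_option autoImplicit false
set_option maxRecDepth 100000

namespace Cfsg.Agent.Fi24Out

open Cfsg.Agent.PF Cfsg.Agent.Lib.Helper6 Cfsg.Agent.Lib.Helper6.TC
open Cfsg.Agent.PL (Acts evalF)

theorem rep1 : Rep P' f1 := (rep_fa (i := 2) (by norm_num)).congr eq1

end Cfsg.Agent.Fi24Out
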