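import Cfsg.Agent.Lib.Lead.Fi24Out.C14
import Cfsg.Agent.Lib.Lead.Fi24Out.T11
import Cfsg.Agent.Lib.Lead.Fi24Out.T12
import Cfsg.Agent.Lib.Lead.Fi24Out.T13

/-! # The outer automorphism group of Fi₂₄′: the element number 14 (generated) -/

set_option autoImplicit false
set_option maxRecDepth 100000

namespace Cfsg.Agent.Fi24Out

open Cfsg.Agent.PF Cfsg.Agent.Lib.Helper6 Cfsg.Agent.Lib.Helper6.TC
open Cfsg.Agent.PL (Acts evalF)

theorem rep14 : Rep P' f14 :=
  (rep_wordR (l := W14) (Reps.cons rep13 (Reps.cons rep11 (Reps.cons rep13 (Reps.cons rep12 (Reps.cons rep12 (Reps.cons rep11 (Reps.cons rep13 (Reps.cons rep12 (Reps.cons rep13 (Reps.cons rep13 (Reps.cons rep11 (Reps.cons rep12 (Reps.cons rep13 (Reps.cons rep11 (Reps.cons rep13 (Reps.cons rep11 (Reps.cons rep12 (Reps.nil P'))))))))))))))))))).congr eq14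

end Cfsg.Agent.Fi24Out
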