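import Cfsg.Agent.Lib.Lead.Fi24Out.C15
import Cfsg.Agent.Lib.Lead.Fi24Out.T3
import Cfsg.Agent.Lib.Lead.Fi24Out.T5
import Cfsg.Agent.Lib.Lead.Fi24Out.T7
import Cfsg.Agent.Lib.Lead.Fi24Out.T8
import Cfsg.Agent.Lib.Lead.Fi24Out.T10
import Cfsg.Agent.Lib.Lead.Fi24Out.T11
import Cfsg.Agent.Lib.Lead.Fi24Out.T12
import Cfsg.Agent.Lib.Lead.Fi24Out.T13
import Cfsg.Agent.Lib.Lead.Fi24Out.T14

/-! # The outer automorphism group of Fi₂₄′: the element number 15 (generated) -/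

set_option autoImplicit false
set_option maxRecDepth 100000

namespace Cfsg.Agent.Fi24Out

open Cfsg.Agent.PF Cfsg.Agent.Lib.Helper6 Cfsg.Agent.Lib.Helper6.TC
open Cfsg.Agent.PL (Acts evalF)

theorem rep15 : Rep P' f15 :=
  (rep_wordR (l := W15) (Reps.cons rep12 (Reps.cons rep13 (Reps.cons rep12 (Reps.cons rep12 (Reps.cons rep14 (Reps.cons rep13 (Reps.cons rep13 (Reps.cons rep11 (Reps.cons rep8 (Reps.cons rep3 (Reps.cons rep5 (Reps.cons rep3 (Reps.cons rep10 (Reps.cons rep3 (Reps.cons rep12 (Reps.cons rep7 (Reps.nil P')))))))))))))))))).congr eq15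

end Cfsg.Agent.Fi24Out
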