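import Cfsg.Agent.Lib.Lead.Fi24Out.C16
import Cfsg.Agent.Lib.Lead.Fi24Out.T0
import Cfsg.Agent.Lib.Lead.Fi24Out.T3
import Cfsg.Agent.Lib.Lead.Fi24Out.T5
import Cfsg.Agent.Lib.Lead.Fi24Out.T9
import Cfsg.Agent.Lib.Lead.Fi24Out.T10
import Cfsg.Agent.Lib.Lead.Fi24Out.T11
import Cfsg.Agent.Lib.Lead.Fi24Out.T12
import Cfsg.Agent.Lib.Lead.Fi24Out.T13
import Cfsg.Agent.Lib.Lead.Fi24Out.T14

/-! # The outer automorphism group of Fi₂₄′: the element number 16 (generated) -/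

set_option autoImplicit false
set_option maxRecDepth 100000

namespace Cfsg.Agent.Fi24Out

open Cfsg.Agent.PF Cfsg.Agent.Lib.Helper6 Cfsg.Agent.Lib.Helper6.TC
open Cfsg.Agent.PL (Acts evalF)

theorem rep16 : Rep P' f16 :=
  (rep_wordR (l := W16) (Reps.cons rep11 (Reps.cons rep12 (Reps.cons rep11 (Reps.cons rep14 (Reps.cons rep11 (Reps.cons rep12 (Reps.cons rep13 (Reps.cons rep0 (Reps.cons rep0 (Reps.cons rep0 (Reps.cons rep13 (Reps.cons rep3 (Reps.cons rep5 (Reps.cons rep9 (Reps.cons rep3 (Reps.cons rep10 (Reps.cons rep13 (Reps.nil P'))))))))))))))))))).congr eq16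

end Cfsg.Agent.Fi24Out
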