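import Cfsg.Agent.Lib.Lead.Fi24Out.C17
import Cfsg.Agent.Lib.Lead.Fi24Out.T1
import Cfsg.Agent.Lib.Lead.Fi24Out.T2
import Cfsg.Agent.Lib.Lead.Fi24Out.T4
import Cfsg.Agent.Lib.Lead.Fi24Out.T5
import Cfsg.Agent.Lib.Lead.Fi24Out.T6
import Cfsg.Agent.Lib.Lead.Fi24Out.T7

/-! # The outer automorphism group of Fi₂₄′: the element number 17 (generated) -/

set_option autoImplicit false
set_option maxRecDepth 100000

namespace Cfsg.Agent.Fi24Out

open Cfsg.Agent.PF Cfsg.Agent.Lib.Helper6 Cfsg.Agent.Lib.Helper6.TC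
open Cfsg.Agent.PL (Acts evalF)

theorem rep17 : Rep P' f17 :=
  (rep_wordR (l := W17) (Reps.cons rep7 (Reps.cons rep2 (Reps.cons rep1 (Reps.cons rep2 (Reps.cons rep4 (Reps.cons rep5 (Reps.cons rep5 (Reps.cons rep6 (Reps.nil P')))))))))).congr eq17

end Cfsg.Agent.Fi24Out
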