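import Cfsg.Agent.Lib.Lead.Fi24Out.C18
import Cfsg.Agent.Lib.Lead.Fi24Out.T11
import Cfsg.Agent.Lib.Lead.Fi24Out.T12
import Cfsg.Agent.Lib.Lead.Fi24Out.T13
import Cfsg.Agent.Lib.Lead.Fi24Out.T14
import Cfsg.Agent.Lib.Lead.Fi24Out.T15
import Cfsg.Agent.Lib.Lead.Fi24Out.T16
import Cfsg.Agent.Lib.Lead.Fi24Out.T17

/-! # The outer automorphism group of Fi₂₄′: the element number 18 (generated) -/

set_option autoImplicit false
set_option maxRecDepth 100000

namespace Cfsg.Agent.Fi24Out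

open Cfsg.Agent.PF Cfsg.Agent.Lib.Helper6 Cfsg.Agent.Lib.Helper6.TC
open Cfsg.Agent.PL (Acts evalF)

theorem rep18 : Rep P' f18 :=
  (rep_wordR (l := W18) (Reps.cons rep11 (Reps.cons rep14 (Reps.cons rep13 (Reps.cons rep12 (Reps.cons rep11 (Reps.cons rep15 (Reps.cons rep16 (Reps.cons rep15 (Reps.cons rep15 (Reps.cons rep17 (Reps.cons rep13 (Reps.cons rep13 (Reps.cons rep13 (Reps.cons rep13 (Reps.cons rep11 (Reps.nil P'))))))))))))))))).congr eq18

end Cfsg.Agent.Fi24Out
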