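import Cfsg.Agent.Lib.Lead.Fi24Out.C19
import Cfsg.Agent.Lib.Lead.Fi24Out.T14
import Cfsg.Agent.Lib.Lead.Fi24Out.T15
import Cfsg.Agent.Lib.Lead.Fi24Out.T16
import Cfsg.Agent.Lib.Lead.Fi24Out.T18

/-! # The outer automorphism group of Fi₂₄′: the element number 19 (generated) -/

set_option autoImplicit false
set_option maxRecDepth 100000

namespace Cfsg.Agent.Fi24Out

open Cfsg.Agent.PF Cfsg.Agent.Lib.Helper6 Cfsg.Agent.Lib.Helper6.TC
open Cfsg.Agent.PL (Acts evalF)

theorem rep19 : Rep P' f19 :=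
  (rep_wordR (l := W19) (Reps.cons rep16 (Reps.cons rep14 (Reps.cons rep18 (Reps.cons rep14 (Reps.cons rep18 (Reps.cons rep15 (Reps.cons rep15 (Reps.cons rep14 (Reps.cons rep18 (Reps.cons rep15 (Reps.cons rep14 (Reps.cons rep16 (Reps.cons rep14 (Reps.cons rep18 (Reps.cons rep14 (Reps.cons rep18 (Reps.nil P')))))))))))))))))).congr eq19

end Cfsg.Agent.Fi24Out
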