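import Cfsg.Agent.Lib.Lead.Fi24Out.C20
import Cfsg.Agent.Lib.Lead.Fi24Out.T2
import Cfsg.Agent.Lib.Lead.Fi24Out.T3
import Cfsg.Agent.Lib.Lead.Fi24Out.T4
import Cfsg.Agent.Lib.Lead.Fi24Out.T10
import Cfsg.Agent.Lib.Lead.Fi24Out.T11
import Cfsg.Agent.Lib.Lead.Fi24Out.T12
import Cfsg.Agent.Lib.Lead.Fi24Out.T13
import Cfsg.Agent.Lib.Lead.Fi24Out.T14
import Cfsg.Agent.Lib.Lead.Fi24Out.T15
import Cfsg.Agent.Lib.Lead.Fi24Out.T16
import Cfsg.Agent.Lib.Lead.Fi24Out.T18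
import Cfsg.Agent.Lib.Lead.Fi24Out.T19

/-! # The outer automorphism group of Fi₂₄′: the element number 20 (generated) -/

set_option autoImplicit false
set_option maxRecDepth 100000

namespace Cfsg.Agent.Fi24Out

open Cfsg.Agent.PF Cfsg.Agent.Lib.Helper6 Cfsg.Agent.Lib.Helper6.TC
open Cfsg.Agent.PL (Acts evalF)

theorem rep20 : Rep P' f20 :=
  (rep_wordR (l := W20) (Reps.cons rep14 (Reps.cons rep19 (Reps.cons rep18 (Reps.cons rep15 (Reps.cons rep16 (Reps.cons rep16 (Reps.cons rep15 (Reps.cons rep11 (Reps.cons rep11 (Reps.cons rep13 (Reps.cons rep13 (Reps.cons rep19 (Reps.cons rep15 (Reps.cons rep4 (Reps.cons rep4 (Reps.cons rep10 (Reps.cons rep3 (Reps.cons rep19 (Reps.cons rep18 (Reps.cons rep12 (Reps.cons rep2 (Reps.nil P'))))))))))))))))))))))).congr eq20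

end Cfsg.Agent.Fi24Out
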