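import Cfsg.Agent.Lib.Lead.Fi24Out.C21
import Cfsg.Agent.Lib.Lead.Fi24Out.T2
import Cfsg.Agent.Lib.Lead.Fi24Out.T7
import Cfsg.Agent.Lib.Lead.Fi24Out.T8
import Cfsg.Agent.Lib.Lead.Fi24Out.T9
import Cfsg.Agent.Lib.Lead.Fi24Out.T11
import Cfsg.Agent.Lib.Lead.Fi24Out.T14
import Cfsg.Agent.Lib.Lead.Fi24Out.T15
import Cfsg.Agent.Lib.Lead.Fi24Out.T17
import Cfsg.Agent.Lib.Lead.Fi24Out.T18
import Cfsg.Agent.Lib.Lead.Fi24Out.T20

/-! # The outer automorphism group of Fi₂₄′: the element number 21 (generated) -/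

set_option autoImplicit false
set_option maxRecDepth 100000

namespace Cfsg.Agent.Fi24Out

open Cfsg.Agent.PF Cfsg.Agent.Lib.Helper6 Cfsg.Agent.Lib.Helper6.TC
open Cfsg.Agent.PL (Acts evalF)

theorem rep21 : Rep P' f21 :=
  (rep_wordR (l := W21) (Reps.cons rep11 (Reps.cons rep14 (Reps.cons rep14 (Reps.cons rep15 (Reps.cons rep20 (Reps.cons rep11 (Reps.cons rep18 (Reps.cons rep7 (Reps.cons rep18 (Reps.cons rep2 (Reps.cons rep8 (Reps.cons rep11 (Reps.cons rep9 (Reps.cons rep18 (Reps.cons rep17 (Reps.nil P'))))))))))))))))).congr eq21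

end Cfsg.Agent.Fi24Out
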