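import Cfsg.Agent.Lib.Lead.Fi24Out.C22
import Cfsg.Agent.Lib.Lead.Fi24Out.T0
import Cfsg.Agent.Lib.Lead.Fi24Out.T1
import Cfsg.Agent.Lib.Lead.Fi24Out.T3
import Cfsg.Agent.Lib.Lead.Fi24Out.T8
import Cfsg.Agent.Lib.Lead.Fi24Out.T9
import Cfsg.Agent.Lib.Lead.Fi24Out.T11
import Cfsg.Agent.Lib.Lead.Fi24Out.T14
import Cfsg.Agent.Lib.Lead.Fi24Out.T15
import Cfsg.Agent.Lib.Lead.Fi24Out.T16
import Cfsg.Agent.Lib.Lead.Fi24Out.T18
import Cfsg.Agent.Lib.Lead.Fi24Out.T19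
import Cfsg.Agent.Lib.Lead.Fi24Out.T20
import Cfsg.Agent.Lib.Lead.Fi24Out.T21

/-! # The outer automorphism group of Fi₂₄′: the element number 22 (generated) -/

set_option autoImplicit false
set_option maxRecDepth 100000

namespace Cfsg.Agent.Fi24Out

open Cfsg.Agent.PF Cfsg.Agent.Lib.Helper6 Cfsg.Agent.Lib.Helper6.TC
open Cfsg.Agent.PL (Acts evalF)

theorem rep22 : Rep P' f22 :=
  (rep_wordR (l := W22) (Reps.cons rep21 (Reps.cons rep21 (Reps.cons rep14 (Reps.cons rep20 (Reps.cons rep20 (Reps.cons rep16 (Reps.cons rep14 (Reps.cons rep11 (Reps.cons rep16 (Reps.cons rep14 (Reps.cons rep15 (Reps.cons rep21 (Reps.cons rep18 (Reps.cons rep0 (Reps.cons rep1 (Reps.cons rep14 (Reps.cons rep8 (Reps.cons rep3 (Reps.cons rep1 (Reps.cons rep9 (Reps.cons rep0 (Reps.cons rep19 (Reps.cons rep21 (Reps.nil P'))))))))))))))))))))))))).congr eq22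

end Cfsg.Agent.Fi24Out
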