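import Cfsg.Agent.Lib.Lead.Fi24Out.C23
import Cfsg.Agent.Lib.Lead.Fi24Out.T19
import Cfsg.Agent.Lib.Lead.Fi24Out.T20
import Cfsg.Agent.Lib.Lead.Fi24Out.T22

/-! # The outer automorphism group of Fi₂₄′: the element number 23 (generated) -/

set_option autoImplicit false
set_option maxRecDepth 100000

namespace Cfsg.Agent.Fi24Out

open Cfsg.Agent.PF Cfsg.Agent.Lib.Helper6 Cfsg.Agent.Lib.Helper6.TC
open Cfsg.Agent.PL (Acts evalF)

theorem rep23 : Rep P' f23 :=
  (rep_wordR (l := W23) (Reps.cons rep20 (Reps.cons rep19 (Reps.cons rep19 (Reps.cons rep20 (Reps.cons rep20 (Reps.cons rep22 (Reps.cons rep19 (Reps.cons rep22 (Reps.cons rep22 (Reps.cons rep19 (Reps.cons rep19 (Reps.cons rep19 (Reps.cons rep19 (Reps.cons rep19 (Reps.cons rep19 (Reps.cons rep22 (Reps.cons rep20 (Reps.cons rep19 (Reps.cons rep19 (Reps.nil P'))))))))))))))))))))).congr eq23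

end Cfsg.Agent.Fi24Out
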