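import Cfsg.Agent.Lib.Lead.Fi24Out.C24
import Cfsg.Agent.Lib.Lead.Fi24Out.T12
import Cfsg.Agent.Lib.Lead.Fi24Out.T13
import Cfsg.Agent.Lib.Lead.Fi24Out.T15
import Cfsg.Agent.Lib.Lead.Fi24Out.T16
import Cfsg.Agent.Lib.Lead.Fi24Out.T17
import Cfsg.Agent.Lib.Lead.Fi24Out.T19
import Cfsg.Agent.Lib.Lead.Fi24Out.T20
import Cfsg.Agent.Lib.Lead.Fi24Out.T22
import Cfsg.Agent.Lib.Lead.Fi24Out.T23

/-! # The outer automorphism group of Fi₂₄′: the element number 24 (generated) -/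

set_option autoImplicit false
set_option maxRecDepth 100000

namespace Cfsg.Agent.Fi24Out

open Cfsg.Agent.PF Cfsg.Agent.Lib.Helper6 Cfsg.Agent.Lib.Helper6.TC
open Cfsg.Agent.PL (Acts evalF)

theorem rep24 : Rep P' f24 :=
  (rep_wordR (l := W24) (Reps.cons rep22 (Reps.cons rep23 (Reps.cons rep20 (Reps.cons rep22 (Reps.cons rep22 (Reps.cons rep22 (Reps.cons rep23 (Reps.cons rep20 (Reps.cons rep20 (Reps.cons rep16 (Reps.cons rep22 (Reps.cons rep15 (Reps.cons rep20 (Reps.cons rep15 (Reps.cons rep17 (Reps.cons rep19 (Reps.cons rep19 (Reps.cons rep19 (Reps.cons rep23 (Reps.cons rep13 (Reps.cons rep22 (Reps.cons rep12 (Reps.cons rep17 (Reps.cons rep17 (Reps.cons rep23 (Reps.cons rep19 (Reps.cons rep15 (Reps.nil P'))))))))))))))))))))))))))))).congr eq24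

end Cfsg.Agent.Fi24Out
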