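import Cfsg.Agent.Lib.Lead.Fi24Out.C25
import Cfsg.Agent.Lib.Lead.Fi24Out.T1
import Cfsg.Agent.Lib.Lead.Fi24Out.T3
import Cfsg.Agent.Lib.Lead.Fi24Out.T6
import Cfsg.Agent.Lib.Lead.Fi24Out.T10
import Cfsg.Agent.Lib.Lead.Fi24Out.T14
import Cfsg.Agent.Lib.Lead.Fi24Out.T15
import Cfsg.Agent.Lib.Lead.Fi24Out.T17
import Cfsg.Agent.Lib.Lead.Fi24Out.T19
import Cfsg.Agent.Lib.Lead.Fi24Out.T20
import Cfsg.Agent.Lib.Lead.Fi24Out.T21
import Cfsg.Agent.Lib.Lead.Fi24Out.T22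
import Cfsg.Agent.Lib.Lead.Fi24Out.T23
import Cfsg.Agent.Lib.Lead.Fi24Out.T24

/-! # The outer automorphism group of Fi₂₄′: the element number 25 (generated) -/

set_option autoImplicit false
set_option maxRecDepth 100000

namespace Cfsg.Agent.Fi24Out

open Cfsg.Agent.PF Cfsg.Agent.Lib.Helper6 Cfsg.Agent.Lib.Helper6.TC
open Cfsg.Agent.PL (Acts evalF)

theorem rep25 : Rep P' f25 :=
  (rep_wordR (l := W25) (Reps.cons rep22 (Reps.cons rep24 (Reps.cons rep19 (Reps.cons rep20 (Reps.cons rep20 (Reps.cons rep23 (Reps.cons rep23 (Reps.cons rep14 (Reps.cons rep14 (Reps.cons rep15 (Reps.cons rep20 (Reps.cons rep22 (Reps.cons rep14 (Reps.cons rep17 (Reps.cons rep17 (Reps.cons rep21 (Reps.cons rep22 (Reps.cons rep23 (Reps.cons rep22 (Reps.cons rep15 (Reps.cons rep10 (Reps.cons rep3 (Reps.cons rep6 (Reps.cons rep20 (Reps.cons rep10 (Reps.cons rep1 (Reps.nil P')))))))))))))))))))))))))))).congr eq25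

end Cfsg.Agent.Fi24Out
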