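import Cfsg.Agent.Lib.Lead.Fi24Out.C26
import Cfsg.Agent.Lib.Lead.Fi24Out.T0
import Cfsg.Agent.Lib.Lead.Fi24Out.T10
import Cfsg.Agent.Lib.Lead.Fi24Out.T13
import Cfsg.Agent.Lib.Lead.Fi24Out.T14
import Cfsg.Agent.Lib.Lead.Fi24Out.T15
import Cfsg.Agent.Lib.Lead.Fi24Out.T17
import Cfsg.Agent.Lib.Lead.Fi24Out.T19
import Cfsg.Agent.Lib.Lead.Fi24Out.T21
import Cfsg.Agent.Lib.Lead.Fi24Out.T22
import Cfsg.Agent.Lib.Lead.Fi24Out.T23
import Cfsg.Agent.Lib.Lead.Fi24Out.T24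
import Cfsg.Agent.Lib.Lead.Fi24Out.T25

/-! # The outer automorphism group of Fi₂₄′: the element number 26 (generated) -/

set_option autoImplicit false
set_option maxRecDepth 100000

namespace Cfsg.Agent.Fi24Out

open Cfsg.Agent.PF Cfsg.Agent.Lib.Helper6 Cfsg.Agent.Lib.Helper6.TC
open Cfsg.Agent.PL (Acts evalF)

theorem rep26 : Rep P' f26 :=
  (rep_wordR (l := W26) (Reps.cons rep23 (Reps.cons rep24 (Reps.cons rep23 (Reps.cons rep25 (Reps.cons rep23 (Reps.cons rep23 (Reps.cons rep19 (Reps.cons rep22 (Reps.cons rep19 (Reps.cons rep24 (Reps.cons rep25 (Reps.cons rep19 (Reps.cons rep19 (Reps.cons rep21 (Reps.cons rep22 (Reps.cons rep22 (Reps.cons rep19 (Reps.cons rep17 (Reps.cons rep15 (Reps.cons rep14 (Reps.cons rep13 (Reps.cons rep21 (Reps.cons rep0 (Reps.cons rep0 (Reps.cons rep23 (Reps.cons rep10 (Reps.cons rep19 (Reps.nil P'))))))))))))))))))))))))))))).congr eq26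

end Cfsg.Agent.Fi24Out
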