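import Cfsg.Agent.Lib.Lead.Fi24Out.C27
import Cfsg.Agent.Lib.Lead.Fi24Out.T0
import Cfsg.Agent.Lib.Lead.Fi24Out.T8
import Cfsg.Agent.Lib.Lead.Fi24Out.T11
import Cfsg.Agent.Lib.Lead.Fi24Out.T15
import Cfsg.Agent.Lib.Lead.Fi24Out.T16
import Cfsg.Agent.Lib.Lead.Fi24Out.T17
import Cfsg.Agent.Lib.Lead.Fi24Out.T18
import Cfsg.Agent.Lib.Lead.Fi24Out.T19
import Cfsg.Agent.Lib.Lead.Fi24Out.T20
import Cfsg.Agent.Lib.Lead.Fi24Out.T21
import Cfsg.Agent.Lib.Lead.Fi24Out.T23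
import Cfsg.Agent.Lib.Lead.Fi24Out.T24
import Cfsg.Agent.Lib.Lead.Fi24Out.T25

/-! # The outer automorphism group of Fi₂₄′: the element number 27 (generated) -/

set_option autoImplicit false
set_option maxRecDepth 100000

namespace Cfsg.Agent.Fi24Out

open Cfsg.Agent.PF Cfsg.Agent.Lib.Helper6 Cfsg.Agent.Lib.Helper6.TC
open Cfsg.Agent.PL (Acts evalF)

theorem rep27 : Rep P' f27 :=
  (rep_wordR (l := W27) (Reps.cons rep23 (Reps.cons rep25 (Reps.cons rep24 (Reps.cons rep23 (Reps.cons rep24 (Reps.cons rep19 (Reps.cons rep19 (Reps.cons rep24 (Reps.cons rep23 (Reps.cons rep19 (Reps.cons rep20 (Reps.cons rep19 (Reps.cons rep15 (Reps.cons rep18 (Reps.cons rep16 (Reps.cons rep21 (Reps.cons rep20 (Reps.cons rep21 (Reps.cons rep11 (Reps.cons rep19 (Reps.cons rep19 (Reps.cons rep16 (Reps.cons rep17 (Reps.cons rep21 (Reps.cons rep0 (Reps.cons rep21 (Reps.cons rep8 (Reps.cons rep23 (Reps.cons rep18 (Reps.cons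 rep8 (Reps.nil P')))))))))))))))))))))))))))))))).congr eq27

end Cfsg.Agent.Fi24Out
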