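import Cfsg.Agent.Lib.Lead.Fi24Out.C28
import Cfsg.Agent.Lib.Lead.Fi24Out.T0
import Cfsg.Agent.Lib.Lead.Fi24Out.T1
import Cfsg.Agent.Lib.Lead.Fi24Out.T2
import Cfsg.Agent.Lib.Lead.Fi24Out.T11
import Cfsg.Agent.Lib.Lead.Fi24Out.T14
import Cfsg.Agent.Lib.Lead.Fi24Out.T24
import Cfsg.Agent.Lib.Lead.Fi24Out.T26
import Cfsg.Agent.Lib.Lead.Fi24Out.T27

/-! # The outer automorphism group of Fi₂₄′: the element number 28 (generated) -/

set_option autoImplicit false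
set_option maxRecDepth 100000

namespace Cfsg.Agent.Fi24Out

open Cfsg.Agent.PF Cfsg.Agent.Lib.Helper6 Cfsg.Agent.Lib.Helper6.TC
open Cfsg.Agent.PL (Acts evalF)

theorem rep28 : Rep P' f28 :=
  (rep_wordR (l := W28) (Reps.cons rep0 (Reps.cons rep24 (Reps.cons rep1 (Reps.cons rep14 (Reps.cons rep26 (Reps.cons rep27 (Reps.cons rep1 (Reps.cons rep2 (Reps.cons rep2 (Reps.cons rep11 (Reps.cons rep26 (Reps.nil P'))))))))))))).congr eq28

end Cfsg.Agent.Fi24Out
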