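import Cfsg.Agent.Lib.Lead.Fi24Out.C29
import Cfsg.Agent.Lib.Lead.Fi24Out.T1
import Cfsg.Agent.Lib.Lead.Fi24Out.T6
import Cfsg.Agent.Lib.Lead.Fi24Out.T8
import Cfsg.Agent.Lib.Lead.Fi24Out.T18
import Cfsg.Agent.Lib.Lead.Fi24Out.T19

/-! # The outer automorphism group of Fi₂₄′: the element number 29 (generated) -/

set_option autoImplicit false
set_option maxRecDepth 100000

namespace Cfsg.Agent.Fi24Out

open Cfsg.Agent.PF Cfsg.Agent.Lib.Helper6 Cfsg.Agent.Lib.Helper6.TC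
open Cfsg.Agent.PL (Acts evalF)

theorem rep29 : Rep P' f29 :=
  (rep_wordR (l := W29) (Reps.cons rep8 (Reps.cons rep19 (Reps.cons rep6 (Reps.cons rep19 (Reps.cons rep1 (Reps.cons rep18 (Reps.nil P')))))))).congr eq29

end Cfsg.Agent.Fi24Out
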