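import Cfsg.Agent.Lib.Lead.Fi24Out.C30
import Cfsg.Agent.Lib.Lead.Fi24Out.T1
import Cfsg.Agent.Lib.Lead.Fi24Out.T9
import Cfsg.Agent.Lib.Lead.Fi24Out.T12
import Cfsg.Agent.Lib.Lead.Fi24Out.T13
import Cfsg.Agent.Lib.Lead.Fi24Out.T20
import Cfsg.Agent.Lib.Lead.Fi24Out.T23
import Cfsg.Agent.Lib.Lead.Fi24Out.T25
import Cfsg.Agent.Lib.Lead.Fi24Out.T26
import Cfsg.Agent.Lib.Lead.Fi24Out.T27
import Cfsg.Agent.Lib.Lead.Fi24Out.T28
import Cfsg.Agent.Lib.Lead.Fi24Out.T29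

/-! # The outer automorphism group of Fi₂₄′: the element number 30 (generated) -/

set_option autoImplicit false
set_option maxRecDepth 100000

namespace Cfsg.Agent.Fi24Out

open Cfsg.Agent.PF Cfsg.Agent.Lib.Helper6 Cfsg.Agent.Lib.Helper6.TC
open Cfsg.Agent.PL (Acts evalF)

theorem rep30 : Rep P' f30 :=
  (rep_wordR (l := W30) (Reps.cons rep29 (Reps.cons rep29 (Reps.cons rep29 (Reps.cons rep28 (Reps.cons rep28 (Reps.cons rep29 (Reps.cons rep28 (Reps.cons rep29 (Reps.cons rep29 (Reps.cons rep29 (Reps.cons rep29 (Reps.cons rep28 (Reps.cons rep29 (Reps.cons rep28 (Reps.cons rep28 (Reps.cons rep28 (Reps.cons rep29 (Reps.cons rep28 (Reps.cons rep26 (Reps.cons rep1 (Reps.cons rep26 (Reps.cons rep9 (Reps.cons rep25 (Reps.cons rep13 (Reps.cons rep20 (Reps.cons rep12 (Reps.cons rep25 (Reps.cons rep23 (Reps.cons rep27 (Reps.nil P'))))))))))))))))))))))))))))))).congr eq30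

end Cfsg.Agent.Fi24Out
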