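import Cfsg.Agent.Lib.Lead.Fi24Out.C31
import Cfsg.Agent.Lib.Lead.Fi24Out.T11
import Cfsg.Agent.Lib.Lead.Fi24Out.T14
import Cfsg.Agent.Lib.Lead.Fi24Out.T16
import Cfsg.Agent.Lib.Lead.Fi24Out.T17
import Cfsg.Agent.Lib.Lead.Fi24Out.T28
import Cfsg.Agent.Lib.Lead.Fi24Out.T29
import Cfsg.Agent.Lib.Lead.Fi24Out.T30

/-! # The outer automorphism group of Fi₂₄′: the element number 31 (generated) -/

set_option autoImplicit false
set_option maxRecDepth 100000

namespace Cfsg.Agent.Fi24Out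

open Cfsg.Agent.PF Cfsg.Agent.Lib.Helper6 Cfsg.Agent.Lib.Helper6.TC
open Cfsg.Agent.PL (Acts evalF)

theorem rep31 : Rep P' f31 :=
  (rep_wordR (l := W31) (Reps.cons rep28 (Reps.cons rep29 (Reps.cons rep28 (Reps.cons rep29 (Reps.cons rep29 (Reps.cons rep29 (Reps.cons rep28 (Reps.cons rep29 (Reps.cons rep30 (Reps.cons rep30 (Reps.cons rep30 (Reps.cons rep28 (Reps.cons rep28 (Reps.cons rep30 (Reps.cons rep11 (Reps.cons rep17 (Reps.cons rep29 (Reps.cons rep14 (Reps.cons rep16 (Reps.nil P'))))))))))))))))))))).congr eq31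

end Cfsg.Agent.Fi24Out
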