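import Cfsg.Agent.Lib.Lead.Fi24Out.C32
import Cfsg.Agent.Lib.Lead.Fi24Out.T0
import Cfsg.Agent.Lib.Lead.Fi24Out.T1
import Cfsg.Agent.Lib.Lead.Fi24Out.T17
import Cfsg.Agent.Lib.Lead.Fi24Out.T20
import Cfsg.Agent.Lib.Lead.Fi24Out.T22
import Cfsg.Agent.Lib.Lead.Fi24Out.T23
import Cfsg.Agent.Lib.Lead.Fi24Out.T24
import Cfsg.Agent.Lib.Lead.Fi24Out.T25
import Cfsg.Agent.Lib.Lead.Fi24Out.T27
import Cfsg.Agent.Lib.Lead.Fi24Out.T28
import Cfsg.Agent.Lib.Lead.Fi24Out.T29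
import Cfsg.Agent.Lib.Lead.Fi24Out.T30
import Cfsg.Agent.Lib.Lead.Fi24Out.T31

/-! # The outer automorphism group of Fi₂₄′: the element number 32 (generated) -/

set_option autoImplicit false
set_option maxRecDepth 100000

namespace Cfsg.Agent.Fi24Out

open Cfsg.Agent.PF Cfsg.Agent.Lib.Helper6 Cfsg.Agent.Lib.Helper6.TC
open Cfsg.Agent.PL (Acts evalF)

theorem rep32 : Rep P' f32 :=
  (rep_wordR (l := W32) (Reps.cons rep30 (Reps.cons rep30 (Reps.cons rep30 (Reps.cons rep30 (Reps.cons rep30 (Reps.cons rep31 (Reps.cons rep30 (Reps.cons rep30 (Reps.cons rep31 (Reps.cons rep31 (Reps.cons rep30 (Reps.cons rep31 (Reps.cons rep31 (Reps.cons rep30 (Reps.cons rep29 (Reps.cons rep28 (Reps.cons rep28 (Reps.cons rep30 (Reps.cons rep30 (Reps.cons rep31 (Reps.cons rep28 (Reps.cons rep30 (Reps.cons rep28 (Reps.cons rep0 (Reps.cons rep17 (Reps.cons rep24 (Reps.cons rep25 (Reps.cons rep22 (Reps.cons rep1 (Reps.cons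 rep23 (Reps.cons rep29 (Reps.cons rep20 (Reps.cons rep24 (Reps.cons rep27 (Reps.nil P')))))))))))))))))))))))))))))))))))).congr eq32

end Cfsg.Agent.Fi24Out
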