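import Cfsg.Agent.Lib.Lead.Fi24Out.C33
import Cfsg.Agent.Lib.Lead.Fi24Out.T1
import Cfsg.Agent.Lib.Lead.Fi24Out.T10
import Cfsg.Agent.Lib.Lead.Fi24Out.T11
import Cfsg.Agent.Lib.Lead.Fi24Out.T14
import Cfsg.Agent.Lib.Lead.Fi24Out.T15
import Cfsg.Agent.Lib.Lead.Fi24Out.T28
import Cfsg.Agent.Lib.Lead.Fi24Out.T29
import Cfsg.Agent.Lib.Lead.Fi24Out.T30
import Cfsg.Agent.Lib.Lead.Fi24Out.T31
import Cfsg.Agent.Lib.Lead.Fi24Out.T32

/-! # The outer automorphism group of Fi₂₄′: the element number 33 (generated) -/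

set_option autoImplicit false
set_option maxRecDepth 100000

namespace Cfsg.Agent.Fi24Out

open Cfsg.Agent.PF Cfsg.Agent.Lib.Helper6 Cfsg.Agent.Lib.Helper6.TC
open Cfsg.Agent.PL (Acts evalF)

theorem rep33 : Rep P' f33 :=
  (rep_wordR (l := W33) (Reps.cons rep30 (Reps.cons rep31 (Reps.cons rep31 (Reps.cons rep30 (Reps.cons rep31 (Reps.cons rep30 (Reps.cons rep31 (Reps.cons rep30 (Reps.cons rep31 (Reps.cons rep30 (Reps.cons rep31 (Reps.cons rep28 (Reps.cons rep29 (Reps.cons rep30 (Reps.cons rep29 (Reps.cons rep30 (Reps.cons rep31 (Reps.cons rep32 (Reps.cons rep30 (Reps.cons rep29 (Reps.cons rep10 (Reps.cons rep11 (Reps.cons rep15 (Reps.cons rep14 (Reps.cons rep1 (Reps.cons rep11 (Reps.nil P')))))))))))))))))))))))))))).congr eq33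

end Cfsg.Agent.Fi24Out
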