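import Cfsg.Agent.Lib.Lead.Fi24Out.C34
import Cfsg.Agent.Lib.Lead.Fi24Out.T30
import Cfsg.Agent.Lib.Lead.Fi24Out.T31
import Cfsg.Agent.Lib.Lead.Fi24Out.T32
import Cfsg.Agent.Lib.Lead.Fi24Out.T33

/-! # The outer automorphism group of Fi₂₄′: the element number 34 (generated) -/

set_option autoImplicit false
set_option maxRecDepth 100000

namespace Cfsg.Agent.Fi24Out

open Cfsg.Agent.PF Cfsg.Agent.Lib.Helper6 Cfsg.Agent.Lib.Helper6.TC
open Cfsg.Agent.PL (Acts evalF)

theorem rep34 : Rep P' f34 :=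
  (rep_wordR (l := W34) (Reps.cons rep33 (Reps.cons rep33 (Reps.cons rep32 (Reps.cons rep33 (Reps.cons rep32 (Reps.cons rep32 (Reps.cons rep32 (Reps.cons rep33 (Reps.cons rep33 (Reps.cons rep33 (Reps.cons rep33 (Reps.cons rep32 (Reps.cons rep32 (Reps.cons rep32 (Reps.cons rep30 (Reps.cons rep30 (Reps.cons rep30 (Reps.cons rep31 (Reps.cons rep33 (Reps.cons rep33 (Reps.cons rep33 (Reps.cons rep31 (Reps.cons rep32 (Reps.cons rep32 (Reps.cons rep32 (Reps.cons rep32 (Reps.cons rep30 (Reps.cons rep32 (Reps.cons rep33 (Reps.cons rep32 (Reps.nil P')))))))))))))))))))))))))))))))).congr eq34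

end Cfsg.Agent.Fi24Out
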