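import Cfsg.Agent.Lib.Lead.Fi24Out.C35
import Cfsg.Agent.Lib.Lead.Fi24Out.T33
import Cfsg.Agent.Lib.Lead.Fi24Out.T34

/-! # The outer automorphism group of Fi₂₄′: the element number 35 (generated) -/

set_option autoImplicit false
set_option maxRecDepth 100000

namespace Cfsg.Agent.Fi24Out

open Cfsg.Agent.PF Cfsg.Agent.Lib.Helper6 Cfsg.Agent.Lib.Helper6.TC
open Cfsg.Agent.PL (Acts evalF)

theorem rep35 : Rep P' f35 :=
  (rep_wordR (l := W35) (Reps.cons rep33 (Reps.cons rep34 (Reps.cons rep33 (Reps.cons rep34 (Reps.cons rep34 (Reps.cons rep33 (Reps.cons rep34 (Reps.cons rep33 (Reps.nil P')))))))))).congr eq35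

end Cfsg.Agent.Fi24Out
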