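import Cfsg.Agent.Lib.Lead.Fi24Out.C36
import Cfsg.Agent.Lib.Lead.Fi24Out.T33
import Cfsg.Agent.Lib.Lead.Fi24Out.T34
import Cfsg.Agent.Lib.Lead.Fi24Out.T35

/-! # The outer automorphism group of Fi₂₄′: the element number 36 (generated) -/

set_option autoImplicit false
set_option maxRecDepth 100000

namespace Cfsg.Agent.Fi24Out

open Cfsg.Agent.PF Cfsg.Agent.Lib.Helper6 Cfsg.Agent.Lib.Helper6.TC
open Cfsg.Agent.PL (Acts evalF)

theorem rep36 : Rep P' f36 :=
  (rep_wordR (l := W36) (Reps.cons rep34 (Reps.cons rep35 (Reps.cons rep34 (Reps.cons rep34 (Reps.cons rep34 (Reps.cons rep34 (Reps.cons rep34 (Reps.cons rep35 (Reps.cons rep35 (Reps.cons rep34 (Reps.cons rep35 (Reps.cons rep33 (Reps.cons rep33 (Reps.cons rep34 (Reps.cons rep33 (Reps.cons rep33 (Reps.cons rep34 (Reps.cons rep33 (Reps.cons rep35 (Reps.cons rep35 (Reps.cons rep33 (Reps.cons rep35 (Reps.cons rep34 (Reps.nil P'))))))))))))))))))))))))).congr eq36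

end Cfsg.Agent.Fi24Out
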