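import Cfsg.Agent.Lib.Lead.Fi24Out.LevBD
import Cfsg.Agent.Lib.Lead.Fi24Out.T0
import Cfsg.Agent.Lib.Lead.Fi24Out.T1
import Cfsg.Agent.Lib.Lead.Fi24Out.T2
import Cfsg.Agent.Lib.Lead.Fi24Out.T3
import Cfsg.Agent.Lib.Lead.Fi24Out.T4
import Cfsg.Agent.Lib.Lead.Fi24Out.T5
import Cfsg.Agent.Lib.Lead.Fi24Out.T6
import Cfsg.Agent.Lib.Lead.Fi24Out.T7
import Cfsg.Agent.Lib.Lead.Fi24Out.T8
import Cfsg.Agent.Lib.Lead.Fi24Out.T9
import Cfsg.Agent.Lib.Lead.Fi24Out.T10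
import Cfsg.Agent.Lib.Lead.Fi24Out.T11
import Cfsg.Agent.Lib.Lead.Fi24Out.T12
import Cfsg.Agent.Lib.Lead.Fi24Out.T13
import Cfsg.Agent.Lib.Lead.Fi24Out.T14
import Cfsg.Agent.Lib.Lead.Fi24Out.T15
import Cfsg.Agent.Lib.Lead.Fi24Out.T16
import Cfsg.Agent.Lib.Lead.Fi24Out.T17
import Cfsg.Agent.Lib.Lead.Fi24Out.T18
import Cfsg.Agent.Lib.Lead.Fi24Out.T19
import Cfsg.Agent.Lib.Lead.Fi24Out.T20
import Cfsg.Agent.Lib.Lead.Fi24Out.T21
import Cfsg.Agent.Lib.Lead.Fi24Out.T22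
import Cfsg.Agent.Lib.Lead.Fi24Out.T23
import Cfsg.Agent.Lib.Lead.Fi24Out.T24
import Cfsg.Agent.Lib.Lead.Fi24Out.T25
import Cfsg.Agent.Lib.Lead.Fi24Out.T26
import Cfsg.Agent.Lib.Lead.Fi24Out.T27
import Cfsg.Agent.Lib.Lead.Fi24Out.T28
import Cfsg.Agent.Lib.Lead.Fi24Out.T29
import Cfsg.Agent.Lib.Lead.Fi24Out.T30
import Cfsg.Agent.Lib.Lead.Fi24Out.T31
import Cfsg.Agent.Lib.Lead.Fi24Out.T32
import Cfsg.Agent.Lib.Lead.Fi24Out.T33
import Cfsg.Agent.Lib.Lead.Fi24Out.T34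
import Cfsg.Agent.Lib.Lead.Fi24Out.T35
import Cfsg.Agent.Lib.Lead.Fi24Out.T36

/-! # The outer automorphism group of Fi₂₄′: the generators of the trees of the chain `B` are elements of the group (generated) -/

set_option autoImplicit false
set_option maxRecDepth 100000

namespace Cfsg.Agent.Fi24Out

open Cfsg.Agent.PF Cfsg.Agent.Lib.Helper6 Cfsg.Agent.Lib.Helper6.TC
open Cfsg.Agent.PL (Acts evalF)

theorem repsB0 : Reps P' LB0.2.1 :=
  (Reps.cons rep0 (Reps.cons rep1 (Reps.cons rep2 (Reps.cons rep3 (Reps.cons rep4 (Reps.cons rep5 (Reps.cons rep6 (Reps.cons rep7 (Reps.cons rep8 (Reps.cons rep9 (Reps.cons rep10 (Reps.cons rep11 (Reps.cons rep12 (Reps.cons rep13 (Reps.cons rep14 (Reps.cons rep15 (Reps.cons rep16 (Reps.cons rep17 (Reps.cons rep18 (Reps.cons rep19 (Reps.cons rep20 (Reps.cons rep21 (Reps.cons rep22 (Reps.cons rep23 (Reps.cons rep24 (Reps.cons rep25 (Reps.cons rep26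 (Reps.cons rep27 (Reps.cons rep28 (Reps.cons rep29 (Reps.cons rep30 (Reps.cons rep31 (Reps.cons rep32 (Reps.cons rep33 (Reps.cons rep34 (Reps.cons rep35 (Reps.cons rep36 (Reps.nil P'))))))))))))))))))))))))))))))))))))))

theorem repsB1 : Reps P' LB1.2.1 :=
  (Reps.cons rep28 (Reps.cons rep29 (Reps.cons rep30 (Reps.cons rep31 (Reps.cons rep32 (Reps.cons rep33 (Reps.cons rep34 (Reps.cons rep35 (Reps.cons rep36 (Reps.nil P'))))))))))

theorem repsB2 : Reps P' LB2.2.1 :=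
  (Reps.cons rep30 (Reps.cons rep31 (Reps.cons rep32 (Reps.cons rep33 (Reps.cons rep34 (Reps.cons rep35 (Reps.cons rep36 (Reps.nil P'))))))))

theorem repsB3 : Reps P' LB3.2.1 :=
  (Reps.cons rep32 (Reps.cons rep33 (Reps.cons rep34 (Reps.cons rep35 (Reps.cons rep36 (Reps.nil P'))))))

theorem repsB4 : Reps P' LB4.2.1 :=
  (Reps.cons rep34 (Reps.cons rep35 (Reps.cons rep36 (Reps.nil P'))))

theorem repsB5 : Reps P' LB5.2.1 :=
  (Reps.cons rep36 (Reps.nil P'))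

theorem hB : ∀ L ∈ LB0 :: LsB, ∀ c ∈ L.2.1, Rep P' c := by
  intro L hL
  simp only [LsB, List.mem_cons, List.not_mem_nil, or_false] at hL
  rcases hL with rfl | rfl | rfl | rfl | rfl | rfl
  · exact repsB0
  · exact repsB1
  · exact repsB2
  · exact repsB3
  · exact repsB4
  · exact repsB5

end Cfsg.Agent.Fi24Out
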