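import Cfsg.Agent.Lib.Lead.Fi24Out.C37
import Cfsg.Agent.Lib.Lead.Fi24Out.T0
import Cfsg.Agent.Lib.Lead.Fi24Out.T4
import Cfsg.Agent.Lib.Lead.Fi24Out.T11
import Cfsg.Agent.Lib.Lead.Fi24Out.T14
import Cfsg.Agent.Lib.Lead.Fi24Out.T15
import Cfsg.Agent.Lib.Lead.Fi24Out.T16
import Cfsg.Agent.Lib.Lead.Fi24Out.T17
import Cfsg.Agent.Lib.Lead.Fi24Out.T18
import Cfsg.Agent.Lib.Lead.Fi24Out.T19
import Cfsg.Agent.Lib.Lead.Fi24Out.T22
import Cfsg.Agent.Lib.Lead.Fi24Out.T23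
import Cfsg.Agent.Lib.Lead.Fi24Out.T24
import Cfsg.Agent.Lib.Lead.Fi24Out.T25

/-! # The outer automorphism group of Fi₂₄′: the element number 37 (generated) -/

set_option autoImplicit false
set_option maxRecDepth 100000

namespace Cfsg.Agent.Fi24Out

open Cfsg.Agent.PF Cfsg.Agent.Lib.Helper6 Cfsg.Agent.Lib.Helper6.TC
open Cfsg.Agent.PL (Acts evalF)

theorem rep37 : Rep P' f37 :=
  (rep_wordR (l := W37) (Reps.cons rep24 (Reps.cons rep25 (Reps.cons rep25 (Reps.cons rep24 (Reps.cons rep23 (Reps.cons rep25 (Reps.cons rep19 (Reps.cons rep22 (Reps.cons rep19 (Reps.cons rep23 (Reps.cons rep19 (Reps.cons rep23 (Reps.cons rep18 (Reps.cons rep25 (Reps.cons rep15 (Reps.cons rep23 (Reps.cons rep16 (Reps.cons rep17 (Reps.cons rep14 (Reps.cons rep11 (Reps.cons rep11 (Reps.cons rep16 (Reps.cons rep0 (Reps.cons rep11 (Reps.cons rep22 (Reps.cons rep17 (Reps.cons rep16 (Reps.cons rep4 (Reps.nil P')))))))))))))))))))))))))))))).congr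 eq37

end Cfsg.Agent.Fi24Out
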