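import Cfsg.Agent.Lib.Lead.Fi24Out.T26
import Cfsg.Agent.Lib.Lead.Fi24Out.T27
import Cfsg.Agent.Lib.Lead.Fi24Out.T37

/-! # The outer automorphism group of Fi₂₄′: the elements `x`, `y`, `w` (generated) -/

set_option autoImplicit false
set_option maxRecDepth 100000

namespace Cfsg.Agent.Fi24Out

open Cfsg.Agent.PF Cfsg.Agent.Lib.Helper6 Cfsg.Agent.Lib.Helper6.TC
open Cfsg.Agent.PL (Acts evalF)

/-- the element `x` of order 29 -/
noncomputable def x : Equiv.Perm (Fin 306936) := Classical.choose rep26
/-- the element `y` normalising `⟨x⟩` -/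
noncomputable def y : Equiv.Perm (Fin 306936) := Classical.choose rep27
/-- the element `w` normalising `⟨y⟩` -/
noncomputable def w : Equiv.Perm (Fin 306936) := Classical.choose rep37

theorem hx : x ∈ P' := (Classical.choose_spec rep26).1
theorem hy : y ∈ P' := (Classical.choose_spec rep27).1
theorem hw : w ∈ P' := (Classical.choose_spec rep37).1
theorem ax : Acts x f26 := (Classical.choose_spec rep26).2
theorem ay : Acts y f27 := (Classical.choose_spec rep27).2
theorem aw : Acts w f37 := (Classical.choose_spec rep37).2

/-- the subgroup generated by `x`, `y`, `w` -/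
noncomputable abbrev K : Subgroup (Equiv.Perm (Fin 306936)) := Subgroup.closure {x, y, w}

theorem repK26 : Rep K f26 := ⟨x, Subgroup.subset_closure (by simp), ax⟩
theorem repK27 : Rep K f27 := ⟨y, Subgroup.subset_closure (by simp), ay⟩
theorem repK37 : Rep K f37 := ⟨w, Subgroup.subset_closure (by simp), aw⟩

end Cfsg.Agent.Fi24Out
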