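import Cfsg.Agent.Lib.Lead.Fi24Out.C38
import Cfsg.Agent.Lib.Lead.Fi24Out.XYW

/-! # The outer automorphism group of Fi₂₄′: the element number 38 (generated) -/

set_option autoImplicit false
set_option maxRecDepth 100000

namespace Cfsg.Agent.Fi24Out

open Cfsg.Agent.PF Cfsg.Agent.Lib.Helper6 Cfsg.Agent.Lib.Helper6.TC
open Cfsg.Agent.PL (Acts evalF)

theorem rep38 : Rep K f38 :=
  (rep_wordR (l := W38) (Reps.cons repK26 (Reps.cons repK27 (Reps.cons repK37 (Reps.cons repK37 (Reps.cons repK26 (Reps.cons repK37 (Reps.cons repK26 (Reps.cons repK37 (Reps.cons repK26 (Reps.cons repK27 (Reps.cons repK26 (Reps.cons repK27 (Reps.cons repK37 (Reps.cons repK37 (Reps.cons repK37 (Reps.cons repK27 (Reps.cons repK26 (Reps.cons repK27 (Reps.cons repK27 (Reps.cons repK27 (Reps.cons repK37 (Reps.cons repK27 (Reps.cons repK26 (Reps.cons repK26 (Reps.cons repK27 (Reps.nil K))))))))))))))))))))))))))).congr eq38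

end Cfsg.Agent.Fi24Out
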