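import Cfsg.Agent.Lib.Lead.Fi24Out.C41
import Cfsg.Agent.Lib.Lead.Fi24Out.T38
import Cfsg.Agent.Lib.Lead.Fi24Out.T39
import Cfsg.Agent.Lib.Lead.Fi24Out.T40
import Cfsg.Agent.Lib.Lead.Fi24Out.XYW

/-! # The outer automorphism group of Fi₂₄′: the element number 41 (generated) -/

set_option autoImplicit false
set_option maxRecDepth 100000

namespace Cfsg.Agent.Fi24Out

open Cfsg.Agent.PF Cfsg.Agent.Lib.Helper6 Cfsg.Agent.Lib.Helper6.TC
open Cfsg.Agent.PL (Acts evalF)

theorem rep41 : Rep K f41 :=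
  (rep_wordR (l := W41) (Reps.cons rep39 (Reps.cons rep40 (Reps.cons rep38 (Reps.cons rep39 (Reps.cons rep40 (Reps.cons rep39 (Reps.cons rep39 (Reps.cons rep38 (Reps.cons rep39 (Reps.cons rep38 (Reps.cons rep39 (Reps.cons rep39 (Reps.cons repK37 (Reps.cons repK37 (Reps.cons rep38 (Reps.cons rep40 (Reps.cons rep40 (Reps.cons rep38 (Reps.cons repK27 (Reps.cons rep40 (Reps.cons repK27 (Reps.cons rep38 (Reps.cons repK37 (Reps.cons repK26 (Reps.cons rep38 (Reps.cons rep39 (Reps.cons rep40 (Reps.cons repK26 (Reps.cons repK27 (Reps.nil K))))))))))))))))))))))))))))))).congr eq41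

end Cfsg.Agent.Fi24Out
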