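import Cfsg.Agent.Lib.Lead.Fi24Out.C43
import Cfsg.Agent.Lib.Lead.Fi24Out.T38
import Cfsg.Agent.Lib.Lead.Fi24Out.T39
import Cfsg.Agent.Lib.Lead.Fi24Out.T40
import Cfsg.Agent.Lib.Lead.Fi24Out.T41
import Cfsg.Agent.Lib.Lead.Fi24Out.T42
import Cfsg.Agent.Lib.Lead.Fi24Out.XYW

/-! # The outer automorphism group of Fi₂₄′: the element number 43 (generated) -/

set_option autoImplicit false
set_option maxRecDepth 100000

namespace Cfsg.Agent.Fi24Out

open Cfsg.Agent.PF Cfsg.Agent.Lib.Helper6 Cfsg.Agent.Lib.Helper6.TC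
open Cfsg.Agent.PL (Acts evalF)

theorem rep43 : Rep K f43 :=
  (rep_wordR (l := W43) (Reps.cons rep40 (Reps.cons rep40 (Reps.cons rep40 (Reps.cons rep42 (Reps.cons rep42 (Reps.cons rep40 (Reps.cons rep42 (Reps.cons rep41 (Reps.cons rep41 (Reps.cons rep42 (Reps.cons rep39 (Reps.cons rep39 (Reps.cons rep38 (Reps.cons rep39 (Reps.cons rep42 (Reps.cons rep38 (Reps.cons rep41 (Reps.cons rep42 (Reps.cons rep41 (Reps.cons repK27 (Reps.cons repK27 (Reps.cons rep40 (Reps.cons repK26 (Reps.cons rep38 (Reps.cons repK26 (Reps.cons rep40 (Reps.cons rep38 (Reps.cons rep39 (Reps.cons rep39 (Reps.cons rep42 (Reps.cons rep41 (Reps.cons repK26 (Reps.cons rep42 (Reps.cons rep38 (Reps.cons rep41 (Reps.cons rep41 (Reps.nil K)))))))))))))))))))))))))))))))))))))).congr eq43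

end Cfsg.Agent.Fi24Out
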