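import Cfsg.Agent.Lib.Lead.Fi24Out.C45
import Cfsg.Agent.Lib.Lead.Fi24Out.T38
import Cfsg.Agent.Lib.Lead.Fi24Out.T39
import Cfsg.Agent.Lib.Lead.Fi24Out.T40
import Cfsg.Agent.Lib.Lead.Fi24Out.T41
import Cfsg.Agent.Lib.Lead.Fi24Out.T42
import Cfsg.Agent.Lib.Lead.Fi24Out.T43
import Cfsg.Agent.Lib.Lead.Fi24Out.T44
import Cfsg.Agent.Lib.Lead.Fi24Out.XYW

/-! # The outer automorphism group of Fi₂₄′: the element number 45 (generated) -/

set_option autoImplicit false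
set_option maxRecDepth 100000

namespace Cfsg.Agent.Fi24Out

open Cfsg.Agent.PF Cfsg.Agent.Lib.Helper6 Cfsg.Agent.Lib.Helper6.TC
open Cfsg.Agent.PL (Acts evalF)

theorem rep45 : Rep K f45 :=
  (rep_wordR (l := W45) (Reps.cons rep43 (Reps.cons rep44 (Reps.cons rep42 (Reps.cons rep43 (Reps.cons rep42 (Reps.cons rep43 (Reps.cons rep42 (Reps.cons rep43 (Reps.cons rep43 (Reps.cons rep43 (Reps.cons rep41 (Reps.cons rep42 (Reps.cons rep41 (Reps.cons rep44 (Reps.cons rep43 (Reps.cons rep40 (Reps.cons rep44 (Reps.cons rep43 (Reps.cons rep44 (Reps.cons rep38 (Reps.cons rep39 (Reps.cons rep44 (Reps.cons rep38 (Reps.cons rep39 (Reps.cons rep38 (Reps.cons rep41 (Reps.cons rep40 (Reps.cons repK27 (Reps.cons rep40 (Reps.cons repK37 (Reps.cons rep43 (Reps.cons repK27 (Reps.cons rep42 (Reps.cons repK26 (Reps.cons rep39 (Reps.cons rep44 (Reps.cons rep44 (Reps.cons rep44 (Reps.cons rep41 (Reps.cons repK37 (Reps.cons repK37 (Reps.cons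 rep43 (Reps.nil K)))))))))))))))))))))))))))))))))))))))))))).congr eq45

end Cfsg.Agent.Fi24Out
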