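import Cfsg.Agent.Lib.Lead.Fi24Out.C46
import Cfsg.Agent.Lib.Lead.Fi24Out.T38
import Cfsg.Agent.Lib.Lead.Fi24Out.T40
import Cfsg.Agent.Lib.Lead.Fi24Out.T41
import Cfsg.Agent.Lib.Lead.Fi24Out.T42
import Cfsg.Agent.Lib.Lead.Fi24Out.T43
import Cfsg.Agent.Lib.Lead.Fi24Out.T44
import Cfsg.Agent.Lib.Lead.Fi24Out.T45
import Cfsg.Agent.Lib.Lead.Fi24Out.XYW

/-! # The outer automorphism group of Fi₂₄′: the element number 46 (generated) -/

set_option autoImplicit false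
set_option maxRecDepth 100000

namespace Cfsg.Agent.Fi24Out

open Cfsg.Agent.PF Cfsg.Agent.Lib.Helper6 Cfsg.Agent.Lib.Helper6.TC
open Cfsg.Agent.PL (Acts evalF)

theorem rep46 : Rep K f46 :=
  (rep_wordR (l := W46) (Reps.cons rep43 (Reps.cons rep42 (Reps.cons rep45 (Reps.cons rep44 (Reps.cons rep43 (Reps.cons rep45 (Reps.cons rep43 (Reps.cons rep42 (Reps.cons rep43 (Reps.cons rep40 (Reps.cons rep43 (Reps.cons rep44 (Reps.cons rep40 (Reps.cons rep41 (Reps.cons rep45 (Reps.cons rep45 (Reps.cons rep40 (Reps.cons rep38 (Reps.cons rep40 (Reps.cons rep44 (Reps.cons rep45 (Reps.cons rep42 (Reps.cons rep38 (Reps.cons rep43 (Reps.cons rep43 (Reps.cons rep38 (Reps.cons rep41 (Reps.cons rep43 (Reps.cons rep40 (Reps.cons rep44 (Reps.cons rep40 (Reps.cons rep42 (Reps.nil K)))))))))))))))))))))))))))))))))).congr eq46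

end Cfsg.Agent.Fi24Out
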