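import Cfsg.Agent.Lib.Lead.Fi24Out.LevGD
import Cfsg.Agent.Lib.Lead.Fi24Out.T38
import Cfsg.Agent.Lib.Lead.Fi24Out.T39
import Cfsg.Agent.Lib.Lead.Fi24Out.T40
import Cfsg.Agent.Lib.Lead.Fi24Out.T41
import Cfsg.Agent.Lib.Lead.Fi24Out.T42
import Cfsg.Agent.Lib.Lead.Fi24Out.T43
import Cfsg.Agent.Lib.Lead.Fi24Out.T44
import Cfsg.Agent.Lib.Lead.Fi24Out.T45
import Cfsg.Agent.Lib.Lead.Fi24Out.T46
import Cfsg.Agent.Lib.Lead.Fi24Out.XYW

/-! # The outer automorphism group of Fi₂₄′: the generators of the trees of the chain `G` are elements of the group (generated) -/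

set_option autoImplicit false
set_option maxRecDepth 100000

namespace Cfsg.Agent.Fi24Out

open Cfsg.Agent.PF Cfsg.Agent.Lib.Helper6 Cfsg.Agent.Lib.Helper6.TC
open Cfsg.Agent.PL (Acts evalF)

theorem repsG0 : Reps K LG0.2.1 :=
  (Reps.cons repK26 (Reps.cons repK27 (Reps.cons repK37 (Reps.cons rep38 (Reps.cons rep39 (Reps.cons rep40 (Reps.cons rep41 (Reps.cons rep42 (Reps.cons rep43 (Reps.cons rep44 (Reps.cons rep45 (Reps.cons rep46 (Reps.nil K)))))))))))))

theorem repsG1 : Reps K LG1.2.1 :=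
  (Reps.cons rep38 (Reps.cons rep39 (Reps.cons rep40 (Reps.cons rep41 (Reps.cons rep42 (Reps.cons rep43 (Reps.cons rep44 (Reps.cons rep45 (Reps.cons rep46 (Reps.nil K))))))))))

theorem repsG2 : Reps K LG2.2.1 :=
  (Reps.cons rep40 (Reps.cons rep41 (Reps.cons rep42 (Reps.cons rep43 (Reps.cons rep44 (Reps.cons rep45 (Reps.cons rep46 (Reps.nil K))))))))

theorem repsG3 : Reps K LG3.2.1 :=
  (Reps.cons rep42 (Reps.cons rep43 (Reps.cons rep44 (Reps.cons rep45 (Reps.cons rep46 (Reps.nil K))))))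

theorem repsG4 : Reps K LG4.2.1 :=
  (Reps.cons rep44 (Reps.cons rep45 (Reps.cons rep46 (Reps.nil K))))

theorem hG : ∀ L ∈ LG0 :: LsG, ∀ c ∈ L.2.1, Rep K c := by
  intro L hL
  simp only [LsG, List.mem_cons, List.not_mem_nil, or_false] at hL
  rcases hL with rfl | rfl | rfl | rfl | rfl
  · exact repsG0
  · exact repsG1
  · exact repsG2
  · exact repsG3
  · exact repsG4

end Cfsg.Agent.Fi24Out
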