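import Cfsg.Agent.Lib.Lead.Fi24Out.LevAD
import Cfsg.Agent.Lib.Lead.Fi24Out.DG0

/-! # The outer automorphism group of Fi₂₄′: `x` and its conjugate by the generator `l` are not conjugate in the commutator subgroup, slices (generated) -/

set_option autoImplicit false
set_option Elab.async false
set_option maxRecDepth 100000

namespace Cfsg.Agent.Fi24Out

open Cfsg.Agent.PF Cfsg.Agent.Lib.Helper6 Cfsg.Agent.Lib.Helper6.TC
open Cfsg.Agent.PL (Acts evalF)

theorem chk_nonc_200 : allR 133200 666 (fun q => (fun q => (cand 306936 10 f26 fxs [0, 1] (LA0 :: LsA) q).isNone) q) = true := by decide +kernel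

theorem chk_nonc_201 : allR 133866 666 (fun q => (fun q => (cand 306936 10 f26 fxs [0, 1] (LA0 :: LsA) q).isNone) q) = true := by decide +kernel

theorem chk_nonc_202 : allR 134532 666 (fun q => (fun q => (cand 306936 10 f26 fxs [0, 1] (LA0 :: LsA) q).isNone) q) = true := by decide +kernel

theorem chk_nonc_203 : allR 135198 666 (fun q => (fun q => (cand 306936 10 f26 fxs [0, 1] (LA0 :: LsA) q).isNone) q) = true := by decide +kernel

theorem chk_nonc_204 : allR 135864 666 (fun q => (fun q => (cand 306936 10 f26 fxs [0, 1] (LA0 :: LsA) q).isNone) q) = true := by decide +kernel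

theorem chk_nonc_205 : allR 136530 666 (fun q => (fun q => (cand 306936 10 f26 fxs [0, 1] (LA0 :: LsA) q).isNone) q) = true := by decide +kernel

theorem chk_nonc_206 : allR 137196 666 (fun q => (fun q => (cand 306936 10 f26 fxs [0, 1] (LA0 :: LsA) q).isNone) q) = true := by decide +kernel

theorem chk_nonc_207 : allR 137862 666 (fun q => (fun q => (cand 306936 10 f26 fxs [0, 1] (LA0 :: LsA) q).isNone) q) = true := by decide +kernel

theorem chk_nonc_208 : allR 138528 666 (fun q => (fun q => (cand 306936 10 f26 fxs [0, 1] (LA0 :: LsA) q).isNone) q) = true := by decide +kernel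

theorem chk_nonc_209 : allR 139194 666 (fun q => (fun q => (cand 306936 10 f26 fxs [0, 1] (LA0 :: LsA) q).isNone) q) = true := by decide +kernel

theorem chk_nonc_210 : allR 139860 666 (fun q => (fun q => (cand 306936 10 f26 fxs [0, 1] (LA0 :: LsA) q).isNone) q) = true := by decide +kernel

theorem chk_nonc_211 : allR 140526 666 (fun q => (fun q => (cand 306936 10 f26 fxs [0, 1] (LA0 :: LsA) q).isNone) q) = true := by decide +kernel

theorem chk_nonc_212 : allR 141192 666 (fun q => (fun q => (cand 306936 10 f26 fxs [0, 1] (LA0 :: LsA) q).isNone) q) = true := by decide +kernel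

theorem chk_nonc_213 : allR 141858 666 (fun q => (fun q => (cand 306936 10 f26 fxs [0, 1] (LA0 :: LsA) q).isNone) q) = true := by decide +kernel

theorem chk_nonc_214 : allR 142524 666 (fun q => (fun q => (cand 306936 10 f26 fxs [0, 1] (LA0 :: LsA) q).isNone) q) = true := by decide +kernel

theorem chk_nonc_215 : allR 143190 666 (fun q => (fun q => (cand 306936 10 f26 fxs [0, 1] (LA0 :: LsA) q).isNone) q) = true := by decide +kernel

theorem chk_nonc_216 : allR 143856 666 (fun q => (fun q => (cand 306936 10 f26 fxs [0, 1] (LA0 :: LsA) q).isNone) q) = true := by decide +kernel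

theorem chk_nonc_217 : allR 144522 666 (fun q => (fun q => (cand 306936 10 f26 fxs [0, 1] (LA0 :: LsA) q).isNone) q) = true := by decide +kernel

theorem chk_nonc_218 : allR 145188 666 (fun q => (fun q => (cand 306936 10 f26 fxs [0, 1] (LA0 :: LsA) q).isNone) q) = true := by decide +kernel

theorem chk_nonc_219 : allR 145854 666 (fun q => (fun q => (cand 306936 10 f26 fxs [0, 1] (LA0 :: LsA) q).isNone) q) = true := by decide +kernel


end Cfsg.Agent.Fi24Out
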