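import Cfsg.Agent.Lib.Lead.Fi24Out.Nonc_0
import Cfsg.Agent.Lib.Lead.Fi24Out.Nonc_1
import Cfsg.Agent.Lib.Lead.Fi24Out.Nonc_2
import Cfsg.Agent.Lib.Lead.Fi24Out.Nonc_3
import Cfsg.Agent.Lib.Lead.Fi24Out.Nonc_4
import Cfsg.Agent.Lib.Lead.Fi24Out.Nonc_5
import Cfsg.Agent.Lib.Lead.Fi24Out.Nonc_6
import Cfsg.Agent.Lib.Lead.Fi24Out.Nonc_7
import Cfsg.Agent.Lib.Lead.Fi24Out.Nonc_8
import Cfsg.Agent.Lib.Lead.Fi24Out.Nonc_9
import Cfsg.Agent.Lib.Lead.Fi24Out.Nonc_10
import Cfsg.Agent.Lib.Lead.Fi24Out.Nonc_11
import Cfsg.Agent.Lib.Lead.Fi24Out.Nonc_12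
import Cfsg.Agent.Lib.Lead.Fi24Out.Nonc_13
import Cfsg.Agent.Lib.Lead.Fi24Out.Nonc_14
import Cfsg.Agent.Lib.Lead.Fi24Out.Nonc_15
import Cfsg.Agent.Lib.Lead.Fi24Out.Nonc_16
import Cfsg.Agent.Lib.Lead.Fi24Out.Nonc_17
import Cfsg.Agent.Lib.Lead.Fi24Out.Nonc_18
import Cfsg.Agent.Lib.Lead.Fi24Out.Nonc_19
import Cfsg.Agent.Lib.Lead.Fi24Out.Nonc_20
import Cfsg.Agent.Lib.Lead.Fi24Out.Nonc_21
import Cfsg.Agent.Lib.Lead.Fi24Out.Nonc_22
import Cfsg.Agent.Lib.Lead.Fi24Out.Nonc_23
import Cfsg.Agent.Lib.Lead.Fi24Out.Base0

/-! # The outer automorphism group of Fi₂₄′: `x` and its conjugate by the generator `l` are not conjugate in the commutator subgroup (generated) -/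

set_option autoImplicit false
set_option maxRecDepth 100000

namespace Cfsg.Agent.Fi24Out

open Cfsg.Agent.PF Cfsg.Agent.Lib.Helper6 Cfsg.Agent.Lib.Helper6.TC
open Cfsg.Agent.PL (Acts evalF)

theorem chk_nonc_all : ∀ q < 306936, (fun q => (cand 306936 10 f26 fxs [0, 1] (LA0 :: LsA) q).isNone) q = true :=
  forall_lt_of_chunks (f := fun q => (fun q => (cand 306936 10 f26 fxs [0, 1] (LA0 :: LsA) q).isNone) q) [(0, 666), (666, 666), (1332, 666), (1998, 666), (2664, 666), (3330, 666), (3996, 666), (4662, 666), (5328, 666), (5994, 666), (6660, 666), (7326, 666), (7992, 666), (8658, 666), (9324, 666), (9990, 666), (10656, 666), (11322, 666), (11988, 666), (12654, 666), (13320, 666), (13986, 666), (14652, 666), (15318, 666), (15984, 666), (16650, 666), (17316, 666), (17982, 666), (18648, 666), (19314, 666), (19980, 666), (20646, 666), (21312, 666), (21978, 666), (22644, 666), (23310, 666), (23976, 666), (24642, 666), (25308, 666), (25974, 666), (26640, 666), (27306, 666), (27972, 666), (28638, 666), (29304, 666), (29970, 666), (30636, 666),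 (31302, 666), (31968, 666), (32634, 666), (33300, 666), (33966, 666), (34632, 666), (35298, 666), (35964, 666), (36630, 666), (37296, 666), (37962, 666), (38628, 666), (39294, 666), (39960, 666), (40626, 666), (41292, 666), (41958, 666), (42624, 666), (43290, 666), (43956, 666), (44622, 666), (45288, 666), (45954, 666), (46620, 666), (47286, 666), (47952, 666), (48618, 666), (49284, 666), (49950, 666), (50616, 666), (51282, 666), (51948, 666), (52614, 666), (53280, 666), (53946, 666), (54612, 666), (55278, 666), (55944, 666), (56610, 666), (57276, 666), (57942, 666), (58608, 666), (59274, 666), (59940, 666), (60606, 666), (61272, 666), (61938, 666), (62604, 666), (63270, 666), (63936, 666), (64602, 666), (65268, 666), (65934, 666), (66600, 666), (67266, 666), (67932, 666), (68598, 666), (69264, 666), (69930, 666), (70596, 666), (71262, 666), (71928, 666), (72594, 666), (73260, 666), (73926, 666), (74592, 666), (75258, 666), (75924, 666), (76590, 666), (77256, 666), (77922, 666), (78588, 666), (79254, 666), (79920, 666), (80586, 666),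 (81252, 666), (81918, 666), (82584, 666), (83250, 666), (83916, 666), (84582, 666), (85248, 666), (85914, 666), (86580, 666), (87246, 666), (87912, 666), (88578, 666), (89244, 666), (89910, 666), (90576, 666), (91242, 666), (91908, 666), (92574, 666), (93240, 666), (93906, 666), (94572, 666), (95238, 666), (95904, 666), (96570, 666), (97236, 666), (97902, 666), (98568, 666), (99234, 666), (99900, 666), (100566, 666), (101232, 666), (101898, 666), (102564, 666), (103230, 666), (103896, 666), (104562, 666), (105228, 666), (105894, 666), (106560, 666), (107226, 666), (107892, 666), (108558, 666), (109224, 666), (109890, 666), (110556, 666), (111222, 666), (111888, 666), (112554, 666), (113220, 666), (113886, 666), (114552, 666), (115218, 666), (115884, 666), (116550, 666), (117216, 666), (117882, 666), (118548, 666), (119214, 666), (119880, 666), (120546, 666), (121212, 666), (121878, 666), (122544, 666), (123210, 666), (123876, 666), (124542, 666), (125208, 666), (125874, 666), (126540, 666), (127206, 666), (127872, 666), (128538, 666),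 (129204, 666), (129870, 666), (130536, 666), (131202, 666), (131868, 666), (132534, 666), (133200, 666), (133866, 666), (134532, 666), (135198, 666), (135864, 666), (136530, 666), (137196, 666), (137862, 666), (138528, 666), (139194, 666), (139860, 666), (140526, 666), (141192, 666), (141858, 666), (142524, 666), (143190, 666), (143856, 666), (144522, 666), (145188, 666), (145854, 666), (146520, 666), (147186, 666), (147852, 666), (148518, 666), (149184, 666), (149850, 666), (150516, 666), (151182, 666), (151848, 666), (152514, 666), (153180, 666), (153846, 666), (154512, 666), (155178, 666), (155844, 666), (156510, 666), (157176, 666), (157842, 666), (158508, 666), (159174, 666), (159840, 666), (160506, 666), (161172, 666), (161838, 666), (162504, 666), (163170, 666), (163836, 666), (164502, 666), (165168, 666), (165834, 666), (166500, 666), (167166, 666), (167832, 666), (168498, 666), (169164, 666), (169830, 666), (170496, 666), (171162, 666), (171828, 666), (172494, 666), (173160, 666), (173826, 666), (174492, 666), (175158, 666),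 (175824, 666), (176490, 666), (177156, 666), (177822, 666), (178488, 666), (179154, 666), (179820, 666), (180486, 666), (181152, 666), (181818, 666), (182484, 666), (183150, 666), (183816, 666), (184482, 666), (185148, 666), (185814, 666), (186480, 666), (187146, 666), (187812, 666), (188478, 666), (189144, 666), (189810, 666), (190476, 666), (191142, 666), (191808, 666), (192474, 666), (193140, 666), (193806, 666), (194472, 666), (195138, 666), (195804, 666), (196470, 666), (197136, 666), (197802, 666), (198468, 666), (199134, 666), (199800, 666), (200466, 666), (201132, 666), (201798, 666), (202464, 666), (203130, 666), (203796, 666), (204462, 666), (205128, 666), (205794, 666), (206460, 666), (207126, 666), (207792, 666), (208458, 666), (209124, 666), (209790, 666), (210456, 666), (211122, 666), (211788, 666), (212454, 666), (213120, 666), (213786, 666), (214452, 666), (215118, 666), (215784, 666), (216450, 666), (217116, 666), (217782, 666), (218448, 666), (219114, 666), (219780, 666), (220446, 666), (221112, 666), (221778, 666),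 (222444, 666), (223110, 666), (223776, 666), (224442, 666), (225108, 666), (225774, 666), (226440, 666), (227106, 666), (227772, 666), (228438, 666), (229104, 666), (229770, 666), (230436, 666), (231102, 666), (231768, 666), (232434, 666), (233100, 666), (233766, 666), (234432, 666), (235098, 666), (235764, 666), (236430, 666), (237096, 666), (237762, 666), (238428, 666), (239094, 666), (239760, 666), (240426, 666), (241092, 666), (241758, 666), (242424, 666), (243090, 666), (243756, 666), (244422, 666), (245088, 666), (245754, 666), (246420, 666), (247086, 666), (247752, 666), (248418, 666), (249084, 666), (249750, 666), (250416, 666), (251082, 666), (251748, 666), (252414, 666), (253080, 666), (253746, 666), (254412, 666), (255078, 666), (255744, 666), (256410, 666), (257076, 666), (257742, 666), (258408, 666), (259074, 666), (259740, 666), (260406, 666), (261072, 666), (261738, 666), (262404, 666), (263070, 666), (263736, 666), (264402, 666), (265068, 666), (265734, 666), (266400, 666), (267066, 666), (267732, 666), (268398, 666),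 (269064, 666), (269730, 666), (270396, 666), (271062, 666), (271728, 666), (272394, 666), (273060, 666), (273726, 666), (274392, 666), (275058, 666), (275724, 666), (276390, 666), (277056, 666), (277722, 666), (278388, 666), (279054, 666), (279720, 666), (280386, 666), (281052, 666), (281718, 666), (282384, 666), (283050, 666), (283716, 666), (284382, 666), (285048, 666), (285714, 666), (286380, 666), (287046, 666), (287712, 666), (288378, 666), (289044, 666), (289710, 666), (290376, 666), (291042, 666), (291708, 666), (292374, 666), (293040, 666), (293706, 666), (294372, 666), (295038, 666), (295704, 666), (296370, 666), (297036, 666), (297702, 666), (298368, 666), (299034, 666), (299700, 666), (300366, 666), (301032, 666), (301698, 666), (302364, 666), (303030, 666), (303696, 666), (304362, 666), (305028, 666), (305694, 666), (306360, 576)] (by decide)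
    (all_cons chk_nonc_0 (all_cons chk_nonc_1 (all_cons chk_nonc_2 (all_cons chk_nonc_3 (all_cons chk_nonc_4 (all_cons chk_nonc_5 (all_cons chk_nonc_6 (all_cons chk_nonc_7 (all_cons chk_nonc_8 (all_cons chk_nonc_9 (all_cons chk_nonc_10 (all_cons chk_nonc_11 (all_cons chk_nonc_12 (all_cons chk_nonc_13 (all_cons chk_nonc_14 (all_cons chk_nonc_15 (all_cons chk_nonc_16 (all_cons chk_nonc_17 (all_cons chk_nonc_18 (all_cons chk_nonc_19 (all_cons chk_nonc_20 (all_cons chk_nonc_21 (all_cons chk_nonc_22 (all_cons chk_nonc_23 (all_cons chk_nonc_24 (all_cons chk_nonc_25 (all_cons chk_nonc_26 (all_cons chk_nonc_27 (all_cons chk_nonc_28 (all_cons chk_nonc_29 (all_cons chk_nonc_30 (all_cons chk_nonc_31 (all_cons chk_nonc_32 (all_cons chk_nonc_33 (all_cons chk_nonc_34 (all_cons chk_nonc_35 (all_cons chk_nonc_36 (all_cons chk_nonc_37 (all_cons chk_nonc_38 (all_cons chk_nonc_39 (all_cons chk_nonc_40 (all_cons chk_nonc_41 (all_cons chk_nonc_42 (all_cons chk_nonc_43 (all_cons chk_nonc_44 (all_cons chk_nonc_45 (all_cons chk_nonc_46 (all_cons chk_nonc_47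 (all_cons chk_nonc_48 (all_cons chk_nonc_49 (all_cons chk_nonc_50 (all_cons chk_nonc_51 (all_cons chk_nonc_52 (all_cons chk_nonc_53 (all_cons chk_nonc_54 (all_cons chk_nonc_55 (all_cons chk_nonc_56 (all_cons chk_nonc_57 (all_cons chk_nonc_58 (all_cons chk_nonc_59 (all_cons chk_nonc_60 (all_cons chk_nonc_61 (all_cons chk_nonc_62 (all_cons chk_nonc_63 (all_cons chk_nonc_64 (all_cons chk_nonc_65 (all_cons chk_nonc_66 (all_cons chk_nonc_67 (all_cons chk_nonc_68 (all_cons chk_nonc_69 (all_cons chk_nonc_70 (all_cons chk_nonc_71 (all_cons chk_nonc_72 (all_cons chk_nonc_73 (all_cons chk_nonc_74 (all_cons chk_nonc_75 (all_cons chk_nonc_76 (all_cons chk_nonc_77 (all_cons chk_nonc_78 (all_cons chk_nonc_79 (all_cons chk_nonc_80 (all_cons chk_nonc_81 (all_cons chk_nonc_82 (all_cons chk_nonc_83 (all_cons chk_nonc_84 (all_cons chk_nonc_85 (all_cons chk_nonc_86 (all_cons chk_nonc_87 (all_cons chk_nonc_88 (all_cons chk_nonc_89 (all_cons chk_nonc_90 (all_cons chk_nonc_91 (all_cons chk_nonc_92 (all_cons chk_nonc_93 (all_cons chk_nonc_94 (all_cons chk_nonc_95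 (all_cons chk_nonc_96 (all_cons chk_nonc_97 (all_cons chk_nonc_98 (all_cons chk_nonc_99 (all_cons chk_nonc_100 (all_cons chk_nonc_101 (all_cons chk_nonc_102 (all_cons chk_nonc_103 (all_cons chk_nonc_104 (all_cons chk_nonc_105 (all_cons chk_nonc_106 (all_cons chk_nonc_107 (all_cons chk_nonc_108 (all_cons chk_nonc_109 (all_cons chk_nonc_110 (all_cons chk_nonc_111 (all_cons chk_nonc_112 (all_cons chk_nonc_113 (all_cons chk_nonc_114 (all_cons chk_nonc_115 (all_cons chk_nonc_116 (all_cons chk_nonc_117 (all_cons chk_nonc_118 (all_cons chk_nonc_119 (all_cons chk_nonc_120 (all_cons chk_nonc_121 (all_cons chk_nonc_122 (all_cons chk_nonc_123 (all_cons chk_nonc_124 (all_cons chk_nonc_125 (all_cons chk_nonc_126 (all_cons chk_nonc_127 (all_cons chk_nonc_128 (all_cons chk_nonc_129 (all_cons chk_nonc_130 (all_cons chk_nonc_131 (all_cons chk_nonc_132 (all_cons chk_nonc_133 (all_cons chk_nonc_134 (all_cons chk_nonc_135 (all_cons chk_nonc_136 (all_cons chk_nonc_137 (all_cons chk_nonc_138 (all_cons chk_nonc_139 (all_cons chk_nonc_140 (all_cons chk_nonc_141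 (all_cons chk_nonc_142 (all_cons chk_nonc_143 (all_cons chk_nonc_144 (all_cons chk_nonc_145 (all_cons chk_nonc_146 (all_cons chk_nonc_147 (all_cons chk_nonc_148 (all_cons chk_nonc_149 (all_cons chk_nonc_150 (all_cons chk_nonc_151 (all_cons chk_nonc_152 (all_cons chk_nonc_153 (all_cons chk_nonc_154 (all_cons chk_nonc_155 (all_cons chk_nonc_156 (all_cons chk_nonc_157 (all_cons chk_nonc_158 (all_cons chk_nonc_159 (all_cons chk_nonc_160 (all_cons chk_nonc_161 (all_cons chk_nonc_162 (all_cons chk_nonc_163 (all_cons chk_nonc_164 (all_cons chk_nonc_165 (all_cons chk_nonc_166 (all_cons chk_nonc_167 (all_cons chk_nonc_168 (all_cons chk_nonc_169 (all_cons chk_nonc_170 (all_cons chk_nonc_171 (all_cons chk_nonc_172 (all_cons chk_nonc_173 (all_cons chk_nonc_174 (all_cons chk_nonc_175 (all_cons chk_nonc_176 (all_cons chk_nonc_177 (all_cons chk_nonc_178 (all_cons chk_nonc_179 (all_cons chk_nonc_180 (all_cons chk_nonc_181 (all_cons chk_nonc_182 (all_cons chk_nonc_183 (all_cons chk_nonc_184 (all_cons chk_nonc_185 (all_cons chk_nonc_186 (all_cons chk_nonc_187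 (all_cons chk_nonc_188 (all_cons chk_nonc_189 (all_cons chk_nonc_190 (all_cons chk_nonc_191 (all_cons chk_nonc_192 (all_cons chk_nonc_193 (all_cons chk_nonc_194 (all_cons chk_nonc_195 (all_cons chk_nonc_196 (all_cons chk_nonc_197 (all_cons chk_nonc_198 (all_cons chk_nonc_199 (all_cons chk_nonc_200 (all_cons chk_nonc_201 (all_cons chk_nonc_202 (all_cons chk_nonc_203 (all_cons chk_nonc_204 (all_cons chk_nonc_205 (all_cons chk_nonc_206 (all_cons chk_nonc_207 (all_cons chk_nonc_208 (all_cons chk_nonc_209 (all_cons chk_nonc_210 (all_cons chk_nonc_211 (all_cons chk_nonc_212 (all_cons chk_nonc_213 (all_cons chk_nonc_214 (all_cons chk_nonc_215 (all_cons chk_nonc_216 (all_cons chk_nonc_217 (all_cons chk_nonc_218 (all_cons chk_nonc_219 (all_cons chk_nonc_220 (all_cons chk_nonc_221 (all_cons chk_nonc_222 (all_cons chk_nonc_223 (all_cons chk_nonc_224 (all_cons chk_nonc_225 (all_cons chk_nonc_226 (all_cons chk_nonc_227 (all_cons chk_nonc_228 (all_cons chk_nonc_229 (all_cons chk_nonc_230 (all_cons chk_nonc_231 (all_cons chk_nonc_232 (all_cons chk_nonc_233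 (all_cons chk_nonc_234 (all_cons chk_nonc_235 (all_cons chk_nonc_236 (all_cons chk_nonc_237 (all_cons chk_nonc_238 (all_cons chk_nonc_239 (all_cons chk_nonc_240 (all_cons chk_nonc_241 (all_cons chk_nonc_242 (all_cons chk_nonc_243 (all_cons chk_nonc_244 (all_cons chk_nonc_245 (all_cons chk_nonc_246 (all_cons chk_nonc_247 (all_cons chk_nonc_248 (all_cons chk_nonc_249 (all_cons chk_nonc_250 (all_cons chk_nonc_251 (all_cons chk_nonc_252 (all_cons chk_nonc_253 (all_cons chk_nonc_254 (all_cons chk_nonc_255 (all_cons chk_nonc_256 (all_cons chk_nonc_257 (all_cons chk_nonc_258 (all_cons chk_nonc_259 (all_cons chk_nonc_260 (all_cons chk_nonc_261 (all_cons chk_nonc_262 (all_cons chk_nonc_263 (all_cons chk_nonc_264 (all_cons chk_nonc_265 (all_cons chk_nonc_266 (all_cons chk_nonc_267 (all_cons chk_nonc_268 (all_cons chk_nonc_269 (all_cons chk_nonc_270 (all_cons chk_nonc_271 (all_cons chk_nonc_272 (all_cons chk_nonc_273 (all_cons chk_nonc_274 (all_cons chk_nonc_275 (all_cons chk_nonc_276 (all_cons chk_nonc_277 (all_cons chk_nonc_278 (all_cons chk_nonc_279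 (all_cons chk_nonc_280 (all_cons chk_nonc_281 (all_cons chk_nonc_282 (all_cons chk_nonc_283 (all_cons chk_nonc_284 (all_cons chk_nonc_285 (all_cons chk_nonc_286 (all_cons chk_nonc_287 (all_cons chk_nonc_288 (all_cons chk_nonc_289 (all_cons chk_nonc_290 (all_cons chk_nonc_291 (all_cons chk_nonc_292 (all_cons chk_nonc_293 (all_cons chk_nonc_294 (all_cons chk_nonc_295 (all_cons chk_nonc_296 (all_cons chk_nonc_297 (all_cons chk_nonc_298 (all_cons chk_nonc_299 (all_cons chk_nonc_300 (all_cons chk_nonc_301 (all_cons chk_nonc_302 (all_cons chk_nonc_303 (all_cons chk_nonc_304 (all_cons chk_nonc_305 (all_cons chk_nonc_306 (all_cons chk_nonc_307 (all_cons chk_nonc_308 (all_cons chk_nonc_309 (all_cons chk_nonc_310 (all_cons chk_nonc_311 (all_cons chk_nonc_312 (all_cons chk_nonc_313 (all_cons chk_nonc_314 (all_cons chk_nonc_315 (all_cons chk_nonc_316 (all_cons chk_nonc_317 (all_cons chk_nonc_318 (all_cons chk_nonc_319 (all_cons chk_nonc_320 (all_cons chk_nonc_321 (all_cons chk_nonc_322 (all_cons chk_nonc_323 (all_cons chk_nonc_324 (all_cons chk_nonc_325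 (all_cons chk_nonc_326 (all_cons chk_nonc_327 (all_cons chk_nonc_328 (all_cons chk_nonc_329 (all_cons chk_nonc_330 (all_cons chk_nonc_331 (all_cons chk_nonc_332 (all_cons chk_nonc_333 (all_cons chk_nonc_334 (all_cons chk_nonc_335 (all_cons chk_nonc_336 (all_cons chk_nonc_337 (all_cons chk_nonc_338 (all_cons chk_nonc_339 (all_cons chk_nonc_340 (all_cons chk_nonc_341 (all_cons chk_nonc_342 (all_cons chk_nonc_343 (all_cons chk_nonc_344 (all_cons chk_nonc_345 (all_cons chk_nonc_346 (all_cons chk_nonc_347 (all_cons chk_nonc_348 (all_cons chk_nonc_349 (all_cons chk_nonc_350 (all_cons chk_nonc_351 (all_cons chk_nonc_352 (all_cons chk_nonc_353 (all_cons chk_nonc_354 (all_cons chk_nonc_355 (all_cons chk_nonc_356 (all_cons chk_nonc_357 (all_cons chk_nonc_358 (all_cons chk_nonc_359 (all_cons chk_nonc_360 (all_cons chk_nonc_361 (all_cons chk_nonc_362 (all_cons chk_nonc_363 (all_cons chk_nonc_364 (all_cons chk_nonc_365 (all_cons chk_nonc_366 (all_cons chk_nonc_367 (all_cons chk_nonc_368 (all_cons chk_nonc_369 (all_cons chk_nonc_370 (all_cons chk_nonc_371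 (all_cons chk_nonc_372 (all_cons chk_nonc_373 (all_cons chk_nonc_374 (all_cons chk_nonc_375 (all_cons chk_nonc_376 (all_cons chk_nonc_377 (all_cons chk_nonc_378 (all_cons chk_nonc_379 (all_cons chk_nonc_380 (all_cons chk_nonc_381 (all_cons chk_nonc_382 (all_cons chk_nonc_383 (all_cons chk_nonc_384 (all_cons chk_nonc_385 (all_cons chk_nonc_386 (all_cons chk_nonc_387 (all_cons chk_nonc_388 (all_cons chk_nonc_389 (all_cons chk_nonc_390 (all_cons chk_nonc_391 (all_cons chk_nonc_392 (all_cons chk_nonc_393 (all_cons chk_nonc_394 (all_cons chk_nonc_395 (all_cons chk_nonc_396 (all_cons chk_nonc_397 (all_cons chk_nonc_398 (all_cons chk_nonc_399 (all_cons chk_nonc_400 (all_cons chk_nonc_401 (all_cons chk_nonc_402 (all_cons chk_nonc_403 (all_cons chk_nonc_404 (all_cons chk_nonc_405 (all_cons chk_nonc_406 (all_cons chk_nonc_407 (all_cons chk_nonc_408 (all_cons chk_nonc_409 (all_cons chk_nonc_410 (all_cons chk_nonc_411 (all_cons chk_nonc_412 (all_cons chk_nonc_413 (all_cons chk_nonc_414 (all_cons chk_nonc_415 (all_cons chk_nonc_416 (all_cons chk_nonc_417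 (all_cons chk_nonc_418 (all_cons chk_nonc_419 (all_cons chk_nonc_420 (all_cons chk_nonc_421 (all_cons chk_nonc_422 (all_cons chk_nonc_423 (all_cons chk_nonc_424 (all_cons chk_nonc_425 (all_cons chk_nonc_426 (all_cons chk_nonc_427 (all_cons chk_nonc_428 (all_cons chk_nonc_429 (all_cons chk_nonc_430 (all_cons chk_nonc_431 (all_cons chk_nonc_432 (all_cons chk_nonc_433 (all_cons chk_nonc_434 (all_cons chk_nonc_435 (all_cons chk_nonc_436 (all_cons chk_nonc_437 (all_cons chk_nonc_438 (all_cons chk_nonc_439 (all_cons chk_nonc_440 (all_cons chk_nonc_441 (all_cons chk_nonc_442 (all_cons chk_nonc_443 (all_cons chk_nonc_444 (all_cons chk_nonc_445 (all_cons chk_nonc_446 (all_cons chk_nonc_447 (all_cons chk_nonc_448 (all_cons chk_nonc_449 (all_cons chk_nonc_450 (all_cons chk_nonc_451 (all_cons chk_nonc_452 (all_cons chk_nonc_453 (all_cons chk_nonc_454 (all_cons chk_nonc_455 (all_cons chk_nonc_456 (all_cons chk_nonc_457 (all_cons chk_nonc_458 (all_cons chk_nonc_459 (all_cons chk_nonc_460 all_nil)))))))))))))))))))))))))))))))))))))))))))))))))))))))))))))))))))))))))))))))))))))))))))))))))))))))))))))))))))))))))))))))))))))))))))))))))))))))))))))))))))))))))))))))))))))))))))))))))))))))))))))))))))))))))))))))))))))))))))))))))))))))))))))))))))))))))))))))))))))))))))))))))))))))))))))))))))))))))))))))))))))))))))))))))))))))))))))))))))))))))))))))))))))))))))))))))))))))))))))))))))))))))))))))))))))))))))))))))))))))))))))))))))))))))))))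

/-- no element conjugates `x` to its conjugate by the generator `l` -/
theorem chk_nonc : ∀ q < 306936, (cand 306936 10 f26 fxs [0, 1] (LA0 :: LsA) q).isNone = true :=
  chk_nonc_all

end Cfsg.Agent.Fi24Out
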