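import Cfsg.Agent.Lib.Lead.Fi24Out.LevAD
import Cfsg.Agent.Lib.Lead.Fi24Out.DG0

/-! # The outer automorphism group of Fi₂₄′: `x` and its conjugate by the generator `l` are not conjugate in the commutator subgroup, slices (generated) -/

set_option autoImplicit false
set_option Elab.async false
set_option maxRecDepth 100000

namespace Cfsg.Agent.Fi24Out

open Cfsg.Agent.PF Cfsg.Agent.Lib.Helper6 Cfsg.Agent.Lib.Helper6.TC
open Cfsg.Agent.PL (Acts evalF)

theorem chk_nonc_0 : allR 0 666 (fun q => (fun q => (cand 306936 10 f26 fxs [0, 1] (LA0 :: LsA) q).isNone) q) = true := by decide +kernel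

theorem chk_nonc_1 : allR 666 666 (fun q => (fun q => (cand 306936 10 f26 fxs [0, 1] (LA0 :: LsA) q).isNone) q) = true := by decide +kernel

theorem chk_nonc_2 : allR 1332 666 (fun q => (fun q => (cand 306936 10 f26 fxs [0, 1] (LA0 :: LsA) q).isNone) q) = true := by decide +kernel

theorem chk_nonc_3 : allR 1998 666 (fun q => (fun q => (cand 306936 10 f26 fxs [0, 1] (LA0 :: LsA) q).isNone) q) = true := by decide +kernel

theorem chk_nonc_4 : allR 2664 666 (fun q => (fun q => (cand 306936 10 f26 fxs [0, 1] (LA0 :: LsA) q).isNone) q) = true := by decide +kernel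

theorem chk_nonc_5 : allR 3330 666 (fun q => (fun q => (cand 306936 10 f26 fxs [0, 1] (LA0 :: LsA) q).isNone) q) = true := by decide +kernel

theorem chk_nonc_6 : allR 3996 666 (fun q => (fun q => (cand 306936 10 f26 fxs [0, 1] (LA0 :: LsA) q).isNone) q) = true := by decide +kernel

theorem chk_nonc_7 : allR 4662 666 (fun q => (fun q => (cand 306936 10 f26 fxs [0, 1] (LA0 :: LsA) q).isNone) q) = true := by decide +kernel

theorem chk_nonc_8 : allR 5328 666 (fun q => (fun q => (cand 306936 10 f26 fxs [0, 1] (LA0 :: LsA) q).isNone) q) = true := by decide +kernel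

theorem chk_nonc_9 : allR 5994 666 (fun q => (fun q => (cand 306936 10 f26 fxs [0, 1] (LA0 :: LsA) q).isNone) q) = true := by decide +kernel

theorem chk_nonc_10 : allR 6660 666 (fun q => (fun q => (cand 306936 10 f26 fxs [0, 1] (LA0 :: LsA) q).isNone) q) = true := by decide +kernel

theorem chk_nonc_11 : allR 7326 666 (fun q => (fun q => (cand 306936 10 f26 fxs [0, 1] (LA0 :: LsA) q).isNone) q) = true := by decide +kernel

theorem chk_nonc_12 : allR 7992 666 (fun q => (fun q => (cand 306936 10 f26 fxs [0, 1] (LA0 :: LsA) q).isNone) q) = true := by decide +kernel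

theorem chk_nonc_13 : allR 8658 666 (fun q => (fun q => (cand 306936 10 f26 fxs [0, 1] (LA0 :: LsA) q).isNone) q) = true := by decide +kernel

theorem chk_nonc_14 : allR 9324 666 (fun q => (fun q => (cand 306936 10 f26 fxs [0, 1] (LA0 :: LsA) q).isNone) q) = true := by decide +kernel

theorem chk_nonc_15 : allR 9990 666 (fun q => (fun q => (cand 306936 10 f26 fxs [0, 1] (LA0 :: LsA) q).isNone) q) = true := by decide +kernel

theorem chk_nonc_16 : allR 10656 666 (fun q => (fun q => (cand 306936 10 f26 fxs [0, 1] (LA0 :: LsA) q).isNone) q) = true := by decide +kernel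

theorem chk_nonc_17 : allR 11322 666 (fun q => (fun q => (cand 306936 10 f26 fxs [0, 1] (LA0 :: LsA) q).isNone) q) = true := by decide +kernel

theorem chk_nonc_18 : allR 11988 666 (fun q => (fun q => (cand 306936 10 f26 fxs [0, 1] (LA0 :: LsA) q).isNone) q) = true := by decide +kernel

theorem chk_nonc_19 : allR 12654 666 (fun q => (fun q => (cand 306936 10 f26 fxs [0, 1] (LA0 :: LsA) q).isNone) q) = true := by decide +kernel


end Cfsg.Agent.Fi24Out
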