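import Cfsg.Agent.Lib.Lead.Fi24Out.D26
import Cfsg.Agent.Lib.Lead.Fi24Out.D27
import Cfsg.Agent.Lib.Lead.Fi24Out.DV
import Cfsg.Agent.Lib.Lead.Fi24Out.Kills

/-! # The outer automorphism group of Fi₂₄′: the relation number 1, slices (generated) -/

set_option autoImplicit false
set_option Elab.async false
set_option maxRecDepth 100000

namespace Cfsg.Agent.Fi24Out

open Cfsg.Agent.PF Cfsg.Agent.Lib.Helper6 Cfsg.Agent.Lib.Helper6.TC
open Cfsg.Agent.PL (Acts evalF)

theorem rel1_20 : allR 10980 549 (fun q => (fun q => Nat.beq ((evalF f26 f27 fv [0, 1, 2])^[30] q) ((fun q => q) q)) q) = true := by decide +kernel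

theorem rel1_21 : allR 11529 549 (fun q => (fun q => Nat.beq ((evalF f26 f27 fv [0, 1, 2])^[30] q) ((fun q => q) q)) q) = true := by decide +kernel

theorem rel1_22 : allR 12078 549 (fun q => (fun q => Nat.beq ((evalF f26 f27 fv [0, 1, 2])^[30] q) ((fun q => q) q)) q) = true := by decide +kernel

theorem rel1_23 : allR 12627 549 (fun q => (fun q => Nat.beq ((evalF f26 f27 fv [0, 1, 2])^[30] q) ((fun q => q) q)) q) = true := by decide +kernel

theorem rel1_24 : allR 13176 549 (fun q => (fun q => Nat.beq ((evalF f26 f27 fv [0, 1, 2])^[30] q) ((fun q => q) q)) q) = true := by decide +kernel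

theorem rel1_25 : allR 13725 549 (fun q => (fun q => Nat.beq ((evalF f26 f27 fv [0, 1, 2])^[30] q) ((fun q => q) q)) q) = true := by decide +kernel

theorem rel1_26 : allR 14274 549 (fun q => (fun q => Nat.beq ((evalF f26 f27 fv [0, 1, 2])^[30] q) ((fun q => q) q)) q) = true := by decide +kernel

theorem rel1_27 : allR 14823 549 (fun q => (fun q => Nat.beq ((evalF f26 f27 fv [0, 1, 2])^[30] q) ((fun q => q) q)) q) = true := by decide +kernel

theorem rel1_28 : allR 15372 549 (fun q => (fun q => Nat.beq ((evalF f26 f27 fv [0, 1, 2])^[30] q) ((fun q => q) q)) q) = true := by decide +kernel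

theorem rel1_29 : allR 15921 549 (fun q => (fun q => Nat.beq ((evalF f26 f27 fv [0, 1, 2])^[30] q) ((fun q => q) q)) q) = true := by decide +kernel

theorem rel1_30 : allR 16470 549 (fun q => (fun q => Nat.beq ((evalF f26 f27 fv [0, 1, 2])^[30] q) ((fun q => q) q)) q) = true := by decide +kernel

theorem rel1_31 : allR 17019 549 (fun q => (fun q => Nat.beq ((evalF f26 f27 fv [0, 1, 2])^[30] q) ((fun q => q) q)) q) = true := by decide +kernel

theorem rel1_32 : allR 17568 549 (fun q => (fun q => Nat.beq ((evalF f26 f27 fv [0, 1, 2])^[30] q) ((fun q => q) q)) q) = true := by decide +kernel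

theorem rel1_33 : allR 18117 549 (fun q => (fun q => Nat.beq ((evalF f26 f27 fv [0, 1, 2])^[30] q) ((fun q => q) q)) q) = true := by decide +kernel

theorem rel1_34 : allR 18666 549 (fun q => (fun q => Nat.beq ((evalF f26 f27 fv [0, 1, 2])^[30] q) ((fun q => q) q)) q) = true := by decide +kernel

theorem rel1_35 : allR 19215 549 (fun q => (fun q => Nat.beq ((evalF f26 f27 fv [0, 1, 2])^[30] q) ((fun q => q) q)) q) = true := by decide +kernel

theorem rel1_36 : allR 19764 549 (fun q => (fun q => Nat.beq ((evalF f26 f27 fv [0, 1, 2])^[30] q) ((fun q => q) q)) q) = true := by decide +kernel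

theorem rel1_37 : allR 20313 549 (fun q => (fun q => Nat.beq ((evalF f26 f27 fv [0, 1, 2])^[30] q) ((fun q => q) q)) q) = true := by decide +kernel

theorem rel1_38 : allR 20862 549 (fun q => (fun q => Nat.beq ((evalF f26 f27 fv [0, 1, 2])^[30] q) ((fun q => q) q)) q) = true := by decide +kernel

theorem rel1_39 : allR 21411 549 (fun q => (fun q => Nat.beq ((evalF f26 f27 fv [0, 1, 2])^[30] q) ((fun q => q) q)) q) = true := by decide +kernel


end Cfsg.Agent.Fi24Out
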