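import Cfsg.Agent.Lib.Lead.Fi24Out.D26
import Cfsg.Agent.Lib.Lead.Fi24Out.D27
import Cfsg.Agent.Lib.Lead.Fi24Out.DV
import Cfsg.Agent.Lib.Lead.Fi24Out.Kills

/-! # The outer automorphism group of Fi₂₄′: the relation number 1, slices (generated) -/

set_option autoImplicit false
set_option Elab.async false
set_option maxRecDepth 100000

namespace Cfsg.Agent.Fi24Out

open Cfsg.Agent.PF Cfsg.Agent.Lib.Helper6 Cfsg.Agent.Lib.Helper6.TC
open Cfsg.Agent.PL (Acts evalF)

theorem rel1_200 : allR 109800 549 (fun q => (fun q => Nat.beq ((evalF f26 f27 fv [0, 1, 2])^[30] q) ((fun q => q) q)) q) = true := by decide +kernel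

theorem rel1_201 : allR 110349 549 (fun q => (fun q => Nat.beq ((evalF f26 f27 fv [0, 1, 2])^[30] q) ((fun q => q) q)) q) = true := by decide +kernel

theorem rel1_202 : allR 110898 549 (fun q => (fun q => Nat.beq ((evalF f26 f27 fv [0, 1, 2])^[30] q) ((fun q => q) q)) q) = true := by decide +kernel

theorem rel1_203 : allR 111447 549 (fun q => (fun q => Nat.beq ((evalF f26 f27 fv [0, 1, 2])^[30] q) ((fun q => q) q)) q) = true := by decide +kernel

theorem rel1_204 : allR 111996 549 (fun q => (fun q => Nat.beq ((evalF f26 f27 fv [0, 1, 2])^[30] q) ((fun q => q) q)) q) = true := by decide +kernel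

theorem rel1_205 : allR 112545 549 (fun q => (fun q => Nat.beq ((evalF f26 f27 fv [0, 1, 2])^[30] q) ((fun q => q) q)) q) = true := by decide +kernel

theorem rel1_206 : allR 113094 549 (fun q => (fun q => Nat.beq ((evalF f26 f27 fv [0, 1, 2])^[30] q) ((fun q => q) q)) q) = true := by decide +kernel

theorem rel1_207 : allR 113643 549 (fun q => (fun q => Nat.beq ((evalF f26 f27 fv [0, 1, 2])^[30] q) ((fun q => q) q)) q) = true := by decide +kernel

theorem rel1_208 : allR 114192 549 (fun q => (fun q => Nat.beq ((evalF f26 f27 fv [0, 1, 2])^[30] q) ((fun q => q) q)) q) = true := by decide +kernel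

theorem rel1_209 : allR 114741 549 (fun q => (fun q => Nat.beq ((evalF f26 f27 fv [0, 1, 2])^[30] q) ((fun q => q) q)) q) = true := by decide +kernel

theorem rel1_210 : allR 115290 549 (fun q => (fun q => Nat.beq ((evalF f26 f27 fv [0, 1, 2])^[30] q) ((fun q => q) q)) q) = true := by decide +kernel

theorem rel1_211 : allR 115839 549 (fun q => (fun q => Nat.beq ((evalF f26 f27 fv [0, 1, 2])^[30] q) ((fun q => q) q)) q) = true := by decide +kernel

theorem rel1_212 : allR 116388 549 (fun q => (fun q => Nat.beq ((evalF f26 f27 fv [0, 1, 2])^[30] q) ((fun q => q) q)) q) = true := by decide +kernel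

theorem rel1_213 : allR 116937 549 (fun q => (fun q => Nat.beq ((evalF f26 f27 fv [0, 1, 2])^[30] q) ((fun q => q) q)) q) = true := by decide +kernel

theorem rel1_214 : allR 117486 549 (fun q => (fun q => Nat.beq ((evalF f26 f27 fv [0, 1, 2])^[30] q) ((fun q => q) q)) q) = true := by decide +kernel

theorem rel1_215 : allR 118035 549 (fun q => (fun q => Nat.beq ((evalF f26 f27 fv [0, 1, 2])^[30] q) ((fun q => q) q)) q) = true := by decide +kernel

theorem rel1_216 : allR 118584 549 (fun q => (fun q => Nat.beq ((evalF f26 f27 fv [0, 1, 2])^[30] q) ((fun q => q) q)) q) = true := by decide +kernel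

theorem rel1_217 : allR 119133 549 (fun q => (fun q => Nat.beq ((evalF f26 f27 fv [0, 1, 2])^[30] q) ((fun q => q) q)) q) = true := by decide +kernel

theorem rel1_218 : allR 119682 549 (fun q => (fun q => Nat.beq ((evalF f26 f27 fv [0, 1, 2])^[30] q) ((fun q => q) q)) q) = true := by decide +kernel

theorem rel1_219 : allR 120231 549 (fun q => (fun q => Nat.beq ((evalF f26 f27 fv [0, 1, 2])^[30] q) ((fun q => q) q)) q) = true := by decide +kernel


end Cfsg.Agent.Fi24Out
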