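import Cfsg.Agent.Lib.Lead.Fi24Out.D26
import Cfsg.Agent.Lib.Lead.Fi24Out.D27
import Cfsg.Agent.Lib.Lead.Fi24Out.DV
import Cfsg.Agent.Lib.Lead.Fi24Out.Kills

/-! # The outer automorphism group of Fi₂₄′: the relation number 1, slices (generated) -/

set_option autoImplicit false
set_option Elab.async false
set_option maxRecDepth 100000

namespace Cfsg.Agent.Fi24Out

open Cfsg.Agent.PF Cfsg.Agent.Lib.Helper6 Cfsg.Agent.Lib.Helper6.TC
open Cfsg.Agent.PL (Acts evalF)

theorem rel1_220 : allR 120780 549 (fun q => (fun q => Nat.beq ((evalF f26 f27 fv [0, 1, 2])^[30] q) ((fun q => q) q)) q) = true := by decide +kernel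

theorem rel1_221 : allR 121329 549 (fun q => (fun q => Nat.beq ((evalF f26 f27 fv [0, 1, 2])^[30] q) ((fun q => q) q)) q) = true := by decide +kernel

theorem rel1_222 : allR 121878 549 (fun q => (fun q => Nat.beq ((evalF f26 f27 fv [0, 1, 2])^[30] q) ((fun q => q) q)) q) = true := by decide +kernel

theorem rel1_223 : allR 122427 549 (fun q => (fun q => Nat.beq ((evalF f26 f27 fv [0, 1, 2])^[30] q) ((fun q => q) q)) q) = true := by decide +kernel

theorem rel1_224 : allR 122976 549 (fun q => (fun q => Nat.beq ((evalF f26 f27 fv [0, 1, 2])^[30] q) ((fun q => q) q)) q) = true := by decide +kernel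

theorem rel1_225 : allR 123525 549 (fun q => (fun q => Nat.beq ((evalF f26 f27 fv [0, 1, 2])^[30] q) ((fun q => q) q)) q) = true := by decide +kernel

theorem rel1_226 : allR 124074 549 (fun q => (fun q => Nat.beq ((evalF f26 f27 fv [0, 1, 2])^[30] q) ((fun q => q) q)) q) = true := by decide +kernel

theorem rel1_227 : allR 124623 549 (fun q => (fun q => Nat.beq ((evalF f26 f27 fv [0, 1, 2])^[30] q) ((fun q => q) q)) q) = true := by decide +kernel

theorem rel1_228 : allR 125172 549 (fun q => (fun q => Nat.beq ((evalF f26 f27 fv [0, 1, 2])^[30] q) ((fun q => q) q)) q) = true := by decide +kernel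

theorem rel1_229 : allR 125721 549 (fun q => (fun q => Nat.beq ((evalF f26 f27 fv [0, 1, 2])^[30] q) ((fun q => q) q)) q) = true := by decide +kernel

theorem rel1_230 : allR 126270 549 (fun q => (fun q => Nat.beq ((evalF f26 f27 fv [0, 1, 2])^[30] q) ((fun q => q) q)) q) = true := by decide +kernel

theorem rel1_231 : allR 126819 549 (fun q => (fun q => Nat.beq ((evalF f26 f27 fv [0, 1, 2])^[30] q) ((fun q => q) q)) q) = true := by decide +kernel

theorem rel1_232 : allR 127368 549 (fun q => (fun q => Nat.beq ((evalF f26 f27 fv [0, 1, 2])^[30] q) ((fun q => q) q)) q) = true := by decide +kernel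

theorem rel1_233 : allR 127917 549 (fun q => (fun q => Nat.beq ((evalF f26 f27 fv [0, 1, 2])^[30] q) ((fun q => q) q)) q) = true := by decide +kernel

theorem rel1_234 : allR 128466 549 (fun q => (fun q => Nat.beq ((evalF f26 f27 fv [0, 1, 2])^[30] q) ((fun q => q) q)) q) = true := by decide +kernel

theorem rel1_235 : allR 129015 549 (fun q => (fun q => Nat.beq ((evalF f26 f27 fv [0, 1, 2])^[30] q) ((fun q => q) q)) q) = true := by decide +kernel

theorem rel1_236 : allR 129564 549 (fun q => (fun q => Nat.beq ((evalF f26 f27 fv [0, 1, 2])^[30] q) ((fun q => q) q)) q) = true := by decide +kernel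

theorem rel1_237 : allR 130113 549 (fun q => (fun q => Nat.beq ((evalF f26 f27 fv [0, 1, 2])^[30] q) ((fun q => q) q)) q) = true := by decide +kernel

theorem rel1_238 : allR 130662 549 (fun q => (fun q => Nat.beq ((evalF f26 f27 fv [0, 1, 2])^[30] q) ((fun q => q) q)) q) = true := by decide +kernel

theorem rel1_239 : allR 131211 549 (fun q => (fun q => Nat.beq ((evalF f26 f27 fv [0, 1, 2])^[30] q) ((fun q => q) q)) q) = true := by decide +kernel


end Cfsg.Agent.Fi24Out
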