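import Cfsg.Agent.Lib.Lead.Fi24Out.Rel1_0
import Cfsg.Agent.Lib.Lead.Fi24Out.Rel1_1
import Cfsg.Agent.Lib.Lead.Fi24Out.Rel1_2
import Cfsg.Agent.Lib.Lead.Fi24Out.Rel1_3
import Cfsg.Agent.Lib.Lead.Fi24Out.Rel1_4
import Cfsg.Agent.Lib.Lead.Fi24Out.Rel1_5
import Cfsg.Agent.Lib.Lead.Fi24Out.Rel1_6
import Cfsg.Agent.Lib.Lead.Fi24Out.Rel1_7
import Cfsg.Agent.Lib.Lead.Fi24Out.Rel1_8
import Cfsg.Agent.Lib.Lead.Fi24Out.Rel1_9
import Cfsg.Agent.Lib.Lead.Fi24Out.Rel1_10
import Cfsg.Agent.Lib.Lead.Fi24Out.Rel1_11
import Cfsg.Agent.Lib.Lead.Fi24Out.Rel1_12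
import Cfsg.Agent.Lib.Lead.Fi24Out.Rel1_13
import Cfsg.Agent.Lib.Lead.Fi24Out.Rel1_14
import Cfsg.Agent.Lib.Lead.Fi24Out.Rel1_15
import Cfsg.Agent.Lib.Lead.Fi24Out.Rel1_16
import Cfsg.Agent.Lib.Lead.Fi24Out.Rel1_17
import Cfsg.Agent.Lib.Lead.Fi24Out.Rel1_18
import Cfsg.Agent.Lib.Lead.Fi24Out.Rel1_19
import Cfsg.Agent.Lib.Lead.Fi24Out.Rel1_20
import Cfsg.Agent.Lib.Lead.Fi24Out.Rel1_21
import Cfsg.Agent.Lib.Lead.Fi24Out.Rel1_22
import Cfsg.Agent.Lib.Lead.Fi24Out.Rel1_23
import Cfsg.Agent.Lib.Lead.Fi24Out.Rel1_24
import Cfsg.Agent.Lib.Lead.Fi24Out.Rel1_25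
import Cfsg.Agent.Lib.Lead.Fi24Out.Rel1_26
import Cfsg.Agent.Lib.Lead.Fi24Out.Rel1_27
import Cfsg.Agent.Lib.Lead.Fi24Out.Base0

/-! # The outer automorphism group of Fi₂₄′: the relation number 1 (generated) -/

set_option autoImplicit false
set_option maxRecDepth 100000

namespace Cfsg.Agent.Fi24Out

open Cfsg.Agent.PF Cfsg.Agent.Lib.Helper6 Cfsg.Agent.Lib.Helper6.TC
open Cfsg.Agent.PL (Acts evalF)

theorem rel1_all : ∀ q < 306936, (fun q => Nat.beq ((evalF f26 f27 fv [0, 1, 2])^[30] q) ((fun q => q) q)) q = true :=
  forall_lt_of_chunks (f := fun q => (fun q => Nat.beq ((evalF f26 f27 fv [0, 1, 2])^[30] q) ((fun q => q) q)) q) [(0, 549), (549, 549), (1098, 549), (1647, 549), (2196, 549), (2745, 549), (3294, 549), (3843, 549), (4392, 549), (4941, 549), (5490, 549), (6039, 549), (6588, 549), (7137, 549), (7686, 549), (8235, 549), (8784, 549), (9333, 549), (9882, 549), (10431, 549), (10980, 549), (11529, 549), (12078, 549), (12627, 549), (13176, 549), (13725, 549), (14274, 549), (14823, 549), (15372, 549), (15921, 549), (16470, 549), (17019, 549), (17568, 549), (18117, 549),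 (18666, 549), (19215, 549), (19764, 549), (20313, 549), (20862, 549), (21411, 549), (21960, 549), (22509, 549), (23058, 549), (23607, 549), (24156, 549), (24705, 549), (25254, 549), (25803, 549), (26352, 549), (26901, 549), (27450, 549), (27999, 549), (28548, 549), (29097, 549), (29646, 549), (30195, 549), (30744, 549), (31293, 549), (31842, 549), (32391, 549), (32940, 549), (33489, 549), (34038, 549), (34587, 549), (35136, 549), (35685, 549), (36234, 549), (36783, 549), (37332, 549), (37881, 549), (38430, 549), (38979, 549), (39528, 549), (40077, 549), (40626, 549), (41175, 549), (41724, 549), (42273, 549), (42822, 549), (43371, 549), (43920, 549), (44469, 549), (45018, 549), (45567, 549), (46116, 549), (46665, 549), (47214, 549), (47763, 549), (48312, 549), (48861, 549), (49410, 549), (49959, 549), (50508, 549), (51057, 549), (51606, 549), (52155, 549), (52704, 549), (53253, 549), (53802, 549), (54351, 549), (54900, 549), (55449, 549), (55998, 549), (56547, 549), (57096, 549), (57645, 549), (58194, 549), (58743, 549), (59292, 549), (59841, 549), (60390, 549), (60939,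 549), (61488, 549), (62037, 549), (62586, 549), (63135, 549), (63684, 549), (64233, 549), (64782, 549), (65331, 549), (65880, 549), (66429, 549), (66978, 549), (67527, 549), (68076, 549), (68625, 549), (69174, 549), (69723, 549), (70272, 549), (70821, 549), (71370, 549), (71919, 549), (72468, 549), (73017, 549), (73566, 549), (74115, 549), (74664, 549), (75213, 549), (75762, 549), (76311, 549), (76860, 549), (77409, 549), (77958, 549), (78507, 549), (79056, 549), (79605, 549), (80154, 549), (80703, 549), (81252, 549), (81801, 549), (82350, 549), (82899, 549), (83448, 549), (83997, 549), (84546, 549), (85095, 549), (85644, 549), (86193, 549), (86742, 549), (87291, 549), (87840, 549), (88389, 549), (88938, 549), (89487, 549), (90036, 549), (90585, 549), (91134, 549), (91683, 549), (92232, 549), (92781, 549), (93330, 549), (93879, 549), (94428, 549), (94977, 549), (95526, 549), (96075, 549), (96624, 549), (97173, 549), (97722, 549), (98271, 549), (98820, 549), (99369, 549), (99918, 549), (100467, 549), (101016, 549), (101565, 549), (102114, 549), (102663, 549), (103212, 549),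 (103761, 549), (104310, 549), (104859, 549), (105408, 549), (105957, 549), (106506, 549), (107055, 549), (107604, 549), (108153, 549), (108702, 549), (109251, 549), (109800, 549), (110349, 549), (110898, 549), (111447, 549), (111996, 549), (112545, 549), (113094, 549), (113643, 549), (114192, 549), (114741, 549), (115290, 549), (115839, 549), (116388, 549), (116937, 549), (117486, 549), (118035, 549), (118584, 549), (119133, 549), (119682, 549), (120231, 549), (120780, 549), (121329, 549), (121878, 549), (122427, 549), (122976, 549), (123525, 549), (124074, 549), (124623, 549), (125172, 549), (125721, 549), (126270, 549), (126819, 549), (127368, 549), (127917, 549), (128466, 549), (129015, 549), (129564, 549), (130113, 549), (130662, 549), (131211, 549), (131760, 549), (132309, 549), (132858, 549), (133407, 549), (133956, 549), (134505, 549), (135054, 549), (135603, 549), (136152, 549), (136701, 549), (137250, 549), (137799, 549), (138348, 549), (138897, 549), (139446, 549), (139995, 549), (140544, 549), (141093, 549), (141642, 549), (142191, 549), (142740, 549), (143289,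 549), (143838, 549), (144387, 549), (144936, 549), (145485, 549), (146034, 549), (146583, 549), (147132, 549), (147681, 549), (148230, 549), (148779, 549), (149328, 549), (149877, 549), (150426, 549), (150975, 549), (151524, 549), (152073, 549), (152622, 549), (153171, 549), (153720, 549), (154269, 549), (154818, 549), (155367, 549), (155916, 549), (156465, 549), (157014, 549), (157563, 549), (158112, 549), (158661, 549), (159210, 549), (159759, 549), (160308, 549), (160857, 549), (161406, 549), (161955, 549), (162504, 549), (163053, 549), (163602, 549), (164151, 549), (164700, 549), (165249, 549), (165798, 549), (166347, 549), (166896, 549), (167445, 549), (167994, 549), (168543, 549), (169092, 549), (169641, 549), (170190, 549), (170739, 549), (171288, 549), (171837, 549), (172386, 549), (172935, 549), (173484, 549), (174033, 549), (174582, 549), (175131, 549), (175680, 549), (176229, 549), (176778, 549), (177327, 549), (177876, 549), (178425, 549), (178974, 549), (179523, 549), (180072, 549), (180621, 549), (181170, 549), (181719, 549), (182268, 549), (182817, 549),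 (183366, 549), (183915, 549), (184464, 549), (185013, 549), (185562, 549), (186111, 549), (186660, 549), (187209, 549), (187758, 549), (188307, 549), (188856, 549), (189405, 549), (189954, 549), (190503, 549), (191052, 549), (191601, 549), (192150, 549), (192699, 549), (193248, 549), (193797, 549), (194346, 549), (194895, 549), (195444, 549), (195993, 549), (196542, 549), (197091, 549), (197640, 549), (198189, 549), (198738, 549), (199287, 549), (199836, 549), (200385, 549), (200934, 549), (201483, 549), (202032, 549), (202581, 549), (203130, 549), (203679, 549), (204228, 549), (204777, 549), (205326, 549), (205875, 549), (206424, 549), (206973, 549), (207522, 549), (208071, 549), (208620, 549), (209169, 549), (209718, 549), (210267, 549), (210816, 549), (211365, 549), (211914, 549), (212463, 549), (213012, 549), (213561, 549), (214110, 549), (214659, 549), (215208, 549), (215757, 549), (216306, 549), (216855, 549), (217404, 549), (217953, 549), (218502, 549), (219051, 549), (219600, 549), (220149, 549), (220698, 549), (221247, 549), (221796, 549), (222345, 549), (222894,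 549), (223443, 549), (223992, 549), (224541, 549), (225090, 549), (225639, 549), (226188, 549), (226737, 549), (227286, 549), (227835, 549), (228384, 549), (228933, 549), (229482, 549), (230031, 549), (230580, 549), (231129, 549), (231678, 549), (232227, 549), (232776, 549), (233325, 549), (233874, 549), (234423, 549), (234972, 549), (235521, 549), (236070, 549), (236619, 549), (237168, 549), (237717, 549), (238266, 549), (238815, 549), (239364, 549), (239913, 549), (240462, 549), (241011, 549), (241560, 549), (242109, 549), (242658, 549), (243207, 549), (243756, 549), (244305, 549), (244854, 549), (245403, 549), (245952, 549), (246501, 549), (247050, 549), (247599, 549), (248148, 549), (248697, 549), (249246, 549), (249795, 549), (250344, 549), (250893, 549), (251442, 549), (251991, 549), (252540, 549), (253089, 549), (253638, 549), (254187, 549), (254736, 549), (255285, 549), (255834, 549), (256383, 549), (256932, 549), (257481, 549), (258030, 549), (258579, 549), (259128, 549), (259677, 549), (260226, 549), (260775, 549), (261324, 549), (261873, 549), (262422, 549),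 (262971, 549), (263520, 549), (264069, 549), (264618, 549), (265167, 549), (265716, 549), (266265, 549), (266814, 549), (267363, 549), (267912, 549), (268461, 549), (269010, 549), (269559, 549), (270108, 549), (270657, 549), (271206, 549), (271755, 549), (272304, 549), (272853, 549), (273402, 549), (273951, 549), (274500, 549), (275049, 549), (275598, 549), (276147, 549), (276696, 549), (277245, 549), (277794, 549), (278343, 549), (278892, 549), (279441, 549), (279990, 549), (280539, 549), (281088, 549), (281637, 549), (282186, 549), (282735, 549), (283284, 549), (283833, 549), (284382, 549), (284931, 549), (285480, 549), (286029, 549), (286578, 549), (287127, 549), (287676, 549), (288225, 549), (288774, 549), (289323, 549), (289872, 549), (290421, 549), (290970, 549), (291519, 549), (292068, 549), (292617, 549), (293166, 549), (293715, 549), (294264, 549), (294813, 549), (295362, 549), (295911, 549), (296460, 549), (297009, 549), (297558, 549), (298107, 549), (298656, 549), (299205, 549), (299754, 549), (300303, 549), (300852, 549), (301401, 549), (301950, 549), (302499,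 549), (303048, 549), (303597, 549), (304146, 549), (304695, 549), (305244, 549), (305793, 549), (306342, 549), (306891, 45)] (by decide)
    (all_cons rel1_0 (all_cons rel1_1 (all_cons rel1_2 (all_cons rel1_3 (all_cons rel1_4 (all_cons rel1_5 (all_cons rel1_6 (all_cons rel1_7 (all_cons rel1_8 (all_cons rel1_9 (all_cons rel1_10 (all_cons rel1_11 (all_cons rel1_12 (all_cons rel1_13 (all_cons rel1_14 (all_cons rel1_15 (all_cons rel1_16 (all_cons rel1_17 (all_cons rel1_18 (all_cons rel1_19 (all_cons rel1_20 (all_cons rel1_21 (all_cons rel1_22 (all_cons rel1_23 (all_cons rel1_24 (all_cons rel1_25 (all_cons rel1_26 (all_cons rel1_27 (all_cons rel1_28 (all_cons rel1_29 (all_cons rel1_30 (all_cons rel1_31 (all_cons rel1_32 (all_cons rel1_33 (all_cons rel1_34 (all_cons rel1_35 (all_cons rel1_36 (all_cons rel1_37 (all_cons rel1_38 (all_cons rel1_39 (all_cons rel1_40 (all_cons rel1_41 (all_cons rel1_42 (all_cons rel1_43 (all_cons rel1_44 (all_cons rel1_45 (all_cons rel1_46 (all_cons rel1_47 (all_cons rel1_48 (all_cons rel1_49 (all_cons rel1_50 (all_cons rel1_51 (all_cons rel1_52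 (all_cons rel1_53 (all_cons rel1_54 (all_cons rel1_55 (all_cons rel1_56 (all_cons rel1_57 (all_cons rel1_58 (all_cons rel1_59 (all_cons rel1_60 (all_cons rel1_61 (all_cons rel1_62 (all_cons rel1_63 (all_cons rel1_64 (all_cons rel1_65 (all_cons rel1_66 (all_cons rel1_67 (all_cons rel1_68 (all_cons rel1_69 (all_cons rel1_70 (all_cons rel1_71 (all_cons rel1_72 (all_cons rel1_73 (all_cons rel1_74 (all_cons rel1_75 (all_cons rel1_76 (all_cons rel1_77 (all_cons rel1_78 (all_cons rel1_79 (all_cons rel1_80 (all_cons rel1_81 (all_cons rel1_82 (all_cons rel1_83 (all_cons rel1_84 (all_cons rel1_85 (all_cons rel1_86 (all_cons rel1_87 (all_cons rel1_88 (all_cons rel1_89 (all_cons rel1_90 (all_cons rel1_91 (all_cons rel1_92 (all_cons rel1_93 (all_cons rel1_94 (all_cons rel1_95 (all_cons rel1_96 (all_cons rel1_97 (all_cons rel1_98 (all_cons rel1_99 (all_cons rel1_100 (all_cons rel1_101 (all_cons rel1_102 (all_cons rel1_103 (all_cons rel1_104 (all_cons rel1_105 (all_cons rel1_106 (all_cons rel1_107 (all_cons rel1_108 (all_cons rel1_109 (all_cons rel1_110 (all_cons rel1_111 (all_cons rel1_112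 (all_cons rel1_113 (all_cons rel1_114 (all_cons rel1_115 (all_cons rel1_116 (all_cons rel1_117 (all_cons rel1_118 (all_cons rel1_119 (all_cons rel1_120 (all_cons rel1_121 (all_cons rel1_122 (all_cons rel1_123 (all_cons rel1_124 (all_cons rel1_125 (all_cons rel1_126 (all_cons rel1_127 (all_cons rel1_128 (all_cons rel1_129 (all_cons rel1_130 (all_cons rel1_131 (all_cons rel1_132 (all_cons rel1_133 (all_cons rel1_134 (all_cons rel1_135 (all_cons rel1_136 (all_cons rel1_137 (all_cons rel1_138 (all_cons rel1_139 (all_cons rel1_140 (all_cons rel1_141 (all_cons rel1_142 (all_cons rel1_143 (all_cons rel1_144 (all_cons rel1_145 (all_cons rel1_146 (all_cons rel1_147 (all_cons rel1_148 (all_cons rel1_149 (all_cons rel1_150 (all_cons rel1_151 (all_cons rel1_152 (all_cons rel1_153 (all_cons rel1_154 (all_cons rel1_155 (all_cons rel1_156 (all_cons rel1_157 (all_cons rel1_158 (all_cons rel1_159 (all_cons rel1_160 (all_cons rel1_161 (all_cons rel1_162 (all_cons rel1_163 (all_cons rel1_164 (all_cons rel1_165 (all_cons rel1_166 (all_cons rel1_167 (all_cons rel1_168 (all_cons rel1_169 (all_cons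 rel1_170 (all_cons rel1_171 (all_cons rel1_172 (all_cons rel1_173 (all_cons rel1_174 (all_cons rel1_175 (all_cons rel1_176 (all_cons rel1_177 (all_cons rel1_178 (all_cons rel1_179 (all_cons rel1_180 (all_cons rel1_181 (all_cons rel1_182 (all_cons rel1_183 (all_cons rel1_184 (all_cons rel1_185 (all_cons rel1_186 (all_cons rel1_187 (all_cons rel1_188 (all_cons rel1_189 (all_cons rel1_190 (all_cons rel1_191 (all_cons rel1_192 (all_cons rel1_193 (all_cons rel1_194 (all_cons rel1_195 (all_cons rel1_196 (all_cons rel1_197 (all_cons rel1_198 (all_cons rel1_199 (all_cons rel1_200 (all_cons rel1_201 (all_cons rel1_202 (all_cons rel1_203 (all_cons rel1_204 (all_cons rel1_205 (all_cons rel1_206 (all_cons rel1_207 (all_cons rel1_208 (all_cons rel1_209 (all_cons rel1_210 (all_cons rel1_211 (all_cons rel1_212 (all_cons rel1_213 (all_cons rel1_214 (all_cons rel1_215 (all_cons rel1_216 (all_cons rel1_217 (all_cons rel1_218 (all_cons rel1_219 (all_cons rel1_220 (all_cons rel1_221 (all_cons rel1_222 (all_cons rel1_223 (all_cons rel1_224 (all_cons rel1_225 (all_cons rel1_226 (all_cons rel1_227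 (all_cons rel1_228 (all_cons rel1_229 (all_cons rel1_230 (all_cons rel1_231 (all_cons rel1_232 (all_cons rel1_233 (all_cons rel1_234 (all_cons rel1_235 (all_cons rel1_236 (all_cons rel1_237 (all_cons rel1_238 (all_cons rel1_239 (all_cons rel1_240 (all_cons rel1_241 (all_cons rel1_242 (all_cons rel1_243 (all_cons rel1_244 (all_cons rel1_245 (all_cons rel1_246 (all_cons rel1_247 (all_cons rel1_248 (all_cons rel1_249 (all_cons rel1_250 (all_cons rel1_251 (all_cons rel1_252 (all_cons rel1_253 (all_cons rel1_254 (all_cons rel1_255 (all_cons rel1_256 (all_cons rel1_257 (all_cons rel1_258 (all_cons rel1_259 (all_cons rel1_260 (all_cons rel1_261 (all_cons rel1_262 (all_cons rel1_263 (all_cons rel1_264 (all_cons rel1_265 (all_cons rel1_266 (all_cons rel1_267 (all_cons rel1_268 (all_cons rel1_269 (all_cons rel1_270 (all_cons rel1_271 (all_cons rel1_272 (all_cons rel1_273 (all_cons rel1_274 (all_cons rel1_275 (all_cons rel1_276 (all_cons rel1_277 (all_cons rel1_278 (all_cons rel1_279 (all_cons rel1_280 (all_cons rel1_281 (all_cons rel1_282 (all_cons rel1_283 (all_cons rel1_284 (all_cons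 rel1_285 (all_cons rel1_286 (all_cons rel1_287 (all_cons rel1_288 (all_cons rel1_289 (all_cons rel1_290 (all_cons rel1_291 (all_cons rel1_292 (all_cons rel1_293 (all_cons rel1_294 (all_cons rel1_295 (all_cons rel1_296 (all_cons rel1_297 (all_cons rel1_298 (all_cons rel1_299 (all_cons rel1_300 (all_cons rel1_301 (all_cons rel1_302 (all_cons rel1_303 (all_cons rel1_304 (all_cons rel1_305 (all_cons rel1_306 (all_cons rel1_307 (all_cons rel1_308 (all_cons rel1_309 (all_cons rel1_310 (all_cons rel1_311 (all_cons rel1_312 (all_cons rel1_313 (all_cons rel1_314 (all_cons rel1_315 (all_cons rel1_316 (all_cons rel1_317 (all_cons rel1_318 (all_cons rel1_319 (all_cons rel1_320 (all_cons rel1_321 (all_cons rel1_322 (all_cons rel1_323 (all_cons rel1_324 (all_cons rel1_325 (all_cons rel1_326 (all_cons rel1_327 (all_cons rel1_328 (all_cons rel1_329 (all_cons rel1_330 (all_cons rel1_331 (all_cons rel1_332 (all_cons rel1_333 (all_cons rel1_334 (all_cons rel1_335 (all_cons rel1_336 (all_cons rel1_337 (all_cons rel1_338 (all_cons rel1_339 (all_cons rel1_340 (all_cons rel1_341 (all_cons rel1_342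 (all_cons rel1_343 (all_cons rel1_344 (all_cons rel1_345 (all_cons rel1_346 (all_cons rel1_347 (all_cons rel1_348 (all_cons rel1_349 (all_cons rel1_350 (all_cons rel1_351 (all_cons rel1_352 (all_cons rel1_353 (all_cons rel1_354 (all_cons rel1_355 (all_cons rel1_356 (all_cons rel1_357 (all_cons rel1_358 (all_cons rel1_359 (all_cons rel1_360 (all_cons rel1_361 (all_cons rel1_362 (all_cons rel1_363 (all_cons rel1_364 (all_cons rel1_365 (all_cons rel1_366 (all_cons rel1_367 (all_cons rel1_368 (all_cons rel1_369 (all_cons rel1_370 (all_cons rel1_371 (all_cons rel1_372 (all_cons rel1_373 (all_cons rel1_374 (all_cons rel1_375 (all_cons rel1_376 (all_cons rel1_377 (all_cons rel1_378 (all_cons rel1_379 (all_cons rel1_380 (all_cons rel1_381 (all_cons rel1_382 (all_cons rel1_383 (all_cons rel1_384 (all_cons rel1_385 (all_cons rel1_386 (all_cons rel1_387 (all_cons rel1_388 (all_cons rel1_389 (all_cons rel1_390 (all_cons rel1_391 (all_cons rel1_392 (all_cons rel1_393 (all_cons rel1_394 (all_cons rel1_395 (all_cons rel1_396 (all_cons rel1_397 (all_cons rel1_398 (all_cons rel1_399 (all_cons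 rel1_400 (all_cons rel1_401 (all_cons rel1_402 (all_cons rel1_403 (all_cons rel1_404 (all_cons rel1_405 (all_cons rel1_406 (all_cons rel1_407 (all_cons rel1_408 (all_cons rel1_409 (all_cons rel1_410 (all_cons rel1_411 (all_cons rel1_412 (all_cons rel1_413 (all_cons rel1_414 (all_cons rel1_415 (all_cons rel1_416 (all_cons rel1_417 (all_cons rel1_418 (all_cons rel1_419 (all_cons rel1_420 (all_cons rel1_421 (all_cons rel1_422 (all_cons rel1_423 (all_cons rel1_424 (all_cons rel1_425 (all_cons rel1_426 (all_cons rel1_427 (all_cons rel1_428 (all_cons rel1_429 (all_cons rel1_430 (all_cons rel1_431 (all_cons rel1_432 (all_cons rel1_433 (all_cons rel1_434 (all_cons rel1_435 (all_cons rel1_436 (all_cons rel1_437 (all_cons rel1_438 (all_cons rel1_439 (all_cons rel1_440 (all_cons rel1_441 (all_cons rel1_442 (all_cons rel1_443 (all_cons rel1_444 (all_cons rel1_445 (all_cons rel1_446 (all_cons rel1_447 (all_cons rel1_448 (all_cons rel1_449 (all_cons rel1_450 (all_cons rel1_451 (all_cons rel1_452 (all_cons rel1_453 (all_cons rel1_454 (all_cons rel1_455 (all_cons rel1_456 (all_cons rel1_457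 (all_cons rel1_458 (all_cons rel1_459 (all_cons rel1_460 (all_cons rel1_461 (all_cons rel1_462 (all_cons rel1_463 (all_cons rel1_464 (all_cons rel1_465 (all_cons rel1_466 (all_cons rel1_467 (all_cons rel1_468 (all_cons rel1_469 (all_cons rel1_470 (all_cons rel1_471 (all_cons rel1_472 (all_cons rel1_473 (all_cons rel1_474 (all_cons rel1_475 (all_cons rel1_476 (all_cons rel1_477 (all_cons rel1_478 (all_cons rel1_479 (all_cons rel1_480 (all_cons rel1_481 (all_cons rel1_482 (all_cons rel1_483 (all_cons rel1_484 (all_cons rel1_485 (all_cons rel1_486 (all_cons rel1_487 (all_cons rel1_488 (all_cons rel1_489 (all_cons rel1_490 (all_cons rel1_491 (all_cons rel1_492 (all_cons rel1_493 (all_cons rel1_494 (all_cons rel1_495 (all_cons rel1_496 (all_cons rel1_497 (all_cons rel1_498 (all_cons rel1_499 (all_cons rel1_500 (all_cons rel1_501 (all_cons rel1_502 (all_cons rel1_503 (all_cons rel1_504 (all_cons rel1_505 (all_cons rel1_506 (all_cons rel1_507 (all_cons rel1_508 (all_cons rel1_509 (all_cons rel1_510 (all_cons rel1_511 (all_cons rel1_512 (all_cons rel1_513 (all_cons rel1_514 (all_cons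 rel1_515 (all_cons rel1_516 (all_cons rel1_517 (all_cons rel1_518 (all_cons rel1_519 (all_cons rel1_520 (all_cons rel1_521 (all_cons rel1_522 (all_cons rel1_523 (all_cons rel1_524 (all_cons rel1_525 (all_cons rel1_526 (all_cons rel1_527 (all_cons rel1_528 (all_cons rel1_529 (all_cons rel1_530 (all_cons rel1_531 (all_cons rel1_532 (all_cons rel1_533 (all_cons rel1_534 (all_cons rel1_535 (all_cons rel1_536 (all_cons rel1_537 (all_cons rel1_538 (all_cons rel1_539 (all_cons rel1_540 (all_cons rel1_541 (all_cons rel1_542 (all_cons rel1_543 (all_cons rel1_544 (all_cons rel1_545 (all_cons rel1_546 (all_cons rel1_547 (all_cons rel1_548 (all_cons rel1_549 (all_cons rel1_550 (all_cons rel1_551 (all_cons rel1_552 (all_cons rel1_553 (all_cons rel1_554 (all_cons rel1_555 (all_cons rel1_556 (all_cons rel1_557 (all_cons rel1_558 (all_cons rel1_559 all_nil))))))))))))))))))))))))))))))))))))))))))))))))))))))))))))))))))))))))))))))))))))))))))))))))))))))))))))))))))))))))))))))))))))))))))))))))))))))))))))))))))))))))))))))))))))))))))))))))))))))))))))))))))))))))))))))))))))))))))))))))))))))))))))))))))))))))))))))))))))))))))))))))))))))))))))))))))))))))))))))))))))))))))))))))))))))))))))))))))))))))))))))))))))))))))))))))))))))))))))))))))))))))))))))))))))))))))))))))))))))))))))))))))))))))))))))))))))))))))))))))))))))))))))))))))))))))))))))))))))))))))))))))))))))))))))))))))))))))))))))))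

/-- a relation -/
theorem rel1 : ∀ q < 306936, (evalF f26 f27 fv [0, 1, 2])^[30] q = (fun q => q) q :=
  fun q hq => Nat.eq_of_beq_eq_true (rel1_all q hq)

end Cfsg.Agent.Fi24Out
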