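import Cfsg.Agent.Lib.Lead.Fi24Out.Base
import Cfsg.Agent.Lib.Lead.Fi24Out.XYW
import Cfsg.Agent.Lib.Lead.Fi24Out.TV
import Cfsg.Agent.Lib.Lead.Fi24Out.CG0
import Cfsg.Agent.Lib.Lead.Fi24Out.ChkX
import Cfsg.Agent.Lib.Lead.Fi24Out.ChkX1
import Cfsg.Agent.Lib.Lead.Fi24Out.ChkYX
import Cfsg.Agent.Lib.Lead.Fi24Out.ChkWY
import Cfsg.Agent.Lib.Lead.Fi24Out.LevA
import Cfsg.Agent.Lib.Lead.Fi24Out.LevB
import Cfsg.Agent.Lib.Lead.Fi24Out.LevG
import Cfsg.Agent.Lib.Lead.Fi24Out.CntA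
import Cfsg.Agent.Lib.Lead.Fi24Out.CntB
import Cfsg.Agent.Lib.Lead.Fi24Out.CntG
import Cfsg.Agent.Lib.Lead.Fi24Out.Cent
import Cfsg.Agent.Lib.Lead.Fi24Out.Nonc
import Cfsg.Agent.Lib.Lead.Fi24Out.Kill
import Cfsg.Agent.Lib.Lead.Fi24Out.Rels

/-! # The outer automorphism group of Fi₂₄′: the theorem (generated) -/

set_option autoImplicit false
set_option maxRecDepth 100000

namespace Cfsg.Agent.Fi24Out

open Cfsg.Agent.PF Cfsg.Agent.Lib.Helper6 Cfsg.Agent.Lib.Helper6.TC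
open Cfsg.Agent.PL (Acts evalF)

open Cfsg Cfsg.Spor

theorem hR : ∀ k < 29, k ≠ 0 → ∃ j : ℕ, ∃ r ∈ ({1, 2} : Finset ℕ), (k * 4 ^ j) % 29 = r % 29 := by
  have h : ∀ k < 29, k ≠ 0 → ∃ j < 14, ∃ r ∈ ({1, 2} : Finset ℕ), (k * 4 ^ j) % 29 = r % 29 := by decide
  intro k hk hk0
  obtain ⟨j, -, r, hr, e⟩ := h k hk hk0
  exact ⟨j, r, hr, e⟩

theorem hsolve : ∀ i < 29, ∃ a : ℕ, (a + 4 * i) % 29 = (4 * a) % 29 := by
  have h : ∀ i < 29, ∃ a < 29, (a + 4 * i) % 29 = (4 * a) % 29 := by decide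
  intro i hi
  obtain ⟨a, -, e⟩ := h i hi
  exact ⟨a, e⟩

/-- the certificate -/
noncomputable def setup : FSetup 306936 P' where
  N := 1255205709190661721292800
  hN := card_P'
  fuel := 10
  p := 29
  hp := by norm_num
  hp2 := by norm_num
  m := 4
  s := 1
  r₁ := 2
  hR := hR
  hsolve := hsolve
  x := x
  y := y
  w := w
  hx := hx
  hy := hy
  hw := hw
  fx := f26
  fy := f27
  fw := f37
  fv := fv
  ax := ax
  ay := ay
  aw := aw
  chk_v := chk_v
  q₀ := 0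
  hq₀ := by norm_num
  chk_x := chk_x
  chk_x1 := chk_x1
  chk_yx := chk_yx
  chk_wy := chk_wy
  LG := LG0
  LsG := LsG
  hG := hG
  chk_treeG := chk_treeG
  chk_countsG := chk_countsG
  LA := LA0
  LsA := LsA
  hA := hA
  chk_treeA := chk_treeA
  chk_countsA := chk_countsA
  chk_cycA := chk_cycA
  tests := [0, 1]
  chk_centX := chk_centX
  LB := LB0
  LsB := LsB
  hB := hB
  chk_treeB := chk_treeB
  chk_countsB := chk_countsB
  chk_cycB := chk_cycB
  kills := kills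
  chk_rels := chk_rels
  testsB := []

/-- the conjugate of `x` by the generator `l` acts by the composed map -/
theorem acts_σx : Acts (σ setup.xP).1 fxs := by
  rw [σ_coe]
  have h0 : Acts (ρ (gI 0)) fg0 := Cfsg.Agent.PF.Acts.congr (acts_gen (i := 0) (by norm_num)) eqG0
  exact (h0.mul ax).mul h0

/-- the outer automorphism group of the image of the commutator subgroup has order two -/
theorem card_out_P' : Nat.card (Cfsg.Out ↥P') = 2 :=
  setup.card_out_two chk_kill σ (setup.not_inner_of_cand σ acts_σx chk_nonc)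

/-- **The outer automorphism group of the Fischer group Fi₂₄′ has order two.** -/
theorem card_out : Nat.card (Cfsg.Out Fi24') = 2 := by
  rw [OutGeneric.card_out_congr iso]
  exact card_out_P'

end Cfsg.Agent.Fi24Out
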