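import Cfsg.Agent.Lib.Lead.Fi24Out.D26
import Cfsg.Agent.Lib.Lead.Fi24Out.D27
import Cfsg.Agent.Lib.Lead.Fi24Out.DV
import Cfsg.Agent.Lib.Lead.Fi24Out.Kills

/-! # The outer automorphism group of Fi₂₄′: the relation number 0, slices (generated) -/

set_option autoImplicit false
set_option Elab.async false
set_option maxRecDepth 100000

namespace Cfsg.Agent.Fi24Out

open Cfsg.Agent.PF Cfsg.Agent.Lib.Helper6 Cfsg.Agent.Lib.Helper6.TC
open Cfsg.Agent.PL (Acts evalF)

theorem rel0_20 : allR 13680 684 (fun q => (fun q => Nat.beq ((evalF f26 f27 fv [0, 2])^[36] q) ((fun q => q) q)) q) = true := by decide +kernel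

theorem rel0_21 : allR 14364 684 (fun q => (fun q => Nat.beq ((evalF f26 f27 fv [0, 2])^[36] q) ((fun q => q) q)) q) = true := by decide +kernel

theorem rel0_22 : allR 15048 684 (fun q => (fun q => Nat.beq ((evalF f26 f27 fv [0, 2])^[36] q) ((fun q => q) q)) q) = true := by decide +kernel

theorem rel0_23 : allR 15732 684 (fun q => (fun q => Nat.beq ((evalF f26 f27 fv [0, 2])^[36] q) ((fun q => q) q)) q) = true := by decide +kernel

theorem rel0_24 : allR 16416 684 (fun q => (fun q => Nat.beq ((evalF f26 f27 fv [0, 2])^[36] q) ((fun q => q) q)) q) = true := by decide +kernel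

theorem rel0_25 : allR 17100 684 (fun q => (fun q => Nat.beq ((evalF f26 f27 fv [0, 2])^[36] q) ((fun q => q) q)) q) = true := by decide +kernel

theorem rel0_26 : allR 17784 684 (fun q => (fun q => Nat.beq ((evalF f26 f27 fv [0, 2])^[36] q) ((fun q => q) q)) q) = true := by decide +kernel

theorem rel0_27 : allR 18468 684 (fun q => (fun q => Nat.beq ((evalF f26 f27 fv [0, 2])^[36] q) ((fun q => q) q)) q) = true := by decide +kernel

theorem rel0_28 : allR 19152 684 (fun q => (fun q => Nat.beq ((evalF f26 f27 fv [0, 2])^[36] q) ((fun q => q) q)) q) = true := by decide +kernel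

theorem rel0_29 : allR 19836 684 (fun q => (fun q => Nat.beq ((evalF f26 f27 fv [0, 2])^[36] q) ((fun q => q) q)) q) = true := by decide +kernel

theorem rel0_30 : allR 20520 684 (fun q => (fun q => Nat.beq ((evalF f26 f27 fv [0, 2])^[36] q) ((fun q => q) q)) q) = true := by decide +kernel

theorem rel0_31 : allR 21204 684 (fun q => (fun q => Nat.beq ((evalF f26 f27 fv [0, 2])^[36] q) ((fun q => q) q)) q) = true := by decide +kernel

theorem rel0_32 : allR 21888 684 (fun q => (fun q => Nat.beq ((evalF f26 f27 fv [0, 2])^[36] q) ((fun q => q) q)) q) = true := by decide +kernel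

theorem rel0_33 : allR 22572 684 (fun q => (fun q => Nat.beq ((evalF f26 f27 fv [0, 2])^[36] q) ((fun q => q) q)) q) = true := by decide +kernel

theorem rel0_34 : allR 23256 684 (fun q => (fun q => Nat.beq ((evalF f26 f27 fv [0, 2])^[36] q) ((fun q => q) q)) q) = true := by decide +kernel

theorem rel0_35 : allR 23940 684 (fun q => (fun q => Nat.beq ((evalF f26 f27 fv [0, 2])^[36] q) ((fun q => q) q)) q) = true := by decide +kernel

theorem rel0_36 : allR 24624 684 (fun q => (fun q => Nat.beq ((evalF f26 f27 fv [0, 2])^[36] q) ((fun q => q) q)) q) = true := by decide +kernel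

theorem rel0_37 : allR 25308 684 (fun q => (fun q => Nat.beq ((evalF f26 f27 fv [0, 2])^[36] q) ((fun q => q) q)) q) = true := by decide +kernel

theorem rel0_38 : allR 25992 684 (fun q => (fun q => Nat.beq ((evalF f26 f27 fv [0, 2])^[36] q) ((fun q => q) q)) q) = true := by decide +kernel

theorem rel0_39 : allR 26676 684 (fun q => (fun q => Nat.beq ((evalF f26 f27 fv [0, 2])^[36] q) ((fun q => q) q)) q) = true := by decide +kernel


end Cfsg.Agent.Fi24Out
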