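import Cfsg.Agent.Lib.Lead.Fi24Out.D26
import Cfsg.Agent.Lib.Lead.Fi24Out.D27
import Cfsg.Agent.Lib.Lead.Fi24Out.DV
import Cfsg.Agent.Lib.Lead.Fi24Out.Kills

/-! # The outer automorphism group of Fi₂₄′: the relation number 0, slices (generated) -/

set_option autoImplicit false
set_option Elab.async false
set_option maxRecDepth 100000

namespace Cfsg.Agent.Fi24Out

open Cfsg.Agent.PF Cfsg.Agent.Lib.Helper6 Cfsg.Agent.Lib.Helper6.TC
open Cfsg.Agent.PL (Acts evalF)

theorem rel0_200 : allR 136800 684 (fun q => (fun q => Nat.beq ((evalF f26 f27 fv [0, 2])^[36] q) ((fun q => q) q)) q) = true := by decide +kernel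

theorem rel0_201 : allR 137484 684 (fun q => (fun q => Nat.beq ((evalF f26 f27 fv [0, 2])^[36] q) ((fun q => q) q)) q) = true := by decide +kernel

theorem rel0_202 : allR 138168 684 (fun q => (fun q => Nat.beq ((evalF f26 f27 fv [0, 2])^[36] q) ((fun q => q) q)) q) = true := by decide +kernel

theorem rel0_203 : allR 138852 684 (fun q => (fun q => Nat.beq ((evalF f26 f27 fv [0, 2])^[36] q) ((fun q => q) q)) q) = true := by decide +kernel

theorem rel0_204 : allR 139536 684 (fun q => (fun q => Nat.beq ((evalF f26 f27 fv [0, 2])^[36] q) ((fun q => q) q)) q) = true := by decide +kernel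

theorem rel0_205 : allR 140220 684 (fun q => (fun q => Nat.beq ((evalF f26 f27 fv [0, 2])^[36] q) ((fun q => q) q)) q) = true := by decide +kernel

theorem rel0_206 : allR 140904 684 (fun q => (fun q => Nat.beq ((evalF f26 f27 fv [0, 2])^[36] q) ((fun q => q) q)) q) = true := by decide +kernel

theorem rel0_207 : allR 141588 684 (fun q => (fun q => Nat.beq ((evalF f26 f27 fv [0, 2])^[36] q) ((fun q => q) q)) q) = true := by decide +kernel

theorem rel0_208 : allR 142272 684 (fun q => (fun q => Nat.beq ((evalF f26 f27 fv [0, 2])^[36] q) ((fun q => q) q)) q) = true := by decide +kernel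

theorem rel0_209 : allR 142956 684 (fun q => (fun q => Nat.beq ((evalF f26 f27 fv [0, 2])^[36] q) ((fun q => q) q)) q) = true := by decide +kernel

theorem rel0_210 : allR 143640 684 (fun q => (fun q => Nat.beq ((evalF f26 f27 fv [0, 2])^[36] q) ((fun q => q) q)) q) = true := by decide +kernel

theorem rel0_211 : allR 144324 684 (fun q => (fun q => Nat.beq ((evalF f26 f27 fv [0, 2])^[36] q) ((fun q => q) q)) q) = true := by decide +kernel

theorem rel0_212 : allR 145008 684 (fun q => (fun q => Nat.beq ((evalF f26 f27 fv [0, 2])^[36] q) ((fun q => q) q)) q) = true := by decide +kernel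

theorem rel0_213 : allR 145692 684 (fun q => (fun q => Nat.beq ((evalF f26 f27 fv [0, 2])^[36] q) ((fun q => q) q)) q) = true := by decide +kernel

theorem rel0_214 : allR 146376 684 (fun q => (fun q => Nat.beq ((evalF f26 f27 fv [0, 2])^[36] q) ((fun q => q) q)) q) = true := by decide +kernel

theorem rel0_215 : allR 147060 684 (fun q => (fun q => Nat.beq ((evalF f26 f27 fv [0, 2])^[36] q) ((fun q => q) q)) q) = true := by decide +kernel

theorem rel0_216 : allR 147744 684 (fun q => (fun q => Nat.beq ((evalF f26 f27 fv [0, 2])^[36] q) ((fun q => q) q)) q) = true := by decide +kernel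

theorem rel0_217 : allR 148428 684 (fun q => (fun q => Nat.beq ((evalF f26 f27 fv [0, 2])^[36] q) ((fun q => q) q)) q) = true := by decide +kernel

theorem rel0_218 : allR 149112 684 (fun q => (fun q => Nat.beq ((evalF f26 f27 fv [0, 2])^[36] q) ((fun q => q) q)) q) = true := by decide +kernel

theorem rel0_219 : allR 149796 684 (fun q => (fun q => Nat.beq ((evalF f26 f27 fv [0, 2])^[36] q) ((fun q => q) q)) q) = true := by decide +kernel


end Cfsg.Agent.Fi24Out
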