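import Cfsg.Agent.Lib.Lead.Fi24Out.D26
import Cfsg.Agent.Lib.Lead.Fi24Out.D27
import Cfsg.Agent.Lib.Lead.Fi24Out.DV
import Cfsg.Agent.Lib.Lead.Fi24Out.Kills

/-! # The outer automorphism group of Fi₂₄′: the relation number 0, slices (generated) -/

set_option autoImplicit false
set_option Elab.async false
set_option maxRecDepth 100000

namespace Cfsg.Agent.Fi24Out

open Cfsg.Agent.PF Cfsg.Agent.Lib.Helper6 Cfsg.Agent.Lib.Helper6.TC
open Cfsg.Agent.PL (Acts evalF)

theorem rel0_220 : allR 150480 684 (fun q => (fun q => Nat.beq ((evalF f26 f27 fv [0, 2])^[36] q) ((fun q => q) q)) q) = true := by decide +kernel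

theorem rel0_221 : allR 151164 684 (fun q => (fun q => Nat.beq ((evalF f26 f27 fv [0, 2])^[36] q) ((fun q => q) q)) q) = true := by decide +kernel

theorem rel0_222 : allR 151848 684 (fun q => (fun q => Nat.beq ((evalF f26 f27 fv [0, 2])^[36] q) ((fun q => q) q)) q) = true := by decide +kernel

theorem rel0_223 : allR 152532 684 (fun q => (fun q => Nat.beq ((evalF f26 f27 fv [0, 2])^[36] q) ((fun q => q) q)) q) = true := by decide +kernel

theorem rel0_224 : allR 153216 684 (fun q => (fun q => Nat.beq ((evalF f26 f27 fv [0, 2])^[36] q) ((fun q => q) q)) q) = true := by decide +kernel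

theorem rel0_225 : allR 153900 684 (fun q => (fun q => Nat.beq ((evalF f26 f27 fv [0, 2])^[36] q) ((fun q => q) q)) q) = true := by decide +kernel

theorem rel0_226 : allR 154584 684 (fun q => (fun q => Nat.beq ((evalF f26 f27 fv [0, 2])^[36] q) ((fun q => q) q)) q) = true := by decide +kernel

theorem rel0_227 : allR 155268 684 (fun q => (fun q => Nat.beq ((evalF f26 f27 fv [0, 2])^[36] q) ((fun q => q) q)) q) = true := by decide +kernel

theorem rel0_228 : allR 155952 684 (fun q => (fun q => Nat.beq ((evalF f26 f27 fv [0, 2])^[36] q) ((fun q => q) q)) q) = true := by decide +kernel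

theorem rel0_229 : allR 156636 684 (fun q => (fun q => Nat.beq ((evalF f26 f27 fv [0, 2])^[36] q) ((fun q => q) q)) q) = true := by decide +kernel

theorem rel0_230 : allR 157320 684 (fun q => (fun q => Nat.beq ((evalF f26 f27 fv [0, 2])^[36] q) ((fun q => q) q)) q) = true := by decide +kernel

theorem rel0_231 : allR 158004 684 (fun q => (fun q => Nat.beq ((evalF f26 f27 fv [0, 2])^[36] q) ((fun q => q) q)) q) = true := by decide +kernel

theorem rel0_232 : allR 158688 684 (fun q => (fun q => Nat.beq ((evalF f26 f27 fv [0, 2])^[36] q) ((fun q => q) q)) q) = true := by decide +kernel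

theorem rel0_233 : allR 159372 684 (fun q => (fun q => Nat.beq ((evalF f26 f27 fv [0, 2])^[36] q) ((fun q => q) q)) q) = true := by decide +kernel

theorem rel0_234 : allR 160056 684 (fun q => (fun q => Nat.beq ((evalF f26 f27 fv [0, 2])^[36] q) ((fun q => q) q)) q) = true := by decide +kernel

theorem rel0_235 : allR 160740 684 (fun q => (fun q => Nat.beq ((evalF f26 f27 fv [0, 2])^[36] q) ((fun q => q) q)) q) = true := by decide +kernel

theorem rel0_236 : allR 161424 684 (fun q => (fun q => Nat.beq ((evalF f26 f27 fv [0, 2])^[36] q) ((fun q => q) q)) q) = true := by decide +kernel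

theorem rel0_237 : allR 162108 684 (fun q => (fun q => Nat.beq ((evalF f26 f27 fv [0, 2])^[36] q) ((fun q => q) q)) q) = true := by decide +kernel

theorem rel0_238 : allR 162792 684 (fun q => (fun q => Nat.beq ((evalF f26 f27 fv [0, 2])^[36] q) ((fun q => q) q)) q) = true := by decide +kernel

theorem rel0_239 : allR 163476 684 (fun q => (fun q => Nat.beq ((evalF f26 f27 fv [0, 2])^[36] q) ((fun q => q) q)) q) = true := by decide +kernel


end Cfsg.Agent.Fi24Out
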