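import Cfsg.Agent.Lib.Lead.Fi24Out.Rel0_0
import Cfsg.Agent.Lib.Lead.Fi24Out.Rel0_1
import Cfsg.Agent.Lib.Lead.Fi24Out.Rel0_2
import Cfsg.Agent.Lib.Lead.Fi24Out.Rel0_3
import Cfsg.Agent.Lib.Lead.Fi24Out.Rel0_4
import Cfsg.Agent.Lib.Lead.Fi24Out.Rel0_5
import Cfsg.Agent.Lib.Lead.Fi24Out.Rel0_6
import Cfsg.Agent.Lib.Lead.Fi24Out.Rel0_7
import Cfsg.Agent.Lib.Lead.Fi24Out.Rel0_8
import Cfsg.Agent.Lib.Lead.Fi24Out.Rel0_9
import Cfsg.Agent.Lib.Lead.Fi24Out.Rel0_10
import Cfsg.Agent.Lib.Lead.Fi24Out.Rel0_11
import Cfsg.Agent.Lib.Lead.Fi24Out.Rel0_12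
import Cfsg.Agent.Lib.Lead.Fi24Out.Rel0_13
import Cfsg.Agent.Lib.Lead.Fi24Out.Rel0_14
import Cfsg.Agent.Lib.Lead.Fi24Out.Rel0_15
import Cfsg.Agent.Lib.Lead.Fi24Out.Rel0_16
import Cfsg.Agent.Lib.Lead.Fi24Out.Rel0_17
import Cfsg.Agent.Lib.Lead.Fi24Out.Rel0_18
import Cfsg.Agent.Lib.Lead.Fi24Out.Rel0_19
import Cfsg.Agent.Lib.Lead.Fi24Out.Rel0_20
import Cfsg.Agent.Lib.Lead.Fi24Out.Rel0_21
import Cfsg.Agent.Lib.Lead.Fi24Out.Rel0_22
import Cfsg.Agent.Lib.Lead.Fi24Out.Base0

/-! # The outer automorphism group of Fi₂₄′: the relation number 0 (generated) -/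

set_option autoImplicit false
set_option maxRecDepth 100000

namespace Cfsg.Agent.Fi24Out

open Cfsg.Agent.PF Cfsg.Agent.Lib.Helper6 Cfsg.Agent.Lib.Helper6.TC
open Cfsg.Agent.PL (Acts evalF)

theorem rel0_all : ∀ q < 306936, (fun q => Nat.beq ((evalF f26 f27 fv [0, 2])^[36] q) ((fun q => q) q)) q = true :=
  forall_lt_of_chunks (f := fun q => (fun q => Nat.beq ((evalF f26 f27 fv [0, 2])^[36] q) ((fun q => q) q)) q) [(0, 684), (684, 684), (1368, 684), (2052, 684), (2736, 684), (3420, 684), (4104, 684), (4788, 684), (5472, 684), (6156, 684), (6840, 684), (7524, 684), (8208, 684), (8892, 684), (9576, 684), (10260, 684), (10944, 684), (11628, 684), (12312, 684), (12996, 684), (13680, 684), (14364, 684), (15048, 684), (15732, 684), (16416, 684), (17100, 684), (17784, 684), (18468, 684), (19152, 684), (19836, 684), (20520, 684), (21204, 684), (21888, 684), (22572, 684), (23256, 684), (23940, 684), (24624, 684), (25308, 684), (25992, 684), (26676, 684), (27360, 684), (28044, 684), (28728, 684), (29412, 684), (30096, 684), (30780, 684), (31464, 684), (32148, 684), (32832,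 684), (33516, 684), (34200, 684), (34884, 684), (35568, 684), (36252, 684), (36936, 684), (37620, 684), (38304, 684), (38988, 684), (39672, 684), (40356, 684), (41040, 684), (41724, 684), (42408, 684), (43092, 684), (43776, 684), (44460, 684), (45144, 684), (45828, 684), (46512, 684), (47196, 684), (47880, 684), (48564, 684), (49248, 684), (49932, 684), (50616, 684), (51300, 684), (51984, 684), (52668, 684), (53352, 684), (54036, 684), (54720, 684), (55404, 684), (56088, 684), (56772, 684), (57456, 684), (58140, 684), (58824, 684), (59508, 684), (60192, 684), (60876, 684), (61560, 684), (62244, 684), (62928, 684), (63612, 684), (64296, 684), (64980, 684), (65664, 684), (66348, 684), (67032, 684), (67716, 684), (68400, 684), (69084, 684), (69768, 684), (70452, 684), (71136, 684), (71820, 684), (72504, 684), (73188, 684), (73872, 684), (74556, 684), (75240, 684), (75924, 684), (76608, 684), (77292, 684), (77976, 684), (78660, 684), (79344, 684), (80028, 684), (80712, 684), (81396, 684), (82080, 684), (82764, 684), (83448, 684), (84132, 684), (84816, 684), (85500, 684),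 (86184, 684), (86868, 684), (87552, 684), (88236, 684), (88920, 684), (89604, 684), (90288, 684), (90972, 684), (91656, 684), (92340, 684), (93024, 684), (93708, 684), (94392, 684), (95076, 684), (95760, 684), (96444, 684), (97128, 684), (97812, 684), (98496, 684), (99180, 684), (99864, 684), (100548, 684), (101232, 684), (101916, 684), (102600, 684), (103284, 684), (103968, 684), (104652, 684), (105336, 684), (106020, 684), (106704, 684), (107388, 684), (108072, 684), (108756, 684), (109440, 684), (110124, 684), (110808, 684), (111492, 684), (112176, 684), (112860, 684), (113544, 684), (114228, 684), (114912, 684), (115596, 684), (116280, 684), (116964, 684), (117648, 684), (118332, 684), (119016, 684), (119700, 684), (120384, 684), (121068, 684), (121752, 684), (122436, 684), (123120, 684), (123804, 684), (124488, 684), (125172, 684), (125856, 684), (126540, 684), (127224, 684), (127908, 684), (128592, 684), (129276, 684), (129960, 684), (130644, 684), (131328, 684), (132012, 684), (132696, 684), (133380, 684), (134064, 684), (134748, 684), (135432, 684), (136116,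 684), (136800, 684), (137484, 684), (138168, 684), (138852, 684), (139536, 684), (140220, 684), (140904, 684), (141588, 684), (142272, 684), (142956, 684), (143640, 684), (144324, 684), (145008, 684), (145692, 684), (146376, 684), (147060, 684), (147744, 684), (148428, 684), (149112, 684), (149796, 684), (150480, 684), (151164, 684), (151848, 684), (152532, 684), (153216, 684), (153900, 684), (154584, 684), (155268, 684), (155952, 684), (156636, 684), (157320, 684), (158004, 684), (158688, 684), (159372, 684), (160056, 684), (160740, 684), (161424, 684), (162108, 684), (162792, 684), (163476, 684), (164160, 684), (164844, 684), (165528, 684), (166212, 684), (166896, 684), (167580, 684), (168264, 684), (168948, 684), (169632, 684), (170316, 684), (171000, 684), (171684, 684), (172368, 684), (173052, 684), (173736, 684), (174420, 684), (175104, 684), (175788, 684), (176472, 684), (177156, 684), (177840, 684), (178524, 684), (179208, 684), (179892, 684), (180576, 684), (181260, 684), (181944, 684), (182628, 684), (183312, 684), (183996, 684), (184680, 684), (185364, 684),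 (186048, 684), (186732, 684), (187416, 684), (188100, 684), (188784, 684), (189468, 684), (190152, 684), (190836, 684), (191520, 684), (192204, 684), (192888, 684), (193572, 684), (194256, 684), (194940, 684), (195624, 684), (196308, 684), (196992, 684), (197676, 684), (198360, 684), (199044, 684), (199728, 684), (200412, 684), (201096, 684), (201780, 684), (202464, 684), (203148, 684), (203832, 684), (204516, 684), (205200, 684), (205884, 684), (206568, 684), (207252, 684), (207936, 684), (208620, 684), (209304, 684), (209988, 684), (210672, 684), (211356, 684), (212040, 684), (212724, 684), (213408, 684), (214092, 684), (214776, 684), (215460, 684), (216144, 684), (216828, 684), (217512, 684), (218196, 684), (218880, 684), (219564, 684), (220248, 684), (220932, 684), (221616, 684), (222300, 684), (222984, 684), (223668, 684), (224352, 684), (225036, 684), (225720, 684), (226404, 684), (227088, 684), (227772, 684), (228456, 684), (229140, 684), (229824, 684), (230508, 684), (231192, 684), (231876, 684), (232560, 684), (233244, 684), (233928, 684), (234612, 684), (235296,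 684), (235980, 684), (236664, 684), (237348, 684), (238032, 684), (238716, 684), (239400, 684), (240084, 684), (240768, 684), (241452, 684), (242136, 684), (242820, 684), (243504, 684), (244188, 684), (244872, 684), (245556, 684), (246240, 684), (246924, 684), (247608, 684), (248292, 684), (248976, 684), (249660, 684), (250344, 684), (251028, 684), (251712, 684), (252396, 684), (253080, 684), (253764, 684), (254448, 684), (255132, 684), (255816, 684), (256500, 684), (257184, 684), (257868, 684), (258552, 684), (259236, 684), (259920, 684), (260604, 684), (261288, 684), (261972, 684), (262656, 684), (263340, 684), (264024, 684), (264708, 684), (265392, 684), (266076, 684), (266760, 684), (267444, 684), (268128, 684), (268812, 684), (269496, 684), (270180, 684), (270864, 684), (271548, 684), (272232, 684), (272916, 684), (273600, 684), (274284, 684), (274968, 684), (275652, 684), (276336, 684), (277020, 684), (277704, 684), (278388, 684), (279072, 684), (279756, 684), (280440, 684), (281124, 684), (281808, 684), (282492, 684), (283176, 684), (283860, 684), (284544, 684),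 (285228, 684), (285912, 684), (286596, 684), (287280, 684), (287964, 684), (288648, 684), (289332, 684), (290016, 684), (290700, 684), (291384, 684), (292068, 684), (292752, 684), (293436, 684), (294120, 684), (294804, 684), (295488, 684), (296172, 684), (296856, 684), (297540, 684), (298224, 684), (298908, 684), (299592, 684), (300276, 684), (300960, 684), (301644, 684), (302328, 684), (303012, 684), (303696, 684), (304380, 684), (305064, 684), (305748, 684), (306432, 504)] (by decide)
    (all_cons rel0_0 (all_cons rel0_1 (all_cons rel0_2 (all_cons rel0_3 (all_cons rel0_4 (all_cons rel0_5 (all_cons rel0_6 (all_cons rel0_7 (all_cons rel0_8 (all_cons rel0_9 (all_cons rel0_10 (all_cons rel0_11 (all_cons rel0_12 (all_cons rel0_13 (all_cons rel0_14 (all_cons rel0_15 (all_cons rel0_16 (all_cons rel0_17 (all_cons rel0_18 (all_cons rel0_19 (all_cons rel0_20 (all_cons rel0_21 (all_cons rel0_22 (all_cons rel0_23 (all_cons rel0_24 (all_cons rel0_25 (all_cons rel0_26 (all_cons rel0_27 (all_cons rel0_28 (all_cons rel0_29 (all_cons rel0_30 (all_cons rel0_31 (all_cons rel0_32 (all_cons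 rel0_33 (all_cons rel0_34 (all_cons rel0_35 (all_cons rel0_36 (all_cons rel0_37 (all_cons rel0_38 (all_cons rel0_39 (all_cons rel0_40 (all_cons rel0_41 (all_cons rel0_42 (all_cons rel0_43 (all_cons rel0_44 (all_cons rel0_45 (all_cons rel0_46 (all_cons rel0_47 (all_cons rel0_48 (all_cons rel0_49 (all_cons rel0_50 (all_cons rel0_51 (all_cons rel0_52 (all_cons rel0_53 (all_cons rel0_54 (all_cons rel0_55 (all_cons rel0_56 (all_cons rel0_57 (all_cons rel0_58 (all_cons rel0_59 (all_cons rel0_60 (all_cons rel0_61 (all_cons rel0_62 (all_cons rel0_63 (all_cons rel0_64 (all_cons rel0_65 (all_cons rel0_66 (all_cons rel0_67 (all_cons rel0_68 (all_cons rel0_69 (all_cons rel0_70 (all_cons rel0_71 (all_cons rel0_72 (all_cons rel0_73 (all_cons rel0_74 (all_cons rel0_75 (all_cons rel0_76 (all_cons rel0_77 (all_cons rel0_78 (all_cons rel0_79 (all_cons rel0_80 (all_cons rel0_81 (all_cons rel0_82 (all_cons rel0_83 (all_cons rel0_84 (all_cons rel0_85 (all_cons rel0_86 (all_cons rel0_87 (all_cons rel0_88 (all_cons rel0_89 (all_cons rel0_90 (all_cons rel0_91 (all_cons rel0_92 (all_cons rel0_93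 (all_cons rel0_94 (all_cons rel0_95 (all_cons rel0_96 (all_cons rel0_97 (all_cons rel0_98 (all_cons rel0_99 (all_cons rel0_100 (all_cons rel0_101 (all_cons rel0_102 (all_cons rel0_103 (all_cons rel0_104 (all_cons rel0_105 (all_cons rel0_106 (all_cons rel0_107 (all_cons rel0_108 (all_cons rel0_109 (all_cons rel0_110 (all_cons rel0_111 (all_cons rel0_112 (all_cons rel0_113 (all_cons rel0_114 (all_cons rel0_115 (all_cons rel0_116 (all_cons rel0_117 (all_cons rel0_118 (all_cons rel0_119 (all_cons rel0_120 (all_cons rel0_121 (all_cons rel0_122 (all_cons rel0_123 (all_cons rel0_124 (all_cons rel0_125 (all_cons rel0_126 (all_cons rel0_127 (all_cons rel0_128 (all_cons rel0_129 (all_cons rel0_130 (all_cons rel0_131 (all_cons rel0_132 (all_cons rel0_133 (all_cons rel0_134 (all_cons rel0_135 (all_cons rel0_136 (all_cons rel0_137 (all_cons rel0_138 (all_cons rel0_139 (all_cons rel0_140 (all_cons rel0_141 (all_cons rel0_142 (all_cons rel0_143 (all_cons rel0_144 (all_cons rel0_145 (all_cons rel0_146 (all_cons rel0_147 (all_cons rel0_148 (all_cons rel0_149 (all_cons rel0_150 (all_cons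 rel0_151 (all_cons rel0_152 (all_cons rel0_153 (all_cons rel0_154 (all_cons rel0_155 (all_cons rel0_156 (all_cons rel0_157 (all_cons rel0_158 (all_cons rel0_159 (all_cons rel0_160 (all_cons rel0_161 (all_cons rel0_162 (all_cons rel0_163 (all_cons rel0_164 (all_cons rel0_165 (all_cons rel0_166 (all_cons rel0_167 (all_cons rel0_168 (all_cons rel0_169 (all_cons rel0_170 (all_cons rel0_171 (all_cons rel0_172 (all_cons rel0_173 (all_cons rel0_174 (all_cons rel0_175 (all_cons rel0_176 (all_cons rel0_177 (all_cons rel0_178 (all_cons rel0_179 (all_cons rel0_180 (all_cons rel0_181 (all_cons rel0_182 (all_cons rel0_183 (all_cons rel0_184 (all_cons rel0_185 (all_cons rel0_186 (all_cons rel0_187 (all_cons rel0_188 (all_cons rel0_189 (all_cons rel0_190 (all_cons rel0_191 (all_cons rel0_192 (all_cons rel0_193 (all_cons rel0_194 (all_cons rel0_195 (all_cons rel0_196 (all_cons rel0_197 (all_cons rel0_198 (all_cons rel0_199 (all_cons rel0_200 (all_cons rel0_201 (all_cons rel0_202 (all_cons rel0_203 (all_cons rel0_204 (all_cons rel0_205 (all_cons rel0_206 (all_cons rel0_207 (all_cons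 rel0_208 (all_cons rel0_209 (all_cons rel0_210 (all_cons rel0_211 (all_cons rel0_212 (all_cons rel0_213 (all_cons rel0_214 (all_cons rel0_215 (all_cons rel0_216 (all_cons rel0_217 (all_cons rel0_218 (all_cons rel0_219 (all_cons rel0_220 (all_cons rel0_221 (all_cons rel0_222 (all_cons rel0_223 (all_cons rel0_224 (all_cons rel0_225 (all_cons rel0_226 (all_cons rel0_227 (all_cons rel0_228 (all_cons rel0_229 (all_cons rel0_230 (all_cons rel0_231 (all_cons rel0_232 (all_cons rel0_233 (all_cons rel0_234 (all_cons rel0_235 (all_cons rel0_236 (all_cons rel0_237 (all_cons rel0_238 (all_cons rel0_239 (all_cons rel0_240 (all_cons rel0_241 (all_cons rel0_242 (all_cons rel0_243 (all_cons rel0_244 (all_cons rel0_245 (all_cons rel0_246 (all_cons rel0_247 (all_cons rel0_248 (all_cons rel0_249 (all_cons rel0_250 (all_cons rel0_251 (all_cons rel0_252 (all_cons rel0_253 (all_cons rel0_254 (all_cons rel0_255 (all_cons rel0_256 (all_cons rel0_257 (all_cons rel0_258 (all_cons rel0_259 (all_cons rel0_260 (all_cons rel0_261 (all_cons rel0_262 (all_cons rel0_263 (all_cons rel0_264 (all_cons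 rel0_265 (all_cons rel0_266 (all_cons rel0_267 (all_cons rel0_268 (all_cons rel0_269 (all_cons rel0_270 (all_cons rel0_271 (all_cons rel0_272 (all_cons rel0_273 (all_cons rel0_274 (all_cons rel0_275 (all_cons rel0_276 (all_cons rel0_277 (all_cons rel0_278 (all_cons rel0_279 (all_cons rel0_280 (all_cons rel0_281 (all_cons rel0_282 (all_cons rel0_283 (all_cons rel0_284 (all_cons rel0_285 (all_cons rel0_286 (all_cons rel0_287 (all_cons rel0_288 (all_cons rel0_289 (all_cons rel0_290 (all_cons rel0_291 (all_cons rel0_292 (all_cons rel0_293 (all_cons rel0_294 (all_cons rel0_295 (all_cons rel0_296 (all_cons rel0_297 (all_cons rel0_298 (all_cons rel0_299 (all_cons rel0_300 (all_cons rel0_301 (all_cons rel0_302 (all_cons rel0_303 (all_cons rel0_304 (all_cons rel0_305 (all_cons rel0_306 (all_cons rel0_307 (all_cons rel0_308 (all_cons rel0_309 (all_cons rel0_310 (all_cons rel0_311 (all_cons rel0_312 (all_cons rel0_313 (all_cons rel0_314 (all_cons rel0_315 (all_cons rel0_316 (all_cons rel0_317 (all_cons rel0_318 (all_cons rel0_319 (all_cons rel0_320 (all_cons rel0_321 (all_cons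 rel0_322 (all_cons rel0_323 (all_cons rel0_324 (all_cons rel0_325 (all_cons rel0_326 (all_cons rel0_327 (all_cons rel0_328 (all_cons rel0_329 (all_cons rel0_330 (all_cons rel0_331 (all_cons rel0_332 (all_cons rel0_333 (all_cons rel0_334 (all_cons rel0_335 (all_cons rel0_336 (all_cons rel0_337 (all_cons rel0_338 (all_cons rel0_339 (all_cons rel0_340 (all_cons rel0_341 (all_cons rel0_342 (all_cons rel0_343 (all_cons rel0_344 (all_cons rel0_345 (all_cons rel0_346 (all_cons rel0_347 (all_cons rel0_348 (all_cons rel0_349 (all_cons rel0_350 (all_cons rel0_351 (all_cons rel0_352 (all_cons rel0_353 (all_cons rel0_354 (all_cons rel0_355 (all_cons rel0_356 (all_cons rel0_357 (all_cons rel0_358 (all_cons rel0_359 (all_cons rel0_360 (all_cons rel0_361 (all_cons rel0_362 (all_cons rel0_363 (all_cons rel0_364 (all_cons rel0_365 (all_cons rel0_366 (all_cons rel0_367 (all_cons rel0_368 (all_cons rel0_369 (all_cons rel0_370 (all_cons rel0_371 (all_cons rel0_372 (all_cons rel0_373 (all_cons rel0_374 (all_cons rel0_375 (all_cons rel0_376 (all_cons rel0_377 (all_cons rel0_378 (all_cons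 rel0_379 (all_cons rel0_380 (all_cons rel0_381 (all_cons rel0_382 (all_cons rel0_383 (all_cons rel0_384 (all_cons rel0_385 (all_cons rel0_386 (all_cons rel0_387 (all_cons rel0_388 (all_cons rel0_389 (all_cons rel0_390 (all_cons rel0_391 (all_cons rel0_392 (all_cons rel0_393 (all_cons rel0_394 (all_cons rel0_395 (all_cons rel0_396 (all_cons rel0_397 (all_cons rel0_398 (all_cons rel0_399 (all_cons rel0_400 (all_cons rel0_401 (all_cons rel0_402 (all_cons rel0_403 (all_cons rel0_404 (all_cons rel0_405 (all_cons rel0_406 (all_cons rel0_407 (all_cons rel0_408 (all_cons rel0_409 (all_cons rel0_410 (all_cons rel0_411 (all_cons rel0_412 (all_cons rel0_413 (all_cons rel0_414 (all_cons rel0_415 (all_cons rel0_416 (all_cons rel0_417 (all_cons rel0_418 (all_cons rel0_419 (all_cons rel0_420 (all_cons rel0_421 (all_cons rel0_422 (all_cons rel0_423 (all_cons rel0_424 (all_cons rel0_425 (all_cons rel0_426 (all_cons rel0_427 (all_cons rel0_428 (all_cons rel0_429 (all_cons rel0_430 (all_cons rel0_431 (all_cons rel0_432 (all_cons rel0_433 (all_cons rel0_434 (all_cons rel0_435 (all_cons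 rel0_436 (all_cons rel0_437 (all_cons rel0_438 (all_cons rel0_439 (all_cons rel0_440 (all_cons rel0_441 (all_cons rel0_442 (all_cons rel0_443 (all_cons rel0_444 (all_cons rel0_445 (all_cons rel0_446 (all_cons rel0_447 (all_cons rel0_448 all_nil)))))))))))))))))))))))))))))))))))))))))))))))))))))))))))))))))))))))))))))))))))))))))))))))))))))))))))))))))))))))))))))))))))))))))))))))))))))))))))))))))))))))))))))))))))))))))))))))))))))))))))))))))))))))))))))))))))))))))))))))))))))))))))))))))))))))))))))))))))))))))))))))))))))))))))))))))))))))))))))))))))))))))))))))))))))))))))))))))))))))))))))))))))))))))))))))))))))))))))))))))))))))))))))))))))))))))))))))))))))))))))))))))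

/-- a relation -/
theorem rel0 : ∀ q < 306936, (evalF f26 f27 fv [0, 2])^[36] q = (fun q => q) q :=
  fun q hq => Nat.eq_of_beq_eq_true (rel0_all q hq)

end Cfsg.Agent.Fi24Out
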