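import Cfsg.Agent.Lib.Lead.Fi24Out.D26
import Cfsg.Agent.Lib.Lead.Fi24Out.D27
import Cfsg.Agent.Lib.Lead.Fi24Out.DV
import Cfsg.Agent.Lib.Lead.Fi24Out.Kills

/-! # The outer automorphism group of Fi₂₄′: the relation number 0, slices (generated) -/

set_option autoImplicit false
set_option Elab.async false
set_option maxRecDepth 100000

namespace Cfsg.Agent.Fi24Out

open Cfsg.Agent.PF Cfsg.Agent.Lib.Helper6 Cfsg.Agent.Lib.Helper6.TC
open Cfsg.Agent.PL (Acts evalF)

theorem rel0_0 : allR 0 684 (fun q => (fun q => Nat.beq ((evalF f26 f27 fv [0, 2])^[36] q) ((fun q => q) q)) q) = true := by decide +kernel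

theorem rel0_1 : allR 684 684 (fun q => (fun q => Nat.beq ((evalF f26 f27 fv [0, 2])^[36] q) ((fun q => q) q)) q) = true := by decide +kernel

theorem rel0_2 : allR 1368 684 (fun q => (fun q => Nat.beq ((evalF f26 f27 fv [0, 2])^[36] q) ((fun q => q) q)) q) = true := by decide +kernel

theorem rel0_3 : allR 2052 684 (fun q => (fun q => Nat.beq ((evalF f26 f27 fv [0, 2])^[36] q) ((fun q => q) q)) q) = true := by decide +kernel

theorem rel0_4 : allR 2736 684 (fun q => (fun q => Nat.beq ((evalF f26 f27 fv [0, 2])^[36] q) ((fun q => q) q)) q) = true := by decide +kernel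

theorem rel0_5 : allR 3420 684 (fun q => (fun q => Nat.beq ((evalF f26 f27 fv [0, 2])^[36] q) ((fun q => q) q)) q) = true := by decide +kernel

theorem rel0_6 : allR 4104 684 (fun q => (fun q => Nat.beq ((evalF f26 f27 fv [0, 2])^[36] q) ((fun q => q) q)) q) = true := by decide +kernel

theorem rel0_7 : allR 4788 684 (fun q => (fun q => Nat.beq ((evalF f26 f27 fv [0, 2])^[36] q) ((fun q => q) q)) q) = true := by decide +kernel

theorem rel0_8 : allR 5472 684 (fun q => (fun q => Nat.beq ((evalF f26 f27 fv [0, 2])^[36] q) ((fun q => q) q)) q) = true := by decide +kernel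

theorem rel0_9 : allR 6156 684 (fun q => (fun q => Nat.beq ((evalF f26 f27 fv [0, 2])^[36] q) ((fun q => q) q)) q) = true := by decide +kernel

theorem rel0_10 : allR 6840 684 (fun q => (fun q => Nat.beq ((evalF f26 f27 fv [0, 2])^[36] q) ((fun q => q) q)) q) = true := by decide +kernel

theorem rel0_11 : allR 7524 684 (fun q => (fun q => Nat.beq ((evalF f26 f27 fv [0, 2])^[36] q) ((fun q => q) q)) q) = true := by decide +kernel

theorem rel0_12 : allR 8208 684 (fun q => (fun q => Nat.beq ((evalF f26 f27 fv [0, 2])^[36] q) ((fun q => q) q)) q) = true := by decide +kernel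

theorem rel0_13 : allR 8892 684 (fun q => (fun q => Nat.beq ((evalF f26 f27 fv [0, 2])^[36] q) ((fun q => q) q)) q) = true := by decide +kernel

theorem rel0_14 : allR 9576 684 (fun q => (fun q => Nat.beq ((evalF f26 f27 fv [0, 2])^[36] q) ((fun q => q) q)) q) = true := by decide +kernel

theorem rel0_15 : allR 10260 684 (fun q => (fun q => Nat.beq ((evalF f26 f27 fv [0, 2])^[36] q) ((fun q => q) q)) q) = true := by decide +kernel

theorem rel0_16 : allR 10944 684 (fun q => (fun q => Nat.beq ((evalF f26 f27 fv [0, 2])^[36] q) ((fun q => q) q)) q) = true := by decide +kernel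

theorem rel0_17 : allR 11628 684 (fun q => (fun q => Nat.beq ((evalF f26 f27 fv [0, 2])^[36] q) ((fun q => q) q)) q) = true := by decide +kernel

theorem rel0_18 : allR 12312 684 (fun q => (fun q => Nat.beq ((evalF f26 f27 fv [0, 2])^[36] q) ((fun q => q) q)) q) = true := by decide +kernel

theorem rel0_19 : allR 12996 684 (fun q => (fun q => Nat.beq ((evalF f26 f27 fv [0, 2])^[36] q) ((fun q => q) q)) q) = true := by decide +kernel


end Cfsg.Agent.Fi24Out
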