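import Cfsg.Agent.Lib.Lead.Fi24Out.D26
import Cfsg.Agent.Lib.Lead.Fi24Out.D27
import Cfsg.Agent.Lib.Lead.Fi24Out.DV
import Cfsg.Agent.Lib.Lead.Fi24Out.Kills

/-! # The outer automorphism group of Fi₂₄′: the relation number 1, slices (generated) -/

set_option autoImplicit false
set_option Elab.async false
set_option maxRecDepth 100000

namespace Cfsg.Agent.Fi24Out

open Cfsg.Agent.PF Cfsg.Agent.Lib.Helper6 Cfsg.Agent.Lib.Helper6.TC
open Cfsg.Agent.PL (Acts evalF)

theorem rel1_0 : allR 0 549 (fun q => (fun q => Nat.beq ((evalF f26 f27 fv [0, 1, 2])^[30] q) ((fun q => q) q)) q) = true := by decide +kernel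

theorem rel1_1 : allR 549 549 (fun q => (fun q => Nat.beq ((evalF f26 f27 fv [0, 1, 2])^[30] q) ((fun q => q) q)) q) = true := by decide +kernel

theorem rel1_2 : allR 1098 549 (fun q => (fun q => Nat.beq ((evalF f26 f27 fv [0, 1, 2])^[30] q) ((fun q => q) q)) q) = true := by decide +kernel

theorem rel1_3 : allR 1647 549 (fun q => (fun q => Nat.beq ((evalF f26 f27 fv [0, 1, 2])^[30] q) ((fun q => q) q)) q) = true := by decide +kernel

theorem rel1_4 : allR 2196 549 (fun q => (fun q => Nat.beq ((evalF f26 f27 fv [0, 1, 2])^[30] q) ((fun q => q) q)) q) = true := by decide +kernel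

theorem rel1_5 : allR 2745 549 (fun q => (fun q => Nat.beq ((evalF f26 f27 fv [0, 1, 2])^[30] q) ((fun q => q) q)) q) = true := by decide +kernel

theorem rel1_6 : allR 3294 549 (fun q => (fun q => Nat.beq ((evalF f26 f27 fv [0, 1, 2])^[30] q) ((fun q => q) q)) q) = true := by decide +kernel

theorem rel1_7 : allR 3843 549 (fun q => (fun q => Nat.beq ((evalF f26 f27 fv [0, 1, 2])^[30] q) ((fun q => q) q)) q) = true := by decide +kernel

theorem rel1_8 : allR 4392 549 (fun q => (fun q => Nat.beq ((evalF f26 f27 fv [0, 1, 2])^[30] q) ((fun q => q) q)) q) = true := by decide +kernel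

theorem rel1_9 : allR 4941 549 (fun q => (fun q => Nat.beq ((evalF f26 f27 fv [0, 1, 2])^[30] q) ((fun q => q) q)) q) = true := by decide +kernel

theorem rel1_10 : allR 5490 549 (fun q => (fun q => Nat.beq ((evalF f26 f27 fv [0, 1, 2])^[30] q) ((fun q => q) q)) q) = true := by decide +kernel

theorem rel1_11 : allR 6039 549 (fun q => (fun q => Nat.beq ((evalF f26 f27 fv [0, 1, 2])^[30] q) ((fun q => q) q)) q) = true := by decide +kernel

theorem rel1_12 : allR 6588 549 (fun q => (fun q => Nat.beq ((evalF f26 f27 fv [0, 1, 2])^[30] q) ((fun q => q) q)) q) = true := by decide +kernel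

theorem rel1_13 : allR 7137 549 (fun q => (fun q => Nat.beq ((evalF f26 f27 fv [0, 1, 2])^[30] q) ((fun q => q) q)) q) = true := by decide +kernel

theorem rel1_14 : allR 7686 549 (fun q => (fun q => Nat.beq ((evalF f26 f27 fv [0, 1, 2])^[30] q) ((fun q => q) q)) q) = true := by decide +kernel

theorem rel1_15 : allR 8235 549 (fun q => (fun q => Nat.beq ((evalF f26 f27 fv [0, 1, 2])^[30] q) ((fun q => q) q)) q) = true := by decide +kernel

theorem rel1_16 : allR 8784 549 (fun q => (fun q => Nat.beq ((evalF f26 f27 fv [0, 1, 2])^[30] q) ((fun q => q) q)) q) = true := by decide +kernel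

theorem rel1_17 : allR 9333 549 (fun q => (fun q => Nat.beq ((evalF f26 f27 fv [0, 1, 2])^[30] q) ((fun q => q) q)) q) = true := by decide +kernel

theorem rel1_18 : allR 9882 549 (fun q => (fun q => Nat.beq ((evalF f26 f27 fv [0, 1, 2])^[30] q) ((fun q => q) q)) q) = true := by decide +kernel

theorem rel1_19 : allR 10431 549 (fun q => (fun q => Nat.beq ((evalF f26 f27 fv [0, 1, 2])^[30] q) ((fun q => q) q)) q) = true := by decide +kernel


end Cfsg.Agent.Fi24Out
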